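import Mathlib.GroupTheory.Sylow
import Mathlib.GroupTheory.Index
import Mathlib.Tactic.Group
import Cfsg.Agent.H27.ClassBasic

/-! A finite group is not the union of the conjugates of a proper subgroup. -/

set_option autoImplicit false

namespace H27

open Subgroup

variable {G : Type*} [Group G] [Finite G]

theorem eq_top_of_forall_conj_mem (H : Subgroup G) (h : ∀ g : G, ∃ x : G, x⁻¹ * g * x ∈ H) :
    H = ⊤ := by
  classical
  cases nonempty_fintype G
  let f : (G ⧸ H) × {c : H // c ≠ 1} → G := fun t => t.1.out * (t.2.1 : G) * t.1.out⁻¹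
  have hsurj : ∀ g : {g : G // g ≠ 1}, ∃ t, f t = g.1 := by
    rintro ⟨g, hg⟩
    obtain ⟨x, hx⟩ := h g
    obtain ⟨n, hn⟩ := QuotientGroup.mk_out_eq_mul H x
    set r := ((x : G ⧸ H)).out with hrdef
    have hmem : r⁻¹ * g * r ∈ H := by
      rw [hn]
      have hsimp : (x * (n : G))⁻¹ * g * (x * n) = (n : G)⁻¹ * (x⁻¹ * g * x) * n := by group
      rw [hsimp]
      exact H.mul_mem (H.mul_mem (H.inv_mem n.2) hx) n.2
    refine ⟨(x, ⟨⟨_, hmem⟩, ?_⟩), ?_⟩
    · intro h1
      have h2 : r⁻¹ * g * r = 1 := congrArg Subtype.val h1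
      apply hg
      calc g = r * (r⁻¹ * g * r) * r⁻¹ := by group
        _ = 1 := by rw [h2]; group
    · show r * (r⁻¹ * g * r) * r⁻¹ = g
      group
  choose t ht using hsurj
  have hle : Nat.card {g : G // g ≠ 1} ≤ Nat.card ((G ⧸ H) × {c : H // c ≠ 1}) := by
    refine Nat.card_le_card_of_injective t fun a b hab => Subtype.ext ?_
    rw [← ht a, ← ht b, hab]
  have hH1 : Nat.card {c : H // c ≠ 1} + 1 = Nat.card H := by
    rw [← Nat.card_congr (Equiv.sumCompl (fun c : H => c = 1)), Nat.card_sum]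
    simp [add_comm]
  have hG1 : Nat.card {g : G // g ≠ 1} + 1 = Nat.card G := by
    rw [← Nat.card_congr (Equiv.sumCompl (fun c : G => c = 1)), Nat.card_sum]
    simp [add_comm]
  rw [Nat.card_prod] at hle
  change _ ≤ H.index * _ at hle
  have h3 := H.card_mul_index
  rw [← index_eq_one]
  have hpos : 0 < H.index := Nat.pos_of_ne_zero index_ne_zero_of_finite
  nlinarith

variable {p : ℕ} [Fact p.Prime]

theorem exists_smul_centralizer (P : Sylow p G) {x : G}
    (h : ¬ p ∣ (centralizer ({x} : Set G)).index) :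
    ∃ g : G, g⁻¹ * x * g ∈ centralizer ((P : Subgroup G) : Set G) := by
  obtain ⟨Q, hQ⟩ := not_dvd_index_cent_iff.mp h
  obtain ⟨g, rfl⟩ := MulAction.exists_smul_eq G P Q
  refine ⟨g, mem_centralizer_iff.mpr fun a ha => ?_⟩
  have hga : g * a * g⁻¹ ∈ ((g • P : Sylow p G) : Subgroup G) := by
    rw [Sylow.coe_subgroup_smul]
    exact Subgroup.mem_map_of_mem (MulAut.conj g).toMonoidHom ha
  have := congrArg (fun t => g⁻¹ * t * g) (mem_centralizer_iff.mp hQ _ hga)
  simpa [mul_assoc] using this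

/-- A prime dividing no class size has central Sylow subgroups. -/
theorem sylow_le_center_of_forall_not_dvd (P : Sylow p G)
    (h : ∀ x : G, ¬ p ∣ (centralizer ({x} : Set G)).index) : (P : Subgroup G) ≤ center G := by
  have htop := eq_top_of_forall_conj_mem (centralizer ((P : Subgroup G) : Set G))
    (fun g => exists_smul_centralizer P (h g))
  rw [centralizer_eq_top_iff_subset] at htop
  exact htop

theorem exists_central_ne_one (P : Sylow p G) (hp : p ∣ Nat.card G) :
    ∃ z ∈ (P : Subgroup G), z ≠ 1 ∧ z ∈ centralizer ((P : Subgroup G) : Set G) := by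
  have hne : (P : Subgroup G) ≠ ⊥ := P.ne_bot_of_dvd_card hp
  have : Nontrivial (P : Subgroup G) := (nontrivial_iff_ne_bot _).mpr hne
  have : Nontrivial (center (P : Subgroup G)) := P.isPGroup'.center_nontrivial
  obtain ⟨⟨z, hz⟩, hz1⟩ := exists_ne (1 : center (P : Subgroup G))
  refine ⟨z, z.2, fun h => hz1 (Subtype.ext (Subtype.ext h)), mem_centralizer_iff.mpr fun a ha => ?_⟩
  exact congrArg Subtype.val (mem_center_iff.mp hz ⟨a, ha⟩)

end H27
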