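import Mathlib.GroupTheory.Sylow
import Mathlib.GroupTheory.QuotientGroup.Basic
import Mathlib.Algebra.BigOperators.Group.Finset.Basic
import Mathlib.Algebra.BigOperators.GroupWithZero.Action
import Cfsg.Agent.H27.ClassBasic

/-! A `p`-group of conjugate rank one has central `p`-th powers (Ishikawa, Isaacs). -/

set_option autoImplicit false

namespace H27

open Subgroup
open scoped IsMulCommutative

variable {P : Type*} [Group P]

theorem prod_shift {p : ℕ} [hp : Fact p.Prime] {M : Type*} [CommMonoid M] (F : ℕ → M) {j : ℕ}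
    (hj0 : j ≠ 0) (hj : j < p) :
    ∏ i ∈ Finset.range p, F (i * j % p) = ∏ k ∈ Finset.range p, F k := by
  classical
  have hinj : Set.InjOn (fun i => i * j % p) (Finset.range p) := by
    intro a ha b hb h
    rw [Finset.coe_range, Set.mem_Iio] at ha hb
    have hcop : Nat.gcd p j = 1 := (Nat.Prime.coprime_iff_not_dvd hp.out).mpr
      fun hd => by have := Nat.le_of_dvd (Nat.pos_of_ne_zero hj0) hd; omega
    exact Nat.ModEq.eq_of_lt_of_lt (Nat.ModEq.cancel_right_of_coprime hcop h) ha hb
  have himg : (Finset.range p).image (fun i => i * j % p) = Finset.range p := by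
    refine Finset.eq_of_subset_of_card_le ?_ (by rw [Finset.card_image_of_injOn hinj])
    intro x hx
    obtain ⟨i, -, rfl⟩ := Finset.mem_image.mp hx
    exact Finset.mem_range.mpr (Nat.mod_lt _ hp.out.pos)
  conv_rhs => rw [← himg]
  rw [Finset.prod_image hinj]

theorem pow_mem_center_of_conjugate_rank_one [Finite P] {p : ℕ} [hp : Fact p.Prime]
    (hP : IsPGroup p P) (a : ℕ) (ha : 1 ≤ a)
    (hcs : ∀ y : P, y ∉ center P → (centralizer ({y} : Set P)).index = p ^ a) (x : P) :
    x ^ p ∈ center P := by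
  classical
  by_contra hx
  set Z := center P
  have hx0 : x ∉ Z := fun h => hx (pow_mem h p)
  -- centralisers of non-central elements all have the same order
  have heq : ∀ u v : P, u ∉ Z → v ∉ Z → centralizer ({u} : Set P) ≤ centralizer ({v} : Set P) →
      centralizer ({u} : Set P) = centralizer ({v} : Set P) := by
    intro u v hu hv hle
    refine eq_of_le_of_card_ge hle (le_of_eq ?_)
    have h1 := card_cent_mul_index u
    have h2 := card_cent_mul_index v
    rw [hcs u hu] at h1
    rw [hcs v hv] at h2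
    exact Nat.eq_of_mul_eq_mul_right (pow_pos hp.out.pos a) (h2.trans h1.symm)
  have hpow : ∀ u : P, u ^ p ∉ Z → centralizer ({u} : Set P) = centralizer ({u ^ p} : Set P) :=
    fun u hu => heq u _ (fun h => hu (pow_mem h p)) hu (cent_le_cent_pow u p)
  have hzc : ∀ u z : P, z ∈ Z → centralizer ({u * z} : Set P) = centralizer ({u} : Set P) := by
    intro u z hz
    ext g
    rw [mem_cent, mem_cent]
    have hgz : g * z = z * g := mem_center_iff.mp hz g
    constructor <;> intro h
    · apply mul_right_cancel (b := z)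
      rw [mul_assoc, h, mul_assoc u g z, hgz, mul_assoc]
    · rw [← mul_assoc, h, mul_assoc, hgz, mul_assoc]
  -- an element of the second centre of order `p` modulo the centre
  have hPQ : IsPGroup p (P ⧸ Z) := hP.to_quotient Z
  have hQnt : Nontrivial (P ⧸ Z) :=
    ⟨(x : P ⧸ Z), 1, fun h => hx0 ((QuotientGroup.eq_one_iff x).mp h)⟩
  have hcnt : Nontrivial (center (P ⧸ Z)) := hPQ.center_nontrivial
  obtain ⟨k, hk, hk'⟩ := (IsPGroup.nontrivial_iff_card (hPQ.to_subgroup (center (P ⧸ Z)))).mp hcnt
  obtain ⟨⟨bq, hbq⟩, hbo⟩ := exists_prime_orderOf_dvd_card' (G := center (P ⧸ Z)) p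
    (hk' ▸ dvd_pow_self p hk.ne')
  rw [Subgroup.orderOf_mk] at hbo
  obtain ⟨b, rfl⟩ := QuotientGroup.mk_surjective bq
  have hb : b ∉ Z := fun h => by
    rw [(QuotientGroup.eq_one_iff b).mpr h, orderOf_one] at hbo
    exact hp.out.one_lt.ne hbo
  have hbp : b ^ p ∈ Z := by
    rw [← QuotientGroup.eq_one_iff, QuotientGroup.mk_pow, ← hbo, pow_orderOf_eq_one]
  have hbcomm : ∀ g : P, ∃ z ∈ Z, g * b * g⁻¹ = b * z := by
    intro g
    refine ⟨b⁻¹ * (g * b * g⁻¹), ?_, by group⟩
    rw [← QuotientGroup.eq]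
    simp only [QuotientGroup.mk_mul, QuotientGroup.mk_inv, mem_center_iff.mp hbq (g : P ⧸ Z)]
    group
  set D := centralizer ({b} : Set P) with hD
  have hDn : D.Normal := ⟨fun d hd g => by
    have hh : g * b * g⁻¹ ∈ centralizer ({g * d * g⁻¹} : Set P) := by
      rw [mem_cent_conj]
      simpa [mul_assoc] using mem_cent_symm.mp hd
    obtain ⟨z, hz, hgb⟩ := hbcomm g
    rw [hgb, mem_cent_symm, hzc b z hz] at hh
    exact hh⟩
  -- elements with non-central `p`-th power have centraliser `D`
  have key1 : ∀ u : P, u ^ p ∉ Z → centralizer ({u} : Set P) = D := by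
    intro u hu
    have hu0 : u ∉ Z := fun h => hu (pow_mem h p)
    have hcq : ((u : P ⧸ Z)) * (b : P ⧸ Z) = (b : P ⧸ Z) * (u : P ⧸ Z) := mem_center_iff.mp hbq _
    have hcp : ∃ z ∈ Z, (u * b) ^ p = u ^ p * z := by
      refine ⟨(u ^ p)⁻¹ * (u * b) ^ p, ?_, by group⟩
      rw [← QuotientGroup.eq]
      simp only [QuotientGroup.mk_pow, QuotientGroup.mk_mul]
      rw [Commute.mul_pow hcq, ← QuotientGroup.mk_pow Z b p, (QuotientGroup.eq_one_iff _).mpr hbp,
        mul_one]
    obtain ⟨z, hz, hcp⟩ := hcp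
    have hle : centralizer ({u} : Set P) ≤ D := by
      have h1 : centralizer ({u * b} : Set P) = centralizer ({u} : Set P) := by
        rw [hpow (u * b), hcp, hzc _ z hz, ← hpow u hu]
        rw [hcp]
        exact fun h => hu (by simpa using mul_mem h (inv_mem hz))
      intro g hg
      have hc1 : Commute u g := mem_cent_comm.mp hg
      have hc2 : Commute (u * b) g := mem_cent_comm.mp (h1.symm ▸ hg)
      refine mem_cent_comm.mpr ?_
      simpa using hc1.inv_left.mul_left hc2
    exact heq u b hu0 hb hle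
  have key2 : ∀ y : P, y ∉ D → y ^ p ∈ Z := fun y hy => by
    by_contra h
    exact hy (key1 y h ▸ mem_cent.mpr rfl)
  set A := centralizer (D : Set P) with hA
  have : IsMulCommutative A := by
    refine .of_setLike_mul_comm fun s hs t ht => ?_
    have hsD : s ∈ D := mem_cent.mpr (mem_centralizer_iff.mp hs b (mem_cent.mpr rfl)).symm
    exact mem_centralizer_iff.mp ht s hsD
  have hAn : A.Normal := hA ▸ Subgroup.normal_centralizer (H := D)
  have hxA : x ∈ A := mem_centralizer_iff.mpr fun d hd => by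
    rw [hD, ← hD, SetLike.mem_coe, ← key1 x hx] at hd
    exact mem_cent.mp hd
  -- centralisers inside `A`
  have hAc : ∀ t ∈ A, ∀ y : P, y ∉ D → t * y = y * t → t ∈ Z := by
    intro t ht y hy hty
    by_contra htZ
    have hDt : D ≤ centralizer ({t} : Set P) := fun d hd =>
      mem_cent.mpr (mem_centralizer_iff.mp ht d hd)
    refine hy (?_ : y ∈ D)
    rw [hD, heq b t hb htZ hDt]
    exact mem_cent.mpr hty.symm
  -- the case of class size `p`
  rcases Nat.lt_or_ge a 2 with ha2 | ha2
  · obtain ⟨y, hy⟩ : ∃ y : P, y ∉ D := by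
      by_contra hall
      push Not at hall
      have hb' := hcs b hb
      rw [← hD, (eq_top_iff' D).mpr hall, index_top] at hb'
      exact (Nat.one_lt_pow (by omega : a ≠ 0) hp.out.one_lt).ne hb'
    set K := (centralizer ({y} : Set P)).subgroupOf A
    have hKi : K.index ≤ p := by
      have h1 : (centralizer ({y} : Set P)).relIndex A ≤ (centralizer ({y} : Set P)).relIndex ⊤ :=
        relIndex_le_of_le_right le_top index_ne_zero_of_finite
      rw [relIndex_top_right] at h1
      refine h1.trans ?_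
      by_cases hyZ : y ∈ Z
      · rw [index_cent_eq_one_iff.mpr hyZ]; exact hp.out.one_le
      · rw [hcs y hyZ, show a = 1 by omega, pow_one]
    have hKn : K.Normal := inferInstance
    obtain ⟨i, hi⟩ := (hP.to_subgroup A).index K
    have hxK : (⟨x, hxA⟩ : A) ^ p ∈ K := by
      have hi1 : i ≤ 1 := by
        by_contra hne
        have h2 : p ^ 2 ≤ p ^ i := Nat.pow_le_pow_right hp.out.pos (by omega)
        have h3 : p < p ^ 2 := by nlinarith [hp.out.one_lt]
        omega
      have h := K.pow_index_mem (⟨x, hxA⟩ : A)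
      rw [hi] at h
      interval_cases i
      · simp at h; exact pow_mem h p
      · simpa using h
    exact hx (hAc (x ^ p) (pow_mem hxA p) y hy ((mem_cent.mp hxK : x ^ p * y = y * x ^ p)))
  -- the general case
  have hQ1 : ∀ q : P ⧸ D, q ^ p = 1 := by
    intro q
    obtain ⟨y, rfl⟩ := QuotientGroup.mk_surjective q
    rw [← QuotientGroup.mk_pow, QuotientGroup.eq_one_iff]
    by_cases hy : y ∈ D
    · exact pow_mem hy p
    · exact (center_le_centralizer _) (key2 y hy)
  have hEcard : Nat.card (P ⧸ D) = p ^ a := hcs b hb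
  have hPE : IsPGroup p (P ⧸ D) := hP.to_quotient D
  have hEnt : Nontrivial (P ⧸ D) := Finite.one_lt_card_iff_nontrivial.mp
    (by rw [hEcard]; exact Nat.one_lt_pow (by omega) hp.out.one_lt)
  have := hPE.center_nontrivial
  obtain ⟨⟨eq', heq'⟩, hene⟩ := exists_ne (1 : center (P ⧸ D))
  have he1 : eq' ≠ 1 := fun h => hene (Subtype.ext h)
  obtain ⟨y, rfl⟩ := QuotientGroup.mk_surjective eq'
  have heord : orderOf (y : P ⧸ D) = p := orderOf_eq_prime (hQ1 _) he1
  obtain ⟨fq, hfq⟩ : ∃ fq : P ⧸ D, fq ∉ zpowers (y : P ⧸ D) := by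
    by_contra hall
    push Not at hall
    have : Nat.card (P ⧸ D) = p := by
      rw [← Nat.card_congr (topEquiv : (⊤ : Subgroup (P ⧸ D)) ≃* (P ⧸ D)).toEquiv,
        ← (eq_top_iff' _).mpr hall, Nat.card_zpowers, heord]
    rw [hEcard] at this
    have h2 : p ^ 2 ≤ p ^ a := Nat.pow_le_pow_right hp.out.pos ha2
    nlinarith [hp.out.one_lt]
  obtain ⟨w, rfl⟩ := QuotientGroup.mk_surjective fq
  let φ : P →* MulAut A := MulAut.conjNormal
  have hφD : ∀ d ∈ D, φ d = 1 := by
    intro d hd
    ext t
    show d * (t : P) * d⁻¹ = t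
    rw [mem_centralizer_iff.mp t.2 d hd, mul_inv_cancel_right]
  have hφeq : ∀ u v : P, (u : P ⧸ D) = v → φ u = φ v := by
    intro u v h
    have := hφD _ (QuotientGroup.eq.mp h)
    rwa [map_mul, map_inv, inv_mul_eq_one] at this
  set e := φ y
  set f := φ w
  have hf : f ^ p = 1 := by
    rw [← map_pow]; exact hφD _ ((QuotientGroup.eq_one_iff _).mp (by rw [QuotientGroup.mk_pow, hQ1]))
  have hef : Commute e f := by
    show φ y * φ w = φ w * φ y
    rw [← map_mul, ← map_mul]
    refine hφeq _ _ ?_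
    simp only [QuotientGroup.mk_mul]
    exact (mem_center_iff.mp heq' _).symm
  set W := Z.subgroupOf A with hW
  -- norms land in the centre
  have hnorm : ∀ g : P, g ∉ D → ∀ t : A, ∏ j ∈ Finset.range p, (φ g ^ j) t ∈ W := by
    intro g hg t
    have hprod : ∀ k, ((t : P) * g) ^ k =
        ((∏ j ∈ Finset.range k, (φ g ^ j) t : A) : P) * g ^ k := by
      intro k
      induction k with
      | zero => simp
      | succ k ih =>
        rw [Finset.prod_range_succ, pow_succ, ih, ← map_pow, Subgroup.coe_mul,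
          MulAut.conjNormal_apply, pow_succ]
        group
    have h1 : ((t : P) * g) ^ p ∈ Z := by
      refine key2 _ fun h => hg ?_
      have htD : (t : P) ∈ D :=
        mem_cent.mpr (mem_centralizer_iff.mp t.2 b (mem_cent.mpr rfl)).symm
      simpa using D.mul_mem (D.inv_mem htD) h
    rw [hprod p] at h1
    show ((∏ j ∈ Finset.range p, (φ g ^ j) t : A) : P) ∈ Z
    simpa using mul_mem h1 (inv_mem (key2 g hg))
  have hline : ∀ i, y * w ^ i ∉ D := by
    intro i h
    rw [← QuotientGroup.eq_one_iff, QuotientGroup.mk_mul, QuotientGroup.mk_pow,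
      mul_eq_one_iff_eq_inv] at h
    by_cases hd : p ∣ i
    · obtain ⟨c, rfl⟩ := hd
      rw [pow_mul, hQ1, one_pow, inv_one] at h
      exact he1 h
    · obtain ⟨m, hm⟩ := exists_pow_eq_self_of_coprime (x := (w : P ⧸ D)) (n := i)
        (((Nat.Prime.coprime_iff_not_dvd hp.out).mpr hd).symm.coprime_dvd_right
          (orderOf_dvd_of_pow_eq_one (hQ1 _)))
      apply hfq
      rw [← hm]
      exact pow_mem (by rw [← inv_inv ((w : P ⧸ D) ^ i), ← h]; exact inv_mem (mem_zpowers _)) m
  have hwD : w ∉ D := fun h => hfq (by rw [(QuotientGroup.eq_one_iff w).mpr h]; exact one_mem _)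
  set t : A := ⟨x, hxA⟩
  set n := ∏ k ∈ Finset.range p, (f ^ k) t with hn
  have hnW : n ∈ W := hnorm w hwD t
  have hefix : ∀ j, (e ^ j) n = n := by
    intro j
    apply Subtype.ext
    show ((φ y ^ j) n : A).1 = n.1
    have hc : y ^ j * (n : P) = (n : P) * y ^ j := mem_center_iff.mp hnW (y ^ j)
    rw [← map_pow, MulAut.conjNormal_apply, hc, mul_inv_cancel_right]
  have htot : ∏ i ∈ Finset.range p, ∏ j ∈ Finset.range p, (φ (y * w ^ i) ^ j) t ∈ W :=
    Subgroup.prod_mem _ fun i _ => hnorm _ (hline i) t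
  have hcalc : (∏ i ∈ Finset.range p, ∏ j ∈ Finset.range p, (φ (y * w ^ i) ^ j) t) * n =
      t ^ p * n ^ p := by
    rw [Finset.prod_comm]
    obtain ⟨q, hq⟩ : ∃ q, p = q + 1 := ⟨p - 1, by have := hp.out.pos; omega⟩
    have h0 : ∏ i ∈ Finset.range p, (φ (y * w ^ i) ^ 0) t = t ^ p := by simp
    have hsucc : ∀ j ∈ Finset.range q,
        ∏ i ∈ Finset.range p, (φ (y * w ^ i) ^ (j + 1)) t = n := by
      intro j hj
      rw [Finset.mem_range] at hj
      calc ∏ i ∈ Finset.range p, (φ (y * w ^ i) ^ (j + 1)) t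
          = ∏ i ∈ Finset.range p, (e ^ (j + 1)) ((f ^ (i * (j + 1) % p)) t) := by
            refine Finset.prod_congr rfl fun i _ => ?_
            rw [map_mul, map_pow, (hef.pow_right i).mul_pow, ← pow_mul,
              show f ^ (i * (j + 1)) = f ^ (i * (j + 1) % p) from pow_eq_pow_iff_modEq.mpr
                ((Nat.mod_modEq _ p).symm.of_dvd (orderOf_dvd_of_pow_eq_one hf))]
            rfl
        _ = (e ^ (j + 1)) (∏ i ∈ Finset.range p, (f ^ (i * (j + 1) % p)) t) :=
            (map_prod _ _ _).symm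
        _ = n := by
            rw [prod_shift (fun k => (f ^ k) t) (j := j + 1) (by omega) (by omega), ← hn, hefix]
    have hsplit : ∀ F : ℕ → A, ∏ j ∈ Finset.range p, F j = (∏ j ∈ Finset.range q, F (j + 1)) * F 0 := by
      intro F; rw [hq, Finset.prod_range_succ']
    rw [hsplit, h0, Finset.prod_congr rfl hsucc, Finset.prod_const, Finset.card_range, hq, pow_succ n q]
    simp only [mul_comm, mul_left_comm, mul_assoc]
  have : t ^ p ∈ W := by
    have h1 := mul_mem htot hnW
    rw [hcalc] at h1
    simpa using mul_mem h1 (inv_mem (pow_mem hnW p))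
  exact hx this

end H27
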