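import Mathlib.GroupTheory.Frattini
import Mathlib.GroupTheory.Sylow
import Mathlib.GroupTheory.SpecificGroups.Cyclic
import Cfsg.Agent.H31.InvariantMax

/-!
An element of order prime to `p` normalising a `p`-group and centralising its elements of order
`p` (and of order 4 if `p = 2`) centralises it, for every prime `p`.
-/

set_option autoImplicit false

namespace H27

open Subgroup

variable {G : Type*} [Group G]

/-- If `h` moves `r` by a fixed element of coprime order, it fixes `r`. -/
theorem commute_of_fixed_displacement {h r c : G} (hr : h * r * h⁻¹ = r * c)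
    (hc : Commute h c) (hcop : (orderOf h).Coprime (orderOf c)) : Commute h r := by
  have hit : ∀ n : ℕ, h ^ n * r * (h ^ n)⁻¹ = r * c ^ n := by
    intro n
    induction n with
    | zero => simp
    | succ n ih =>
      have h1 : h * c ^ n * h⁻¹ = c ^ n := by rw [(hc.pow_right n).eq, mul_inv_cancel_right]
      calc h ^ (n + 1) * r * (h ^ (n + 1))⁻¹ = h * (h ^ n * r * (h ^ n)⁻¹) * h⁻¹ := by
            rw [pow_succ']; group
        _ = h * r * h⁻¹ * (h * c ^ n * h⁻¹) := by rw [ih]; group
        _ = r * c ^ (n + 1) := by rw [hr, h1, pow_succ', mul_assoc]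
  have hn := hit (orderOf h)
  rw [pow_orderOf_eq_one, one_mul, inv_one, mul_one] at hn
  have hc1 : c ^ orderOf h = 1 := by simpa using hn.symm
  have hg : c ^ Nat.gcd (orderOf h) (orderOf c) = 1 := pow_gcd_eq_one.mpr ⟨hc1, pow_orderOf_eq_one c⟩
  rw [hcop.gcd_eq_one, pow_one] at hg
  rw [hg, mul_one] at hr
  calc h * r = h * r * h⁻¹ * h := by group
    _ = r * h := by rw [hr]

theorem commute_of_fixes_omega_aux [Finite G] {p : ℕ} [hp : Fact p.Prime] (h : G)
    (hcop : (orderOf h).Coprime p) :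
    ∀ n : ℕ, ∀ R : Subgroup G, Nat.card R ≤ n → IsPGroup p R → (∀ r ∈ R, h * r * h⁻¹ ∈ R) →
      (∀ r ∈ R, (orderOf r = p ∨ (p = 2 ∧ orderOf r = 4)) → Commute h r) →
      ∀ r ∈ R, Commute h r := by
  classical
  intro n
  induction n with
  | zero =>
    intro R hcard
    exact absurd hcard (not_le.mpr Nat.card_pos)
  | succ n ih =>
  intro R hcard hR hinv hfix r hr
  have hcopc : ∀ c ∈ R, (orderOf h).Coprime (orderOf c) := by
    intro c hc
    obtain ⟨i, hi⟩ := IsPGroup.iff_orderOf.mp hR ⟨c, hc⟩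
    rw [Subgroup.orderOf_mk] at hi
    rw [hi]
    exact hcop.pow_right i
  -- proper invariant subgroups are centralised
  have hsub : ∀ S : Subgroup G, S ≤ R → S ≠ R → (∀ s ∈ S, h * s * h⁻¹ ∈ S) →
      ∀ s ∈ S, Commute h s := by
    intro S hS hne hSinv
    refine ih S ?_ (hR.to_le hS) hSinv (fun s hs => hfix s (hS hs))
    have : Nat.card S < Nat.card R := by
      by_contra hle
      exact hne (eq_of_le_of_card_ge hS (not_lt.mp hle))
    omega
  let d : G → G := fun s => s⁻¹ * (h * s * h⁻¹)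
  have hd : ∀ s ∈ R, d s ∈ R := fun s hs => R.mul_mem (R.inv_mem hs) (hinv s hs)
  set L := closure (d '' (R : Set G)) with hL
  have hLR : L ≤ R := (closure_le _).mpr (by rintro _ ⟨s, hs, rfl⟩; exact hd s hs)
  have hLinv : ∀ s ∈ L, h * s * h⁻¹ ∈ L := by
    have : L ≤ L.comap (MulAut.conj h).toMonoidHom := by
      rw [hL, closure_le]
      rintro _ ⟨s, hs, rfl⟩
      refine subset_closure ⟨h * s * h⁻¹, hinv s hs, ?_⟩
      simp [d, mul_assoc]
    exact fun s hs => this hs
  by_cases hLne : L ≠ R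
  · exact commute_of_fixed_displacement (c := d r) (by simp [d])
      (hsub L hLR hLne hLinv _ (subset_closure ⟨r, hr, rfl⟩)) (hcopc _ (hd r hr))
  rw [not_not] at hLne
  rcases subsingleton_or_nontrivial R with hs | hnt
  · have : (⟨r, hr⟩ : R) = 1 := Subsingleton.elim _ _
    have : r = 1 := congrArg Subtype.val this
    subst this
    exact Commute.one_right h
  set Φ := (frattini R).map R.subtype with hΦdef
  have hΦR : Φ ≤ R := map_subtype_le _
  have hmemΦ : ∀ {x : G}, x ∈ Φ ↔ ∃ hx : x ∈ R, (⟨x, hx⟩ : R) ∈ frattini R := by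
    intro x
    constructor
    · rintro ⟨y, hy, rfl⟩
      exact ⟨y.2, hy⟩
    · rintro ⟨hx, hy⟩
      exact ⟨⟨x, hx⟩, hy, rfl⟩
  have hconjΦ : ∀ g : G, (∀ s ∈ R, g * s * g⁻¹ ∈ R) → ∀ z ∈ Φ, g * z * g⁻¹ ∈ Φ := by
    intro g hg z hz
    obtain ⟨hzR, hzF⟩ := hmemΦ.mp hz
    let f : R →* R :=
      { toFun := fun s => ⟨g * s * g⁻¹, hg s s.2⟩
        map_one' := Subtype.ext (by simp)
        map_mul' := fun a b => Subtype.ext (by simp [mul_assoc]) }
    have hinj : Function.Injective f := fun a b hab => Subtype.ext (by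
      have := congrArg Subtype.val hab
      simpa [f] using this)
    let e : R ≃* R := MulEquiv.ofBijective f
      ⟨hinj, (Finite.injective_iff_surjective).mp hinj⟩
    have h1 := Subgroup.characteristic_iff_map_le.mp (frattini_characteristic (G := R)) e
      (mem_map_of_mem _ hzF)
    exact hmemΦ.mpr ⟨hg z hzR, h1⟩
  have hΦne : Φ ≠ R := by
    intro he
    obtain ⟨M, hM, -⟩ := (IsCoatomic.eq_top_or_exists_le_coatom (⊥ : Subgroup R)).resolve_left
      (bot_ne_top)
    refine hM.1 (eq_top_iff.mpr fun x _ => ?_)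
    obtain ⟨y, hy, hyx⟩ := (he.symm ▸ x.2 : (x : G) ∈ Φ)
    obtain rfl : y = x := Subtype.ext hyx
    exact frattini_le_coatom hM hy
  have hΦfix : ∀ z ∈ Φ, Commute h z := hsub Φ hΦR hΦne (hconjΦ h hinv)
  have hRconj : ∀ s ∈ R, ∀ t ∈ R, s * t * s⁻¹ ∈ R := fun s hs t ht =>
    R.mul_mem (R.mul_mem hs ht) (R.inv_mem hs)
  -- `Φ` is central in `R`
  have hΦcent : ∀ z ∈ Φ, ∀ s ∈ R, Commute z s := by
    intro z hz
    have hle : L ≤ centralizer ({z} : Set G) := by
      rw [hL, closure_le]
      rintro _ ⟨s, hs, rfl⟩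
      have h1 : Commute h (s * z * s⁻¹) := hΦfix _ (hconjΦ s (hRconj s hs) z hz)
      have h2 : h * (s * z * s⁻¹) * h⁻¹ = s * z * s⁻¹ := by rw [h1.eq, mul_inv_cancel_right]
      have h3 : h * z * h⁻¹ = z := by rw [(hΦfix z hz).eq, mul_inv_cancel_right]
      set t := h * s * h⁻¹
      have h4 : t * z * t⁻¹ = s * z * s⁻¹ := by
        calc t * z * t⁻¹ = t * (h * z * h⁻¹) * t⁻¹ := by rw [h3]
          _ = h * (s * z * s⁻¹) * h⁻¹ := by simp only [t]; group
          _ = _ := h2
      rw [SetLike.mem_coe, Subgroup.mem_centralizer_singleton_iff]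
      show d s * z = z * d s
      have : d s * z * (d s)⁻¹ = z := by
        calc d s * z * (d s)⁻¹ = s⁻¹ * (t * z * t⁻¹) * s := by simp only [d, t]; group
          _ = z := by rw [h4]; group
      exact mul_inv_eq_iff_eq_mul.mp this
    intro s hs
    have := Subgroup.mem_centralizer_singleton_iff.mp (hle (hLne.symm ▸ hs : s ∈ L))
    exact this.symm
  -- the displacement of `r` has order dividing `p`, or `4`
  set c := d r
  have hcR : c ∈ R := hd r hr
  have hcom : ∀ a ∈ R, ∀ b ∈ R, a⁻¹ * b⁻¹ * a * b ∈ Φ := by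
    intro a ha b hb
    refine hmemΦ.mpr ⟨R.mul_mem (R.mul_mem (R.mul_mem (R.inv_mem ha) (R.inv_mem hb)) ha) hb, ?_⟩
    have h1 := H31.commutator_le_frattini hR
      (Subgroup.commutator_mem_commutator (Subgroup.mem_top (⟨a, ha⟩⁻¹ : R))
        (Subgroup.mem_top (⟨b, hb⟩⁻¹ : R)))
    convert h1 using 1
    apply Subtype.ext
    simp [commutatorElement_def, mul_assoc]
  have hpow : ∀ a ∈ R, a ^ p ∈ Φ := fun a ha =>
    hmemΦ.mpr ⟨R.pow_mem ha p, H31.pow_mem_frattini hR ⟨a, ha⟩⟩
  set z := c⁻¹ * r⁻¹ * c * r with hz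
  have hzΦ : z ∈ Φ := hcom c hcR r hr
  have hzc : ∀ s ∈ R, Commute z s := hΦcent z hzΦ
  have hswap : c * r = r * c * z := by rw [hz]; group
  -- collecting
  have hcol : ∀ m : ℕ, (r * c) ^ m = r ^ m * c ^ m * z ^ (m.choose 2) ∧ c ^ m * r = r * c ^ m * z ^ m := by
    intro m
    induction m with
    | zero => simp
    | succ m ihm =>
      have hzr := hzc r hr
      have hzcc := hzc c hcR
      constructor
      · calc (r * c) ^ (m + 1) = r ^ m * c ^ m * z ^ (m.choose 2) * (r * c) := by
              rw [pow_succ, ihm.1]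
          _ = r ^ m * (c ^ m * r) * c * z ^ (m.choose 2) := by
              rw [mul_assoc _ _ (r * c), ((hzr.mul_right hzcc).pow_left _).eq]; group
          _ = r ^ m * r * (c ^ m * (z ^ m * c)) * z ^ (m.choose 2) := by rw [ihm.2]; group
          _ = r ^ (m + 1) * c ^ (m + 1) * (z ^ m * z ^ (m.choose 2)) := by
              rw [(hzcc.pow_left m).eq]; group
          _ = _ := by rw [← pow_add, Nat.choose_succ_succ, Nat.choose_one_right]
      · calc c ^ (m + 1) * r = c * (c ^ m * r) := by rw [pow_succ', mul_assoc]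
          _ = c * r * c ^ m * z ^ m := by rw [ihm.2]; group
          _ = r * (c * (z * c ^ m)) * z ^ m := by rw [hswap]; group
          _ = r * (c * c ^ m) * (z * z ^ m) := by rw [(hzcc.pow_right m).eq]; group
          _ = _ := by rw [← pow_succ', ← pow_succ']
  have hzp : z ^ p = 1 := by
    have h1 : c ^ p * r = r * c ^ p := (hΦcent _ (hpow c hcR) r hr).eq
    have h2 := (hcol p).2
    rw [h1] at h2
    simpa using h2
  have hrc : r * c = h * r * h⁻¹ := by simp [c, d]
  have hrp : (r * c) ^ p = r ^ p := by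
    rw [hrc, ← MulAut.conj_apply, ← map_pow, MulAut.conj_apply, (hΦfix _ (hpow r hr)).eq,
      mul_inv_cancel_right]
  rw [(hcol p).1, mul_assoc] at hrp
  have hcp : c ^ p * z ^ (p.choose 2) = 1 := mul_left_cancel (hrp.trans (mul_one _).symm)
  have hcfix : Commute h c := by
    rcases eq_or_ne c 1 with hc1 | hc1
    · rw [hc1]; exact Commute.one_right h
    refine hfix c hcR ?_
    rcases eq_or_ne p 2 with rfl | hp2
    · have h4 : c ^ 4 = 1 := by
        rw [show Nat.choose 2 2 = 1 from rfl, pow_one] at hcp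
        have : c ^ 2 = z⁻¹ := eq_inv_of_mul_eq_one_left hcp
        rw [show (4 : ℕ) = 2 * 2 from rfl, pow_mul, this, inv_pow, hzp, inv_one]
      obtain ⟨i, hi, hi'⟩ := (Nat.dvd_prime_pow Nat.prime_two).mp
        (show orderOf c ∣ 2 ^ 2 from orderOf_dvd_of_pow_eq_one h4)
      interval_cases i
      · exact absurd (orderOf_eq_one_iff.mp (by simpa using hi')) hc1
      · exact Or.inl (by simpa using hi')
      · exact Or.inr ⟨rfl, by simpa using hi'⟩
    · have hdvd : p ∣ p.choose 2 :=
        hp.out.dvd_choose_self (by omega) (by have := hp.out.two_le; omega)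
      obtain ⟨j, hj⟩ := hdvd
      rw [hj, pow_mul, hzp, one_pow, mul_one] at hcp
      exact Or.inl (orderOf_eq_prime hcp hc1)
  exact commute_of_fixed_displacement (c := c) (by simp [c, d]) hcfix (hcopc c hcR)

/-- An element of order prime to `p` normalising the `p`-group `R` and centralising its elements of
order `p` (and `4` if `p = 2`) centralises `R`. -/
theorem commute_of_fixes_omega [Finite G] {p : ℕ} [Fact p.Prime] {h : G}
    (hcop : (orderOf h).Coprime p) {R : Subgroup G} (hR : IsPGroup p R)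
    (hinv : ∀ r ∈ R, h * r * h⁻¹ ∈ R)
    (hfix : ∀ r ∈ R, (orderOf r = p ∨ (p = 2 ∧ orderOf r = 4)) → Commute h r) :
    ∀ r ∈ R, Commute h r :=
  commute_of_fixes_omega_aux h hcop _ R le_rfl hR hinv hfix

end H27
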