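import Mathlib.GroupTheory.Sylow
import Cfsg.Prelude.Def_Solvable
import Cfsg.Agent.H1.Cores
import Cfsg.Agent.H1.Wielandt
import Cfsg.Agent.H5.Frobenius
import Cfsg.Agent.H84.PQLemma
import Cfsg.Agent.H27.ClassBasic
import Cfsg.Agent.H27.OmegaFixed

/-! Elements of `p`-power order with classes of `p`-power size. -/

set_option autoImplicit false

namespace H27

open Subgroup
open scoped commutatorElement

variable {G : Type*} [Group G] [Finite G] {p : ℕ} [hp : Fact p.Prime]

theorem exists_cent_mul_sylow (P : Sylow p G) {x : G} {a : ℕ}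
    (hidx : (centralizer ({x} : Set G)).index = p ^ a) (g : G) :
    ∃ u ∈ (P : Subgroup G), g * x * g⁻¹ = u * x * u⁻¹ := by
  obtain ⟨c, hc, u, hu, hcu⟩ := H1.exists_mul_eq_of_coprime_index (centralizer ({x} : Set G))
    (P : Subgroup G)
    (by rw [hidx]; exact (hp.out.coprime_iff_not_dvd.mpr P.not_dvd_index).pow_left a) g⁻¹
  refine ⟨u⁻¹, (P : Subgroup G).inv_mem hu, ?_⟩
  have hg : g = u⁻¹ * c⁻¹ := by rw [← inv_inv g, hcu, mul_inv_rev]
  have hcc : c⁻¹ * x * c = x := by
    rw [mul_assoc, ← mem_cent.mp hc, inv_mul_cancel_left]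
  rw [hg]
  calc u⁻¹ * c⁻¹ * x * (u⁻¹ * c⁻¹)⁻¹ = u⁻¹ * (c⁻¹ * x * c) * u⁻¹⁻¹ := by group
    _ = _ := by rw [hcc]

/-- A `p`-element with class of `p`-power size lies in `O_p(G)`. -/
theorem mem_pCore_of_index_eq_pow {x : G} (hx : ∃ k, orderOf x = p ^ k) {a : ℕ}
    (hidx : (centralizer ({x} : Set G)).index = p ^ a) : x ∈ Cfsg.pCore p G := by
  obtain ⟨k, hk⟩ := hx
  obtain ⟨P, hP⟩ := IsPGroup.exists_le_sylow
    (IsPGroup.of_card (p := p) (G := zpowers x) (n := k) (by rw [Nat.card_zpowers, hk]))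
  have hle : normalClosure ({x} : Set G) ≤ (P : Subgroup G) := by
    refine (closure_le _).mpr ?_
    intro y hy
    simp only [Group.mem_conjugatesOfSet_iff, Set.mem_singleton_iff, exists_eq_left] at hy
    obtain ⟨g, rfl⟩ := isConj_iff.mp hy
    obtain ⟨u, hu, heq⟩ := exists_cent_mul_sylow P hidx g
    rw [heq]
    exact (P : Subgroup G).mul_mem ((P : Subgroup G).mul_mem hu (hP (mem_zpowers x)))
      ((P : Subgroup G).inv_mem hu)
  exact H1.le_pCore (P.isPGroup'.to_le hle) (subset_normalClosure rfl)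

theorem commute_of_primePow_classes_aux
    (h : ∀ x : G, (orderOf x = p ∨ (p = 2 ∧ orderOf x = 4)) →
      ∃ a : ℕ, (centralizer ({x} : Set G)).index = p ^ a) :
    ∀ n : ℕ, ∀ R : Subgroup G, Nat.card R ≤ n → R.Normal → IsPGroup p R →
      ∀ g : G, (orderOf g).Coprime p → ∀ r ∈ R, Commute g r := by
  classical
  intro n
  induction n with
  | zero =>
    intro R hcard
    exact absurd hcard (not_le.mpr Nat.card_pos)
  | succ n ih =>
  intro R hcard hRn hR g hg r hr
  set S := {x : G | x ∈ R ∧ (orderOf x = p ∨ (p = 2 ∧ orderOf x = 4))}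
  have hsmall : ∀ T : Subgroup G, T.Normal → T < R → ∀ t ∈ T, Commute g t := by
    intro T hTn hT
    refine ih T ?_ hTn (hR.to_le hT.le) g hg
    have : Nat.card T < Nat.card R := by
      by_contra hle
      exact hT.ne (eq_of_le_of_card_ge hT.le (not_lt.mp hle))
    omega
  have hinvS : ∀ a : G, ∀ x ∈ S, a * x * a⁻¹ ∈ S := by
    intro a x hx
    refine ⟨hRn.conj_mem x hx.1 a, ?_⟩
    rw [← MulAut.conj_apply, MulEquiv.orderOf_eq]
    exact hx.2
  set R₀ := closure S with hR₀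
  have hR₀le : R₀ ≤ R := (closure_le _).mpr fun x hx => hx.1
  have hR₀n : R₀.Normal := by
    refine ⟨fun x hx a => ?_⟩
    have : R₀ ≤ R₀.comap (MulAut.conj a).toMonoidHom := by
      rw [hR₀, closure_le]
      exact fun y hy => subset_closure (hinvS a y hy)
    exact this hx
  rcases eq_or_lt_of_le hR₀le with heq | hlt
  swap
  · exact commute_of_fixes_omega hg hR (fun s hs => hRn.conj_mem s hs g)
      (fun s hs hso => hsmall R₀ hR₀n hlt s (subset_closure ⟨hs, hso⟩)) r hr
  rcases eq_or_ne R ⊥ with rfl | hne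
  · rw [mem_bot.mp hr]; exact Commute.one_right g
  obtain ⟨T, hT⟩ := exists_maximal_of_wellFoundedGT (fun T : Subgroup G => T.Normal ∧ T < R)
    ⟨⊥, inferInstance, bot_lt_iff_ne_bot.mpr hne⟩
  obtain ⟨hTn, hTlt⟩ := hT.prop
  set π := QuotientGroup.mk' T
  obtain ⟨P⟩ : Nonempty (Sylow p G) := inferInstance
  have hRP : R ≤ (P : Subgroup G) := hR.le_sylow_of_normal P
  set U := R.map π with hU
  set PQ := (P : Subgroup G).map π
  have hUn : U.Normal := hRn.map π (QuotientGroup.mk'_surjective T)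
  have hUne : U ≠ ⊥ := by
    rw [hU, ne_eq, Subgroup.map_eq_bot_iff, QuotientGroup.ker_mk']
    exact fun hle => hTlt.not_ge hle
  have hVlt : ⁅U, PQ⁆ < U := H84.commutator_lt_of_isPGroup (hR.map π) (P.isPGroup'.map π)
    (normalizer_eq_top (H := U) ▸ le_top) hUne
  set V := ⁅U, PQ⁆
  -- modulo `V` all conjugates of a generator agree
  have hgen : ∀ a : G ⧸ T, ∀ y ∈ U, ⁅a, y⁆ ∈ V := by
    intro a
    obtain ⟨a, rfl⟩ := QuotientGroup.mk'_surjective T a
    let C : Subgroup (G ⧸ T) :=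
      { carrier := {y | y ∈ U ∧ ⁅π a, y⁆ ∈ V}
        one_mem' := ⟨one_mem _, by simp⟩
        mul_mem' := by
          rintro y z ⟨hy, hy'⟩ ⟨hz, hz'⟩
          refine ⟨mul_mem hy hz, ?_⟩
          have hw : y * ⁅π a, z⁆ * y⁻¹ ∈ V := by
            have h1 : ⁅⁅π a, z⁆, y⁻¹⁆ ∈ V := commutator_mem_commutator (hVlt.le hz')
              (mem_map.mpr (by
                obtain ⟨b, hb, hby⟩ := hy
                exact ⟨b⁻¹, inv_mem (hRP hb), (map_inv π b).trans (congrArg (·⁻¹) hby)⟩))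
            have h2 := inv_mem (inv_mem hz')
            have h3 : y * ⁅π a, z⁆ * y⁻¹ =
                y * (⁅π a, z⁆ * y⁻¹ * ⁅π a, z⁆⁻¹ * y) * y⁻¹ * ⁅π a, z⁆ := by group
            rw [h3, show ⁅π a, z⁆ * y⁻¹ * ⁅π a, z⁆⁻¹ * y = ⁅⁅π a, z⁆, y⁻¹⁆ by
              simp [commutatorElement_def, mul_assoc]]
            refine mul_mem ?_ hz'
            have hnV : y ∈ normalizer (V : Set (G ⧸ T)) := by
              refine normalizer_commutator_ge_right U PQ ?_
              obtain ⟨b, hb, hby⟩ := hy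
              exact ⟨b, hRP hb, hby⟩
            exact (mem_normalizer_iff.mp hnV _).mp h1
          show ⁅π a, y * z⁆ ∈ V
          have : ⁅π a, y * z⁆ = ⁅π a, y⁆ * (y * ⁅π a, z⁆ * y⁻¹) := by
            simp [commutatorElement_def, mul_assoc]
          rw [this]
          exact mul_mem hy' hw
        inv_mem' := by
          rintro y ⟨hy, hy'⟩
          refine ⟨inv_mem hy, ?_⟩
          show ⁅π a, y⁻¹⁆ ∈ V
          have : ⁅π a, y⁻¹⁆ = y⁻¹ * ⁅π a, y⁆⁻¹ * y := by simp [commutatorElement_def, mul_assoc]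
          rw [this]
          have hnV : y⁻¹ ∈ normalizer (V : Set (G ⧸ T)) := by
            refine inv_mem (normalizer_commutator_ge_right U PQ ?_)
            obtain ⟨b, hb, hby⟩ := hy
            exact ⟨b, hRP hb, hby⟩
          simpa using (mem_normalizer_iff.mp hnV _).mp (inv_mem hy') }
    have hUC : U ≤ C := by
      rw [hU, ← heq, hR₀, MonoidHom.map_closure, closure_le]
      rintro _ ⟨x, hx, rfl⟩
      refine ⟨mem_map_of_mem _ hx.1, ?_⟩
      obtain ⟨i, hi⟩ := h x hx.2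
      obtain ⟨u, hu, hgu⟩ := exists_cent_mul_sylow P hi a
      have h1 : ⁅π a, π x⁆ = ⁅π u, π x⁆ := by
        simp only [commutatorElement_def, ← map_inv, ← map_mul]
        rw [show a * x * a⁻¹ * x⁻¹ = u * x * u⁻¹ * x⁻¹ by rw [hgu]]
      show ⁅π a, π x⁆ ∈ V
      rw [h1, ← commutatorElement_inv]
      exact inv_mem (commutator_mem_commutator (mem_map_of_mem _ hx.1) (mem_map_of_mem _ hu))
    exact fun y hy => (hUC hy).2
  set W := ⁅(⊤ : Subgroup (G ⧸ T)), U⁆
  have hWV : W ≤ V := commutator_le.mpr fun a _ y hy => hgen a y hy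
  have hWcomap : W.comap π ≤ T := by
    have hTle : T ≤ W.comap π := by
      intro t ht
      rw [mem_comap, show π t = 1 from (QuotientGroup.eq_one_iff t).mpr ht]
      exact one_mem _
    refine hT.le_of_ge ⟨(commutator_normal _ U).comap π, ?_⟩ hTle
    have hR' : U.comap π = R := by
      rw [hU, comap_map_eq_self (by rw [QuotientGroup.ker_mk']; exact hTlt.le)]
    refine lt_of_le_of_ne ((comap_mono (hWV.trans hVlt.le)).trans hR'.le) fun he => hVlt.not_ge ?_
    rw [hU, ← he, map_comap_eq_self_of_surjective (QuotientGroup.mk'_surjective T)]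
    exact hWV
  have hmem : ⁅g, r⁆ ∈ T := hWcomap (by
    rw [mem_comap, map_commutatorElement]
    exact commutator_mem_commutator (mem_top _) (mem_map_of_mem _ hr))
  set c := r⁻¹ * (g * r * g⁻¹)
  have hcT : c ∈ T := by
    have h1 := hTn.conj_mem _ hmem r⁻¹
    have : r⁻¹ * ⁅g, r⁆ * r⁻¹⁻¹ = c := by simp [c, commutatorElement_def, mul_assoc]
    rwa [this] at h1
  refine commute_of_fixed_displacement (c := c) (by simp [c]) (hsmall T hTn hTlt c hcT) ?_
  obtain ⟨i, hi⟩ := IsPGroup.iff_orderOf.mp hR ⟨c, hTlt.le hcT⟩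
  rw [Subgroup.orderOf_mk] at hi
  rw [hi]
  exact hg.pow_right i

theorem hasNormalPComplement_of_primePow_classes
    (h : ∀ x : G, (orderOf x = p ∨ (p = 2 ∧ orderOf x = 4)) →
      ∃ a : ℕ, (centralizer ({x} : Set G)).index = p ^ a) :
    Cfsg.HasNormalPComplement p G := by
  obtain ⟨P⟩ : Nonempty (Sylow p G) := inferInstance
  refine H5.hasNormalPComplement_of_frobenius P fun Q hQP g hgn hg => ?_
  have hQ : IsPGroup p Q := P.isPGroup'.to_le hQP
  have hfix : ∀ r ∈ Q, (orderOf r = p ∨ (p = 2 ∧ orderOf r = 4)) → Commute g r := by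
    intro r _ hro
    obtain ⟨a, ha⟩ := h r hro
    have hk : ∃ k, orderOf r = p ^ k := by
      rcases hro with h1 | ⟨rfl, h1⟩
      · exact ⟨1, by rw [h1, pow_one]⟩
      · exact ⟨2, h1⟩
    exact commute_of_primePow_classes_aux h _ (Cfsg.pCore p G) le_rfl (H1.pCore_normal' p G)
      (H1.isPGroup_pCore p G) g hg r (mem_pCore_of_index_eq_pow hk ha)
  refine mem_centralizer_iff.mpr fun r hr => (commute_of_fixes_omega hg hQ
    (fun s hs => (mem_normalizer_iff.mp hgn s).mp hs) hfix r hr).eq.symm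

end H27
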