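import Mathlib.GroupTheory.Sylow
import Mathlib.GroupTheory.QuotientGroup.Basic
import Mathlib.GroupTheory.SpecificGroups.Cyclic
import Mathlib.Data.Nat.Totient
import Mathlib.Data.Nat.ChineseRemainder
import Mathlib.Algebra.BigOperators.Group.Finset.Basic
import Mathlib.RingTheory.Coprime.Lemmas
import Mathlib.Tactic.LinearCombination
import Cfsg.Agent.H27.ClassBasic

/-!
Frobenius' theorem on the number of solutions of `x ^ n = 1`, and the decomposition of elements
into commuting parts of coprime orders.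
-/

set_option autoImplicit false

universe u

namespace H27

open Subgroup

variable {G : Type*} [Group G]

theorem exists_split_exponent {D M : ℕ} (h : D.Coprime M) :
    ∃ e : ℕ, ∀ y z : G, Commute y z → y ^ D = 1 → z ^ M = 1 → (y * z) ^ e = y := by
  obtain ⟨e, he1, he2⟩ := Nat.chineseRemainder h 1 0
  refine ⟨e, fun y z hyz hy hz => ?_⟩
  have h1 : y ^ e = y ^ 1 := pow_eq_pow_iff_modEq.mpr
    (he1.of_dvd (orderOf_dvd_of_pow_eq_one hy))
  have h2 : z ^ e = z ^ 0 := pow_eq_pow_iff_modEq.mpr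
    (he2.of_dvd (orderOf_dvd_of_pow_eq_one hz))
  rw [hyz.mul_pow, h1, h2, pow_one, pow_zero, mul_one]

theorem exists_split {D M : ℕ} (h : D.Coprime M) {x : G} (hx : x ^ (D * M) = 1) :
    ∃ y z : G, Commute y z ∧ y ^ D = 1 ∧ z ^ M = 1 ∧ x = y * z := by
  obtain ⟨e, he1, he2⟩ := Nat.chineseRemainder h 1 0
  refine ⟨x ^ e, (x ^ e)⁻¹ * x, ?_, ?_, ?_, by group⟩
  · exact ((Commute.refl (x ^ e)).inv_right).mul_right (Commute.pow_self x e)
  · rw [← pow_mul]
    obtain ⟨k, hk⟩ := Nat.modEq_zero_iff_dvd.mp he2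
    rw [hk, mul_assoc, mul_comm k, ← mul_assoc, mul_comm M, pow_mul, hx, one_pow]
  · rw [((Commute.pow_self x e).inv_left).mul_pow, inv_pow, inv_mul_eq_one, ← pow_mul]
    apply pow_eq_pow_iff_modEq.mpr
    have := (he1.mul_right' M).of_dvd (orderOf_dvd_of_pow_eq_one hx)
    simpa using this

/-- Divisibility of a conjugation invariant sum, class by class. -/
theorem dvd_sum_of_conj_invariant [Finite G] (M : ℕ) (T : Finset G)
    (f : G → ℕ) (hT : ∀ g : G, ∀ y ∈ T, g * y * g⁻¹ ∈ T)
    (hf : ∀ g y : G, f (g * y * g⁻¹) = f y)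
    (h : ∀ y ∈ T, M ∣ (centralizer ({y} : Set G)).index * f y) : M ∣ ∑ y ∈ T, f y := by
  classical
  rw [← Finset.sum_fiberwise_of_maps_to (g := ConjClasses.mk) (t := T.image ConjClasses.mk)
    (fun y hy => Finset.mem_image_of_mem _ hy)]
  refine Finset.dvd_sum fun C hC => ?_
  obtain ⟨y, hy, rfl⟩ := Finset.mem_image.mp hC
  cases nonempty_fintype G
  have hfib : T.filter (fun x => ConjClasses.mk x = ConjClasses.mk y) =
      (ConjClasses.mk y).carrier.toFinset := by
    ext x
    simp only [Finset.mem_filter, Set.mem_toFinset, ConjClasses.mem_carrier_iff_mk_eq]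
    refine ⟨fun h => h.2, fun h => ⟨?_, h⟩⟩
    obtain ⟨g, rfl⟩ := isConj_iff.mp (ConjClasses.mk_eq_mk_iff_isConj.mp h).symm
    exact hT g y hy
  have hconst : ∀ x ∈ (ConjClasses.mk y).carrier.toFinset, f x = f y := by
    intro x hx
    rw [Set.mem_toFinset, ConjClasses.mem_carrier_iff_mk_eq,
      ConjClasses.mk_eq_mk_iff_isConj] at hx
    obtain ⟨g, rfl⟩ := isConj_iff.mp hx.symm
    exact hf g y
  rw [Finset.sum_congr (s₂ := (ConjClasses.mk y).carrier.toFinset) (by convert hfib) hconst,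
    Finset.sum_const, smul_eq_mul]
  have h' := h y hy
  rw [← card_carrier_eq_index, Nat.card_eq_fintype_card, ← Set.toFinset_card] at h'
  convert h' using 1

/-- Splitting a set of elements according to the `D`-parts. -/
theorem dvd_card_of_split [Finite G] {D M : ℕ} (hDM : D.Coprime M) (S T : Set G)
    (hS : ∀ y z : G, Commute y z → y ^ D = 1 → z ^ M = 1 → (y * z ∈ S ↔ y ∈ T))
    (hS1 : ∀ x ∈ S, x ^ (D * M) = 1) (hT1 : ∀ y ∈ T, y ^ D = 1)
    (hT2 : ∀ g : G, ∀ y ∈ T, g * y * g⁻¹ ∈ T)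
    (h : ∀ y ∈ T, M ∣ (centralizer ({y} : Set G)).index *
      Nat.card {z : G // Commute y z ∧ z ^ M = 1}) :
    M ∣ Nat.card S := by
  classical
  cases nonempty_fintype G
  obtain ⟨e, he⟩ := exists_split_exponent (G := G) hDM
  have hbij : Nat.card (Σ y : T, {z : G // Commute (y : G) z ∧ z ^ M = 1}) = Nat.card S := by
    refine Nat.card_congr (Equiv.ofBijective (fun t => ⟨(t.1 : G) * (t.2 : G),
      (hS _ _ t.2.2.1 (hT1 _ t.1.2) t.2.2.2).mpr t.1.2⟩) ⟨?_, ?_⟩)
    · rintro ⟨⟨y, hy⟩, ⟨z, hz⟩⟩ ⟨⟨y', hy'⟩, ⟨z', hz'⟩⟩ hh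
      have hh' : y * z = y' * z' := congrArg Subtype.val hh
      have h1 : y = y' := by
        rw [← he y z hz.1 (hT1 y hy) hz.2, hh', he y' z' hz'.1 (hT1 y' hy') hz'.2]
      subst h1
      obtain rfl : z = z' := mul_left_cancel hh'
      rfl
    · rintro ⟨x, hx⟩
      obtain ⟨y, z, hc, hy, hz, rfl⟩ := exists_split hDM (hS1 x hx)
      exact ⟨⟨⟨y, (hS y z hc hy hz).mp hx⟩, ⟨z, hc, hz⟩⟩, rfl⟩
  rw [← hbij, Nat.card_sigma]
  rw [Finset.sum_set_coe (f := fun y => Nat.card {z : G // Commute y z ∧ z ^ M = 1})]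
  refine dvd_sum_of_conj_invariant M _ _ ?_ ?_ ?_
  · simpa using hT2
  · intro g y
    refine (Nat.card_congr ((MulAut.conj g).toEquiv.subtypeEquiv fun z => ?_)).symm
    rw [MulEquiv.toEquiv_eq_coe, EquivLike.coe_coe]
    refine and_congr ⟨fun h => ?_, fun h => ?_⟩ ?_
    · simpa [MulAut.conj_apply] using h.map (MulAut.conj g).toMonoidHom
    · simpa [MulAut.conj_apply, mul_assoc] using h.map (MulAut.conj g⁻¹).toMonoidHom
    · rw [← map_pow, map_eq_one_iff _ (MulAut.conj g).injective]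
  · simpa using h

theorem pow_gcd_card_eq_one_iff (g : G) (n : ℕ) :
    g ^ Nat.gcd n (Nat.card G) = 1 ↔ g ^ n = 1 := by
  refine ⟨fun h => ?_, fun h => pow_gcd_eq_one.mpr ⟨h, pow_card_eq_one'⟩⟩
  exact orderOf_dvd_iff_pow_eq_one.mp
    ((orderOf_dvd_of_pow_eq_one h).trans (Nat.gcd_dvd_left _ _))

/-- Elements whose order is divisible by `p ^ a` come in batches of size `φ (orderOf x)`. -/
theorem pow_dvd_card_of_dvd_orderOf [Finite G] (S : Set G) (d : ℕ)
    (hgen : ∀ x y : G, x ∈ S → zpowers x = zpowers y → y ∈ S)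
    (h : ∀ x ∈ S, d ∣ Nat.totient (orderOf x)) : d ∣ Nat.card S := by
  classical
  cases nonempty_fintype G
  rw [Nat.card_eq_fintype_card, ← Set.toFinset_card, Finset.card_eq_sum_card_image zpowers]
  refine Finset.dvd_sum fun H hH => ?_
  obtain ⟨x, hx, rfl⟩ := Finset.mem_image.mp hH
  rw [Set.mem_toFinset] at hx
  have hc : (S.toFinset.filter fun y => zpowers y = zpowers x).card = Nat.totient (orderOf x) := by
    rw [← Fintype.card_zpowers, ← IsCyclic.card_orderOf_eq_totient dvd_rfl,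
      ← Finset.card_map (Function.Embedding.subtype _)]
    congr 1
    ext y
    simp only [Finset.mem_filter, Set.mem_toFinset, Finset.mem_map, Finset.mem_univ, true_and,
      Function.Embedding.subtype_apply]
    constructor
    · rintro ⟨-, hy⟩
      refine ⟨⟨y, hy ▸ mem_zpowers y⟩, ?_, rfl⟩
      rw [Subgroup.orderOf_mk, ← Nat.card_eq_fintype_card, ← Nat.card_zpowers, hy]
    · rintro ⟨⟨z, hz⟩, hzo, rfl⟩
      rw [Subgroup.orderOf_mk, ← Nat.card_eq_fintype_card] at hzo
      have : zpowers z = zpowers x :=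
        eq_of_le_of_card_ge (zpowers_le.mpr hz) (by simp only [Nat.card_zpowers] at hzo ⊢; omega)
      exact ⟨hgen x z hx this.symm, this⟩
  have := h x hx
  rw [← hc] at this
  convert this using 1

theorem frobenius_aux : ∀ N : ℕ, ∀ (G : Type u) [Group G] [Finite G], Nat.card G = N →
    ∀ n : ℕ, n ∣ N → n ∣ Nat.card {g : G // g ^ n = 1} := by
  intro N
  induction N using Nat.strong_induction_on with
  | _ N ih =>
  intro G _ _ hN n hn
  have hNpos : 0 < N := hN ▸ Nat.card_pos
  induction hk : N / n using Nat.strong_induction_on generalizing n with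
  | _ k ihk =>
  subst hk
  obtain ⟨c, hc⟩ := hn
  have hn0 : 0 < n := Nat.pos_of_ne_zero (by rintro rfl; simp at hc; omega)
  by_cases hc1 : c = 1
  · subst hc1
    rw [mul_one] at hc
    have : Nat.card {g : G // g ^ n = 1} = N := by
      rw [← hN]
      exact Nat.card_congr (Equiv.subtypeUnivEquiv fun g => by rw [← hc, ← hN, pow_card_eq_one'])
    rw [this, hc]
  obtain ⟨p, hp, c', rfl⟩ := Nat.exists_prime_and_dvd hc1
  have hc'0 : 0 < c' := Nat.pos_of_ne_zero (by rintro rfl; simp at hc; omega)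
  have hlt : N / (n * p) < N / n := by
    rw [hc, Nat.mul_div_cancel_left _ hn0, ← mul_assoc,
      Nat.mul_div_cancel_left _ (Nat.mul_pos hn0 hp.pos)]
    exact lt_mul_left hc'0 hp.one_lt
  have hB := ihk _ hlt (n * p) ⟨c', by rw [hc, mul_assoc]⟩ rfl
  obtain ⟨b, m, hm, hnm⟩ := Nat.exists_eq_pow_mul_and_not_dvd hn0.ne' p hp.ne_one
  set S : Set G := {g | g ^ (n * p) = 1 ∧ g ^ n ≠ 1} with hSdef
  have hsplit : Nat.card {g : G // g ^ n = 1} + Nat.card S = Nat.card {g : G // g ^ (n * p) = 1} := by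
    classical
    have h1 : {g : G | g ^ (n * p) = 1} = {g : G | g ^ n = 1} ∪ S := by
      ext g
      simp only [hSdef, Set.mem_ofPred_eq, Set.mem_union]
      constructor
      · intro h; rcases em (g ^ n = 1) with h' | h'
        · exact Or.inl h'
        · exact Or.inr ⟨h, h'⟩
      · rintro (h | h)
        · rw [pow_mul, h, one_pow]
        · exact h.1
    have h2 : Disjoint {g : G | g ^ n = 1} S := Set.disjoint_left.mpr fun g h h' => h'.2 h
    change Nat.card {g : G | g ^ n = 1} + _ = Nat.card {g : G | g ^ (n * p) = 1}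
    rw [Nat.card_coe_set_eq, Nat.card_coe_set_eq, Nat.card_coe_set_eq, h1,
      Set.ncard_union_eq h2]
  suffices n ∣ Nat.card S by
    have h1 : n ∣ Nat.card {g : G // g ^ (n * p) = 1} := (dvd_mul_right n p).trans hB
    rw [← hsplit] at h1
    exact (Nat.dvd_add_left this).mp h1
  have hnp : n * p = p ^ (b + 1) * m := by rw [hnm, pow_succ]; ring
  have hmp : (p ^ (b + 1)).Coprime m := (hp.coprime_iff_not_dvd.mpr hm).pow_left _
  have hord : ∀ x ∈ S, p ^ (b + 1) ∣ orderOf x := by
    rintro x ⟨hx1, hx2⟩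
    have hd : orderOf x ∣ p ^ (b + 1) * m := hnp ▸ orderOf_dvd_of_pow_eq_one hx1
    obtain ⟨d₁, d₂, hd₁, hd₂, he⟩ := exists_dvd_and_dvd_of_dvd_mul hd
    obtain ⟨i, hi, rfl⟩ := (Nat.dvd_prime_pow hp).mp hd₁
    by_cases hib : i ≤ b
    · exact absurd (orderOf_dvd_iff_pow_eq_one.mp
        (he ▸ hnm ▸ Nat.mul_dvd_mul (pow_dvd_pow p hib) hd₂)) hx2
    · obtain rfl : i = b + 1 := by omega
      exact he ▸ dvd_mul_right _ _
  rw [hnm]
  refine Nat.Coprime.mul_dvd_of_dvd_of_dvd ((hp.coprime_iff_not_dvd.mpr hm).pow_left _) ?_ ?_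
  · refine pow_dvd_card_of_dvd_orderOf S _ ?_ ?_
    · intro x y hx hxy
      have ho : orderOf x = orderOf y := by rw [← Nat.card_zpowers x, hxy, Nat.card_zpowers]
      simp only [hSdef, Set.mem_ofPred_eq, ← orderOf_dvd_iff_pow_eq_one, ne_eq] at hx ⊢
      rwa [← ho]
    · intro x hx
      refine dvd_trans ?_ (Nat.totient_dvd_of_dvd (hord x hx))
      rw [Nat.totient_prime_pow_succ hp]
      exact dvd_mul_right _ _
  · refine dvd_card_of_split hmp S {y | orderOf y = p ^ (b + 1)} ?_ ?_ ?_ ?_ ?_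
    · intro y z hc hy hz
      constructor
      · intro hx
        have h1 := hord _ hx
        have h2 := hc.orderOf_mul_dvd_mul_orderOf
        have h3 : (p ^ (b + 1)).Coprime (orderOf z) :=
          hmp.coprime_dvd_right (orderOf_dvd_of_pow_eq_one hz)
        exact Nat.dvd_antisymm (orderOf_dvd_of_pow_eq_one hy)
          (h3.dvd_of_dvd_mul_right (h1.trans h2))
      · intro hy'
        refine ⟨?_, fun h1 => ?_⟩
        · rw [hnp, hc.mul_pow, pow_mul, hy, one_pow, one_mul, mul_comm, pow_mul, hz, one_pow]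
        · have h2 : y ^ n = 1 := by
            rwa [hc.mul_pow, show z ^ n = 1 by rw [hnm, mul_comm, pow_mul, hz, one_pow],
              mul_one] at h1
          have h3 : p ^ (b + 1) ∣ n := hy' ▸ orderOf_dvd_of_pow_eq_one h2
          rw [hnm] at h3
          have h4 := hmp.dvd_of_dvd_mul_right h3
          have := (Nat.pow_dvd_pow_iff_le_right hp.one_lt).mp h4
          omega
    · rintro x ⟨hx, -⟩
      rwa [← hnp]
    · intro y hy
      rw [← hy]; exact pow_orderOf_eq_one y
    · intro g y hy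
      rw [Set.mem_ofPred_eq, ← hy, ← MulAut.conj_apply, MulEquiv.orderOf_eq]
    · intro y hy
      set C := centralizer ({y} : Set G) with hC
      let yC : C := ⟨y, mem_cent.mpr rfl⟩
      set K := zpowers yC
      have hKn : K.Normal := ⟨fun k hk g => by
        obtain ⟨i, rfl⟩ := hk
        have : Commute g (yC ^ i) :=
          Commute.zpow_right (Subtype.ext (mem_cent.mp g.2)) i
        rw [this.eq, mul_inv_cancel_right]
        exact ⟨i, rfl⟩⟩
      have hKc : Nat.card K = p ^ (b + 1) := by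
        rw [Nat.card_zpowers, Subgroup.orderOf_mk, hy]
      have hCK : Nat.card (C ⧸ K) * p ^ (b + 1) = Nat.card C := by
        rw [← hKc, Subgroup.card_eq_card_quotient_mul_card_subgroup K]
      have hlt' : Nat.card (C ⧸ K) < N := by
        have h1 : Nat.card C ≤ N := hN ▸ C.card_le_card_group
        have h2 : 1 < p ^ (b + 1) := Nat.one_lt_pow (by omega) hp.one_lt
        have h3 : 0 < Nat.card (C ⧸ K) := Nat.card_pos
        nlinarith
      have hIH : Nat.gcd m (Nat.card (C ⧸ K)) ∣ Nat.card {w : C ⧸ K // w ^ m = 1} := by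
        rw [Nat.card_congr (Equiv.subtypeEquivRight fun w => (pow_gcd_card_eq_one_iff w m).symm)]
        exact ih _ hlt' (C ⧸ K) rfl _ (Nat.gcd_dvd_right _ _)
      have hbij : Nat.card {z : G // Commute y z ∧ z ^ m = 1} = Nat.card {w : C ⧸ K // w ^ m = 1} := by
        refine Nat.card_congr (Equiv.ofBijective (fun z => ⟨((⟨z.1, mem_cent_comm.mpr z.2.1⟩ : C) : C ⧸ K),
          by rw [← QuotientGroup.mk_pow, show (⟨z.1, mem_cent_comm.mpr z.2.1⟩ : C) ^ m = 1 from
            Subtype.ext z.2.2, QuotientGroup.mk_one]⟩) ⟨?_, ?_⟩)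
        · rintro ⟨z, hz1, hz2⟩ ⟨z', hz1', hz2'⟩ hh
          have hh' := QuotientGroup.eq.mp (congrArg Subtype.val hh)
          obtain ⟨i, hi⟩ := hh'
          have hi' : y ^ i = z⁻¹ * z' := congrArg Subtype.val hi
          have hzz : z' = z * y ^ i := by rw [hi']; group
          have h1 : (y ^ i) ^ m = 1 := by
            rwa [hzz, (hz1.symm.zpow_right i).mul_pow, hz2, one_mul] at hz2'
          have h2 : (y ^ i) ^ (p ^ (b + 1)) = 1 := by
            rw [← hy]
            exact orderOf_dvd_iff_pow_eq_one.mp (orderOf_dvd_of_mem_zpowers ⟨i, rfl⟩)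
          have h3 : (y ^ i) ^ Nat.gcd (p ^ (b + 1)) m = 1 := pow_gcd_eq_one.mpr ⟨h2, h1⟩
          rw [hmp.gcd_eq_one, pow_one] at h3
          simp [hzz, h3]
        · rintro ⟨w, hw⟩
          obtain ⟨z, rfl⟩ := QuotientGroup.mk_surjective w
          rw [← QuotientGroup.mk_pow, QuotientGroup.eq_one_iff] at hw
          obtain ⟨i, hi⟩ := hw
          obtain ⟨u, v, huv⟩ : IsCoprime (m : ℤ) ((p ^ (b + 1) : ℕ) : ℤ) :=
            Nat.Coprime.isCoprime hmp.symm
          have hzy : Commute (z : G) y := mem_cent.mp z.2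
          refine ⟨⟨(z : G) * y ^ (-(u * i)), ?_, ?_⟩, ?_⟩
          · exact hzy.symm.mul_right (Commute.self_zpow y _)
          · have hi' : y ^ i = (z : G) ^ m := congrArg Subtype.val hi
            have hyP : y ^ ((p ^ (b + 1) : ℕ) : ℤ) = 1 := by
              rw [zpow_natCast, ← hy, pow_orderOf_eq_one]
            rw [(hzy.zpow_right _).mul_pow, ← hi', ← zpow_natCast (y ^ _), ← zpow_mul, ← zpow_add,
              show i + -(u * i) * (m : ℤ) = ((p ^ (b + 1) : ℕ) : ℤ) * (v * i) by
                linear_combination -i * huv, zpow_mul, hyP, one_zpow]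
          · apply Subtype.ext
            refine QuotientGroup.eq.mpr ⟨u * i, Subtype.ext ?_⟩
            show y ^ (u * i) = ((z : G) * y ^ (-(u * i)))⁻¹ * z
            rw [mul_inv_rev, zpow_neg, inv_inv, inv_mul_cancel_right]
      rw [hbij]
      refine dvd_trans ?_ (mul_dvd_mul_left _ hIH)
      rw [← Nat.gcd_mul_left]
      refine Nat.dvd_gcd (dvd_mul_left _ _) ?_
      rw [← Nat.mul_dvd_mul_iff_right (pow_pos hp.pos (b + 1)), mul_assoc, hCK, mul_comm m,
        mul_comm _ (Nat.card C), card_mul_index, hN, ← hnp, hc, ← mul_assoc]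
      exact dvd_mul_right _ _

/-- Frobenius' theorem. -/
theorem gcd_card_dvd_card_pow_eq_one (G : Type u) [Group G] [Finite G] (n : ℕ) :
    Nat.gcd n (Nat.card G) ∣ Nat.card {g : G // g ^ n = 1} := by
  rw [Nat.card_congr (Equiv.subtypeEquivRight fun w => (pow_gcd_card_eq_one_iff w n).symm)]
  exact frobenius_aux _ G rfl _ (Nat.gcd_dvd_right _ _)

/-- The number of elements of order divisible by `n` is divisible by any divisor `M` of the group
order with `M` prime to `n` and to its cofactor. -/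
theorem dvd_card_dvd_orderOf [Finite G] (n D M : ℕ) (hG : Nat.card G = D * M)
    (hDM : D.Coprime M) (hnM : n.Coprime M) : M ∣ Nat.card {g : G // n ∣ orderOf g} := by
  refine dvd_card_of_split hDM {g | n ∣ orderOf g} {y | y ^ D = 1 ∧ n ∣ orderOf y} ?_ ?_ ?_ ?_ ?_
  · intro y z hc hy hz
    have hcop : (orderOf y).Coprime (orderOf z) :=
      (hDM.coprime_dvd_left (orderOf_dvd_of_pow_eq_one hy)).coprime_dvd_right
        (orderOf_dvd_of_pow_eq_one hz)
    simp only [Set.mem_ofPred_eq, hc.orderOf_mul_eq_mul_orderOf_of_coprime hcop, hy, true_and]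
    exact ⟨fun h => (hnM.coprime_dvd_right (orderOf_dvd_of_pow_eq_one hz)).dvd_of_dvd_mul_right h,
      fun h => h.trans (dvd_mul_right _ _)⟩
  · intro x _
    rw [← hG, pow_card_eq_one']
  · exact fun y hy => hy.1
  · intro g y hy
    refine ⟨?_, ?_⟩
    · rw [← MulAut.conj_apply, ← map_pow, hy.1, map_one]
    · rw [← MulAut.conj_apply, MulEquiv.orderOf_eq]; exact hy.2
  · intro y _
    set C := centralizer ({y} : Set G)
    have hbij : Nat.card {z : G // Commute y z ∧ z ^ M = 1} = Nat.card {z : C // z ^ M = 1} :=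
      Nat.card_congr
        { toFun := fun z => ⟨⟨z.1, mem_cent_comm.mpr z.2.1⟩, Subtype.ext z.2.2⟩
          invFun := fun z => ⟨z.1.1, mem_cent_comm.mp z.1.2, congrArg Subtype.val z.2⟩
          left_inv := fun _ => rfl
          right_inv := fun _ => rfl }
    rw [hbij]
    refine dvd_trans ?_ (mul_dvd_mul_left _ (gcd_card_dvd_card_pow_eq_one C M))
    rw [← Nat.gcd_mul_left, mul_comm _ (Nat.card C), card_mul_index, hG]
    exact Nat.dvd_gcd (dvd_mul_left _ _) (dvd_mul_left _ _)

end H27
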