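import Mathlib.GroupTheory.Sylow
import Mathlib.GroupTheory.QuotientGroup.Basic
import Mathlib.GroupTheory.Subgroup.Centralizer
import Cfsg.Agent.H27.ClassBasic

/-! Lifting normalisers of Sylow subgroups through quotients. -/

set_option autoImplicit false

namespace H27

open Subgroup

variable {G : Type*} [Group G] [Finite G] {p : ℕ} [Fact p.Prime]

theorem conj_mem_iff_of_normalizer {H : Subgroup G} {n a : G}
    (hn : n ∈ normalizer (H : Set G)) : n * a * n⁻¹ ∈ H ↔ a ∈ H :=
  (mem_normalizer_iff.mp hn a).symm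

theorem mem_sylow_of_centralizes (P : Sylow p G) {x : G} (hx : ∃ k : ℕ, orderOf x = p ^ k)
    (hc : x ∈ centralizer ((P : Subgroup G) : Set G)) : x ∈ (P : Subgroup G) := by
  obtain ⟨k, hk⟩ := hx
  have hxp : IsPGroup p (zpowers x) := IsPGroup.of_card (by rw [Nat.card_zpowers, hk])
  have hn : zpowers x ≤ normalizer ((P : Subgroup G) : Set G) :=
    (zpowers_le.mpr hc).trans (centralizer_le_normalizer _)
  have h1 : IsPGroup p (zpowers x ⊔ (P : Subgroup G) : Subgroup G) :=
    hxp.to_sup_of_normal_right' P.isPGroup' hn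
  have := P.is_maximal' h1 le_sup_right
  exact sup_eq_right.mp this (mem_zpowers x)

/-- An element normalising the image of `P` modulo `N` is the product of an element of the image
with one coming from the normaliser of `P`. -/
theorem exists_normalizer_lift (N : Subgroup G) [N.Normal] (P : Sylow p G) {a : G ⧸ N}
    (ha : a ∈ normalizer (((P : Subgroup G).map (QuotientGroup.mk' N)) : Set (G ⧸ N))) :
    ∃ b ∈ (P : Subgroup G).map (QuotientGroup.mk' N), ∃ n ∈ normalizer ((P : Subgroup G) : Set G),
      b * a = (n : G ⧸ N) := by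
  obtain ⟨g, rfl⟩ := QuotientGroup.mk'_surjective N a
  set K := ((P : Subgroup G).map (QuotientGroup.mk' N)).comap (QuotientGroup.mk' N)
  have hPK : (P : Subgroup G) ≤ K := le_comap_map _ _
  have hgK : ((g • P : Sylow p G) : Subgroup G) ≤ K := by
    rw [Sylow.coe_subgroup_smul]
    rintro x ⟨y, hy, rfl⟩
    show QuotientGroup.mk' N (MulAut.conj g y) ∈ (P : Subgroup G).map (QuotientGroup.mk' N)
    rw [MulAut.conj_apply, map_mul, map_mul, map_inv]
    exact (conj_mem_iff_of_normalizer ha).mpr (mem_map_of_mem _ hy)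
  obtain ⟨⟨k, hk⟩, hkP⟩ := MulAction.exists_smul_eq K ((g • P).subtype hgK) (P.subtype hPK)
  simp_rw [Sylow.smul_subtype, Subgroup.smul_def, smul_smul] at hkP
  refine ⟨QuotientGroup.mk' N k, hk, k * g,
    Sylow.smul_eq_iff_mem_normalizer.mp (Sylow.subtype_injective hkP), ?_⟩
  simp

end H27
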