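import Cfsg.Agent.H27.ClassBasic
import Cfsg.Agent.H27.PrimePowerClass
import Cfsg.Agent.H27.SolCount
import Cfsg.Agent.H27.SylowLift
import Cfsg.Agent.H1.FPF
import Cfsg.Agent.H81.Fitting

/-! Groups with the class sizes of a nilpotent group (Cossey, Hawkes, Mann). -/

set_option autoImplicit false

namespace H27

open Subgroup

variable {G : Type*} [Group G] [Finite G] (p : ℕ) [Fact p.Prime]

/-- Splitting an element into its `p`-part and its `p'`-part. -/
theorem exists_pPart (x : G) : ∃ h k : G, Commute h k ∧ (∃ j, orderOf h = p ^ j) ∧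
    ¬ p ∣ orderOf k ∧ x = h * k := by
  have hp : p.Prime := Fact.out
  obtain ⟨j, m, hm, hx⟩ := Nat.exists_eq_pow_mul_and_not_dvd (orderOf_pos x).ne' p hp.ne_one
  obtain ⟨h, k, hc, hh, hk, hxe⟩ := exists_split
    ((hp.coprime_iff_not_dvd.mpr hm).pow_left j) (x := x) (hx ▸ pow_orderOf_eq_one x)
  obtain ⟨i, _, hi⟩ := (Nat.dvd_prime_pow hp).mp (orderOf_dvd_of_pow_eq_one hh)
  exact ⟨h, k, hc, ⟨i, hi⟩, fun hd => hm (hd.trans (orderOf_dvd_of_pow_eq_one hk)), hxe⟩

omit [Finite G] in
theorem coprime_parts {h k : G} (hh : ∃ j, orderOf h = p ^ j) (hk : ¬ p ∣ orderOf k) :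
    (orderOf h).Coprime (orderOf k) := by
  obtain ⟨j, hj⟩ := hh
  rw [hj]
  exact ((Fact.out : p.Prime).coprime_iff_not_dvd.mpr hk).pow_left j

theorem card_mul_card_inf (A B : Subgroup G) [B.Normal] :
    Nat.card (A ⊔ B : Subgroup G) * Nat.card (A ⊓ B : Subgroup G) = Nat.card A * Nat.card B := by
  have h1 : Nat.card (A ⊔ B : Subgroup G) = Nat.card B * B.relIndex A := by
    rw [← relIndex_sup_right A B, relIndex, ← card_mul_index (B.subgroupOf (A ⊔ B)),
      Nat.card_congr (subgroupOfEquivOfLe (le_sup_right : B ≤ A ⊔ B)).toEquiv]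
  have h2 : Nat.card A = Nat.card (A ⊓ B : Subgroup G) * B.relIndex A := by
    rw [relIndex, ← card_mul_index (B.subgroupOf A), ← inf_subgroupOf_right, inf_comm,
      Nat.card_congr (subgroupOfEquivOfLe (inf_le_left : A ⊓ B ≤ A)).toEquiv, inf_comm A B,
      inf_subgroupOf_right]
  rw [h1, h2]
  ring

theorem factorization_card_sylow (P : Sylow p G) :
    Nat.card (P : Subgroup G) = p ^ (Nat.card G).factorization p :=
  P.card_eq_multiplicity

/-- In a nilpotent group: elements whose class size is prime to `p`, and elements whose class size is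
a power of `p`. -/
theorem nilpotent_class_counts (hG : Group.IsNilpotent G) :
    (Nat.card {x : G // ¬ p ∣ (centralizer ({x} : Set G)).index}).factorization p =
      (Nat.card (center G)).factorization p ∧
    Nat.card {x : G // ∃ a, (centralizer ({x} : Set G)).index = p ^ a} *
      p ^ (Nat.card (center G)).factorization p =
      p ^ (Nat.card G).factorization p * Nat.card (center G) := by
  have hp : p.Prime := Fact.out
  have hG' := hG
  obtain ⟨P⟩ : Nonempty (Sylow p G) := inferInstance
  have hPn : (P : Subgroup G).Normal :=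
    P.normal_of_normalizerCondition Group.normalizerCondition_of_isNilpotent
  have hnpc := H1.hasNormalPComplement_of_nilpotent p hG
  set K := Cfsg.pResidual p G
  have hKn : K.Normal := inferInstance
  have hKP := H5.pResidual_isComplement' hnpc P
  have hmemP : ∀ h : G, h ∈ (P : Subgroup G) ↔ ∃ j, orderOf h = p ^ j := by
    intro h
    refine ⟨fun hh => ?_, fun ⟨j, hj⟩ => ?_⟩
    · obtain ⟨j, hj⟩ := IsPGroup.iff_orderOf.mp P.isPGroup' ⟨h, hh⟩
      exact ⟨j, by rw [← hj, orderOf_mk]⟩
    · obtain ⟨Q, hQ⟩ := (IsPGroup.of_card (p := p) (G := zpowers h) (n := j)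
        (by rw [Nat.card_zpowers, hj])).exists_le_sylow
      have hu : Subsingleton (Sylow p G) := (Sylow.unique_of_normal P hPn).instSubsingleton
      rw [Subsingleton.elim P Q]
      exact hQ (mem_zpowers h)
  have hmemK : ∀ k : G, k ∈ K ↔ ¬ p ∣ orderOf k := by
    intro k
    rw [H5.mem_pResidual_iff hnpc, Nat.coprime_comm, hp.coprime_iff_not_dvd]
  have hPc : ∀ h ∈ (P : Subgroup G), ∀ k ∈ K, Commute h k := fun h hh k hk =>
    H81.commute_of_coprime_orderOf hG (coprime_parts p ((hmemP h).mp hh) ((hmemK k).mp hk))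
  -- index of a `p`-part and of a `p'`-part
  have hidxP : ∀ h ∈ (P : Subgroup G), ∃ a, (centralizer ({h} : Set G)).index = p ^ a := by
    intro h hh
    have hle : K ≤ centralizer ({h} : Set G) := fun k hk => mem_cent_comm.mpr (hPc h hh k hk)
    obtain ⟨k, hk⟩ := H5.exists_index_pResidual_eq (p := p) (G := G)
    obtain ⟨a, _, ha⟩ := (Nat.dvd_prime_pow hp).mp (hk ▸ index_dvd_of_le hle)
    exact ⟨a, ha⟩
  have hidxK : ∀ k ∈ K, ¬ p ∣ (centralizer ({k} : Set G)).index := by
    intro k hk hd
    exact P.not_dvd_index (hd.trans (index_dvd_of_le fun h hh =>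
      mem_cent_comm.mpr (hPc h hh k hk).symm))
  have hU : ∀ x : G, ¬ p ∣ (centralizer ({x} : Set G)).index ↔ x ∈ center G ⊔ K := by
    intro x
    refine ⟨fun hx => ?_, fun hx => ?_⟩
    · obtain ⟨h, k, hc, hh, hk, rfl⟩ := exists_pPart p x
      refine mul_mem (mem_sup_left ?_) (mem_sup_right ((hmemK k).mpr hk))
      obtain ⟨a, ha⟩ := hidxP h ((hmemP h).mpr hh)
      have hd := index_left_dvd_mul hc (coprime_parts p hh hk)
      refine index_cent_eq_one_iff.mp ?_
      rcases a with _ | a
      · rw [ha, pow_zero]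
      · exact absurd ((ha ▸ dvd_pow_self p a.succ_ne_zero).trans hd) hx
    · obtain ⟨z, hz, k, hk, rfl⟩ := mem_sup_of_normal_right.mp hx
      intro hd
      refine hidxK k hk (hd.trans (index_dvd_of_le fun y hy => ?_))
      exact mem_cent_comm.mpr ((show Commute z y from (mem_center_iff.mp hz y).symm).mul_left
        (mem_cent_comm.mp hy))
  have hX : ∀ x : G, (∃ a, (centralizer ({x} : Set G)).index = p ^ a) ↔
      x ∈ center G ⊔ (P : Subgroup G) := by
    intro x
    refine ⟨fun ⟨a, ha⟩ => ?_, fun hx => ?_⟩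
    · obtain ⟨h, k, hc, hh, hk, rfl⟩ := exists_pPart p x
      refine mul_mem (mem_sup_right ((hmemP h).mpr hh)) (mem_sup_left ?_)
      obtain ⟨b, _, hb⟩ := (Nat.dvd_prime_pow hp).mp
        (ha ▸ index_right_dvd_mul hc (coprime_parts p hh hk))
      refine index_cent_eq_one_iff.mp ?_
      rcases b with _ | b
      · rw [hb, pow_zero]
      · exact absurd (hb ▸ dvd_pow_self p b.succ_ne_zero) (hidxK k ((hmemK k).mpr hk))
    · obtain ⟨z, hz, h, hh, rfl⟩ := mem_sup_of_normal_right.mp hx
      obtain ⟨a, ha⟩ := hidxP h hh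
      have hle : centralizer ({h} : Set G) ≤ centralizer ({z * h} : Set G) := fun y hy =>
        mem_cent_comm.mpr ((show Commute z y from (mem_center_iff.mp hz y).symm).mul_left
          (mem_cent_comm.mp hy))
      obtain ⟨b, _, hb⟩ := (Nat.dvd_prime_pow hp).mp (ha ▸ index_dvd_of_le hle)
      exact ⟨b, hb⟩
  have hK : ¬ p ∣ Nat.card K := H5.hasNormalPComplement_iff_not_dvd.mp hnpc
  have hPcard := factorization_card_sylow p P
  refine ⟨?_, ?_⟩
  · have h1 := card_mul_card_inf (center G) K
    have h2 : Nat.card {x : G // ¬ p ∣ (centralizer ({x} : Set G)).index} =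
        Nat.card (center G ⊔ K : Subgroup G) := Nat.card_congr (Equiv.subtypeEquivRight hU)
    rw [h2]
    have h3 := congrArg (fun n => n.factorization p) h1
    simp only [Nat.factorization_mul Nat.card_pos.ne' Nat.card_pos.ne', Finsupp.add_apply,
      Nat.factorization_eq_zero_of_not_dvd hK] at h3
    rw [Nat.factorization_eq_zero_of_not_dvd
      (fun h => hK (h.trans (card_dvd_of_le inf_le_right))), add_zero, add_zero] at h3
    exact h3
  · have h1 := card_mul_card_inf (center G) (P : Subgroup G)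
    have h2 : Nat.card {x : G // ∃ a, (centralizer ({x} : Set G)).index = p ^ a} =
        Nat.card (center G ⊔ (P : Subgroup G) : Subgroup G) :=
      Nat.card_congr (Equiv.subtypeEquivRight hX)
    have h3 : Nat.card (center G ⊓ (P : Subgroup G) : Subgroup G) =
        p ^ (Nat.card (center G)).factorization p := by
      obtain ⟨i, hi⟩ := IsPGroup.iff_card.mp (P.isPGroup'.to_le
        (inf_le_right : center G ⊓ (P : Subgroup G) ≤ _))
      have h4 : ¬ p ∣ (P : Subgroup G).relIndex (center G) := fun h =>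
        P.not_dvd_index (h.trans (relIndex_dvd_index_of_normal _ _))
      have h5 : Nat.card (center G) =
          Nat.card (center G ⊓ (P : Subgroup G) : Subgroup G) *
            (P : Subgroup G).relIndex (center G) := by
        rw [relIndex, ← card_mul_index ((P : Subgroup G).subgroupOf (center G)),
          ← inf_subgroupOf_left, inf_subgroupOf_left, ← inf_subgroupOf_left,
          Nat.card_congr (subgroupOfEquivOfLe (inf_le_left : center G ⊓ (P : Subgroup G) ≤ _)).toEquiv]
      rw [hi]
      congr 1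
      rw [h5, Nat.factorization_mul Nat.card_pos.ne' (fun h => h4 (by rw [h]; exact dvd_zero p)), hi,
        Finsupp.add_apply, hp.factorization_pow, Nat.factorization_eq_zero_of_not_dvd h4,
        Finsupp.single_eq_same, add_zero]
    rw [h2, ← h3, h1, ← hPcard, mul_comm]

/-- If the number of elements of class size prime to `p` has the `p`-part of the centre, then the
centre of a Sylow `p`-subgroup is central. -/
theorem mem_center_of_count
    (hU : (Nat.card {x : G // ¬ p ∣ (centralizer ({x} : Set G)).index}).factorization p =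
      (Nat.card (center G)).factorization p) (P : Sylow p G) {z : G}
    (hz : z ∈ (P : Subgroup G)) (hzc : z ∈ centralizer ((P : Subgroup G) : Set G)) :
    z ∈ center G := by
  have hp : p.Prime := Fact.out
  set Z := center G
  have hmul : ∀ x : G, ∀ c ∈ Z, centralizer ({x * c} : Set G) = centralizer ({x} : Set G) := by
    intro x c hc
    ext y
    have hcy : Commute c y := (mem_center_iff.mp hc y).symm
    rw [mem_cent_comm, mem_cent_comm]
    refine ⟨fun h => ?_, fun h => h.mul_left hcy⟩
    have h1 := h.mul_left hcy.inv_left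
    rwa [mul_inv_cancel_right] at h1
  let S : Set (G ⧸ Z) := (QuotientGroup.mk : G → G ⧸ Z) ''
    {x | ¬ p ∣ (centralizer ({x} : Set G)).index}
  have hS : ∀ x : G, (x : G ⧸ Z) ∈ S ↔ ¬ p ∣ (centralizer ({x} : Set G)).index := by
    intro x
    refine ⟨?_, fun h => ⟨x, h, rfl⟩⟩
    rintro ⟨y, hy, hyx⟩
    have h1 := QuotientGroup.eq.mp hyx
    rwa [show x = y * (y⁻¹ * x) by group, hmul _ _ h1]
  have hcardS : Nat.card {x : G // ¬ p ∣ (centralizer ({x} : Set G)).index} =
      Nat.card Z * Nat.card S := by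
    rw [← QuotientGroup.card_preimage_mk]
    exact Nat.card_congr (Equiv.subtypeEquivRight fun x => (hS x).symm)
  have hne : Nonempty S := ⟨⟨((1 : G) : G ⧸ Z), (hS 1).mpr fun h => hp.one_lt.ne'
    (Nat.dvd_one.mp ((index_cent_eq_one_iff.mpr (one_mem (center G))) ▸ h))⟩⟩
  have hSp : ¬ p ∣ Nat.card S := by
    intro h
    rw [hcardS, Nat.factorization_mul Nat.card_pos.ne' Nat.card_pos.ne', Finsupp.add_apply] at hU
    have := hp.factorization_pos_of_dvd Nat.card_pos.ne' h
    omega
  -- the conjugation action of `P` on `S`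
  let _ : MulAction (P : Subgroup G) S :=
    { smul := fun g q => ⟨((g : G) : G ⧸ Z) * q * (((g : G) : G ⧸ Z))⁻¹, by
        obtain ⟨q, hq⟩ := q
        obtain ⟨x, rfl⟩ := QuotientGroup.mk_surjective q
        rw [← QuotientGroup.mk_inv, ← QuotientGroup.mk_mul, ← QuotientGroup.mk_mul, hS,
          index_cent_conj]
        exact (hS x).mp hq⟩
      one_smul := fun q => Subtype.ext (show _ * _ * _ = _ by simp)
      mul_smul := fun g h q => Subtype.ext (show _ * _ * _ = _ * (_ * _ * _) * _ by
        simp [mul_assoc]) }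
  have hfix := P.isPGroup'.card_modEq_card_fixedPoints (α := S)
  -- fixed points are the cosets in the centralizer of `P`
  set C := centralizer ((P : Subgroup G) : Set G)
  have hZC : Z ≤ C := fun c hc => mem_centralizer_iff.mpr fun g _ => mem_center_iff.mp hc g
  have hfixset : Nat.card (MulAction.fixedPoints (P : Subgroup G) S) =
      Nat.card (C.map (QuotientGroup.mk' Z)) := by
    refine Nat.card_congr ((Equiv.subtypeSubtypeEquivSubtypeExists _ _).trans
      (Equiv.subtypeEquivRight fun q => ?_))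
    obtain ⟨x, rfl⟩ := QuotientGroup.mk_surjective q
    refine ⟨fun ⟨hx, hfx⟩ => ⟨x, ?_, rfl⟩, fun hx => ?_⟩
    · obtain ⟨Q, hQ⟩ := exists_sylow_le_of_not_dvd_index ((hS x).mp hx)
      set Cx := centralizer ({x} : Set G)
      let D : Subgroup G := (centralizer ({(x : G ⧸ Z)} : Set (G ⧸ Z))).comap (QuotientGroup.mk' Z)
      have hCD : Cx ≤ D := fun y hy => mem_cent_comm.mpr
        (Commute.map (mem_cent_comm.mp hy) (QuotientGroup.mk' Z))
      have hnorm : (Cx.subgroupOf D).Normal := by
        refine ⟨fun y hy d => ?_⟩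
        rw [mem_subgroupOf, mem_cent_comm] at hy ⊢
        simp only [Subgroup.coe_mul, InvMemClass.coe_inv]
        have hd := mem_cent_comm.mp (d.2 : ((d : G) : G ⧸ Z) ∈ _)
        have hc : (x⁻¹ * ((d : G)⁻¹ * x * d)) ∈ Z := by
          rw [← QuotientGroup.eq_one_iff]
          simp only [QuotientGroup.mk_mul, QuotientGroup.mk_inv]
          rw [mul_assoc _ (x : G ⧸ Z) _, hd.eq]
          group
        set c := x⁻¹ * ((d : G)⁻¹ * x * d) with hcdef
        have h2 : Commute (x * c) (y : G) :=
          hy.mul_left (mem_center_iff.mp hc (y : G)).symm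
        rw [hcdef, mul_inv_cancel_left] at h2
        rw [commute_iff_eq] at h2 ⊢
        calc x * ((d : G) * y * (d : G)⁻¹)
            = d * (((d : G)⁻¹ * x * d) * y) * (d : G)⁻¹ := by group
          _ = _ := by rw [h2]; group
      have hPD : (P : Subgroup G) ≤ D := by
        intro g hg
        refine mem_cent_comm.mpr ?_
        have h1 : ((g : G) : G ⧸ Z) * (x : G ⧸ Z) * ((g : G) : G ⧸ Z)⁻¹ = x :=
          congrArg Subtype.val (hfx ⟨g, hg⟩)
        exact (mul_inv_eq_iff_eq_mul.mp h1).symm
      refine le_cent_iff.mp ?_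
      intro g hg
      have hrel : ¬ p ∣ (Cx.subgroupOf D).index := fun h => by
        have h1 : (Q : Subgroup G).index = (Q : Subgroup G).relIndex D * D.index :=
          (relIndex_mul_index (hQ.trans hCD)).symm
        refine Q.not_dvd_index (h1 ▸ Dvd.dvd.mul_right (h.trans ?_) _)
        exact relIndex_dvd_of_le_left D hQ
      have hgord : ∃ k : ℕ, (⟨g, hPD hg⟩ : D) ^ (p ^ k) = 1 := by
        obtain ⟨k, hk⟩ := P.isPGroup' ⟨g, hg⟩
        exact ⟨k, Subtype.ext (congrArg Subtype.val hk :)⟩
      obtain ⟨k, hk⟩ := hgord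
      have h2 : ((⟨g, hPD hg⟩ : D) : D ⧸ Cx.subgroupOf D) ^ (p ^ k) = 1 := by
        rw [← QuotientGroup.mk_pow, hk, QuotientGroup.mk_one]
      have h3 : orderOf ((⟨g, hPD hg⟩ : D) : D ⧸ Cx.subgroupOf D) = 1 := by
        refine Nat.eq_one_of_dvd_coprimes ((hp.coprime_iff_not_dvd.mpr hrel).pow_left k)
          (orderOf_dvd_of_pow_eq_one h2) (orderOf_dvd_natCard _)
      exact mem_subgroupOf.mp
        ((QuotientGroup.eq_one_iff (⟨g, hPD hg⟩ : D)).mp (orderOf_eq_one_iff.mp h3))
    · obtain ⟨c, hc, hcx⟩ := hx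
      refine ⟨hcx ▸ (hS c).mpr (not_dvd_index_cent_iff.mpr ⟨P, hc⟩), fun g => Subtype.ext ?_⟩
      show ((g : G) : G ⧸ Z) * (x : G ⧸ Z) * ((g : G) : G ⧸ Z)⁻¹ = (x : G ⧸ Z)
      rw [← hcx, QuotientGroup.mk'_apply, ← QuotientGroup.mk_inv, ← QuotientGroup.mk_mul,
        ← QuotientGroup.mk_mul, mem_centralizer_iff.mp hc g g.2, mul_inv_cancel_right]
  rw [hfixset] at hfix
  have hCp : ¬ p ∣ Nat.card (C.map (QuotientGroup.mk' Z)) := fun h =>
    hSp (Nat.modEq_zero_iff_dvd.mp (hfix.trans (Nat.modEq_zero_iff_dvd.mpr h)))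
  obtain ⟨k, hk⟩ := P.isPGroup' ⟨z, hz⟩
  have h2 : (⟨QuotientGroup.mk' Z z, mem_map_of_mem (QuotientGroup.mk' Z) hzc⟩ :
      C.map (QuotientGroup.mk' Z)) ^ (p ^ k) = 1 := by
    refine Subtype.ext ?_
    rw [SubmonoidClass.mk_pow]
    show ((z : G ⧸ Z)) ^ (p ^ k) = 1
    rw [← QuotientGroup.mk_pow, show z ^ p ^ k = 1 from congrArg Subtype.val hk,
      QuotientGroup.mk_one]
  have h3 := Nat.eq_one_of_dvd_coprimes ((hp.coprime_iff_not_dvd.mpr hCp).pow_left k)
    (orderOf_dvd_of_pow_eq_one h2) (orderOf_dvd_natCard _)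
  exact (QuotientGroup.eq_one_iff _).mp (congrArg Subtype.val (orderOf_eq_one_iff.mp h3))

/-- A group whose elements are counted by class sizes as in a nilpotent group is nilpotent. -/
theorem nilpotent_of_class_counts
    (hU : ∀ q : ℕ, q.Prime →
      (Nat.card {x : G // ¬ q ∣ (centralizer ({x} : Set G)).index}).factorization q =
        (Nat.card (center G)).factorization q)
    (hX : ∀ q : ℕ, q.Prime → Nat.card {x : G // ∃ a, (centralizer ({x} : Set G)).index = q ^ a} *
      q ^ (Nat.card (center G)).factorization q =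
      q ^ (Nat.card G).factorization q * Nat.card (center G)) :
    Group.IsNilpotent G := by
  refine (Group.isNilpotent_of_finite_tfae (G := G)).out 3 0 |>.mp fun q hq P => ?_
  have hq' : q.Prime := hq.out
  haveI : Fact q.Prime := hq
  set Z := center G
  have hO := H1.pCore_le_sylow P
  suffices Nat.card (P : Subgroup G) ≤ Nat.card (Cfsg.pCore q G) by
    have := eq_of_le_of_card_ge hO this
    rw [← this]
    exact H1.pCore_normal' q G
  -- the `q'`-part of the centre
  let W := {k : Z // ¬ q ∣ orderOf k}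
  have hW : Nat.card W * q ^ (Nat.card Z).factorization q = Nat.card Z := by
    have hnil : Group.IsNilpotent Z :=
      letI : CommGroup Z := { (inferInstance : Group Z) with
        mul_comm := fun a b => Subtype.ext (mem_center_iff.mp b.2 a) }
      inferInstance
    obtain ⟨S⟩ : Nonempty (Sylow q Z) := inferInstance
    have hnpc := H1.hasNormalPComplement_of_nilpotent q hnil
    have h1 := (H5.pResidual_isComplement' hnpc S).card_mul
    rw [factorization_card_sylow] at h1
    refine Eq.trans ?_ h1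
    congr 1
    exact Nat.card_congr (Equiv.subtypeEquivRight fun k => by
      rw [H5.mem_pResidual_iff hnpc, Nat.coprime_comm, hq'.coprime_iff_not_dvd])
  let f : (Cfsg.pCore q G) × W → G := fun t => (t.1 : G) * ((t.2.1 : Z) : G)
  have hle : Nat.card {x : G // ∃ a, (centralizer ({x} : Set G)).index = q ^ a} ≤
      Nat.card (Cfsg.pCore q G) * Nat.card W := by
    rw [← Nat.card_prod]
    suffices h : ∀ x : {x : G // ∃ a, (centralizer ({x} : Set G)).index = q ^ a}, ∃ t, f t = x.1 by
      choose g hg using h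
      exact Nat.card_le_card_of_injective g fun x y hxy => Subtype.ext (by rw [← hg, hxy, hg])
    rintro ⟨x, a, ha⟩
    obtain ⟨h, k, hc, hh, hk, rfl⟩ := exists_pPart q x
    obtain ⟨b, _, hb⟩ := (Nat.dvd_prime_pow hq').mp
      (ha ▸ index_left_dvd_mul hc (coprime_parts q hh hk))
    obtain ⟨c, _, hkc⟩ := (Nat.dvd_prime_pow hq').mp
      (ha ▸ index_right_dvd_mul hc (coprime_parts q hh hk))
    have hhO := mem_pCore_of_index_eq_pow hh hb
    have hkZ : k ∈ Z := by
      by_contra hkZ
      have hne : orderOf (k : G ⧸ Z) ≠ 1 := fun h =>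
        hkZ ((QuotientGroup.eq_one_iff k).mp (orderOf_eq_one_iff.mp h))
      obtain ⟨r, hr, hrk⟩ := Nat.exists_prime_and_dvd hne
      have := Fact.mk hr
      obtain ⟨t, m, hm, hko⟩ := Nat.exists_eq_pow_mul_and_not_dvd (orderOf_pos k).ne' r hr.ne_one
      have hrq : r ≠ q := by
        rintro rfl
        exact hk (hrk.trans (orderOf_map_dvd (QuotientGroup.mk' Z) k))
      have hidx : ¬ r ∣ (centralizer ({k ^ m} : Set G)).index := fun hd => by
        have := hd.trans (index_dvd_of_le (cent_le_cent_pow k m))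
        rw [hkc] at this
        exact hrq ((Nat.prime_dvd_prime_iff_eq hr hq').mp (hr.dvd_of_dvd_pow this))
      obtain ⟨R, hR⟩ := not_dvd_index_cent_iff.mp hidx
      have hord : ∃ j, orderOf (k ^ m) = r ^ j := by
        have hd : orderOf (k ^ m) ∣ r ^ t := orderOf_dvd_of_pow_eq_one (by
          rw [← pow_mul, mul_comm, ← hko, pow_orderOf_eq_one])
        obtain ⟨j, _, hj⟩ := (Nat.dvd_prime_pow hr).mp hd
        exact ⟨j, hj⟩
      have hkR : k ^ m ∈ (R : Subgroup G) := mem_sylow_of_centralizes R hord hR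
      have hkmZ := mem_center_of_count r (hU r hr) R hkR hR
      have h1 : orderOf (k : G ⧸ Z) ∣ m := by
        rw [orderOf_dvd_iff_pow_eq_one, ← QuotientGroup.mk_pow]
        exact (QuotientGroup.eq_one_iff _).mpr hkmZ
      exact hm (hrk.trans h1)
    exact ⟨(⟨h, hhO⟩, ⟨⟨k, hkZ⟩, by rwa [← orderOf_coe]⟩), rfl⟩
  have h1 := hX q hq'
  rw [← factorization_card_sylow q P] at h1
  refine Nat.le_of_mul_le_mul_right ?_ (Nat.card_pos (α := Z))
  calc Nat.card (P : Subgroup G) * Nat.card Z
      = _ := h1.symm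
    _ ≤ Nat.card (Cfsg.pCore q G) * Nat.card W * q ^ (Nat.card Z).factorization q :=
        Nat.mul_le_mul_right _ hle
    _ = _ := by rw [mul_assoc, hW]

end H27
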