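import Mathlib.GroupTheory.Sylow
import Cfsg.Agent.H27.SolCount

/-!
The number of classes of elements killed by `M`, when `M` contains the full part of the group
order for each of its primes, is at most `M`.
-/

set_option autoImplicit false

universe u

namespace H27

open Subgroup

theorem card_classes_primePow_le {G : Type u} [Group G] [Finite G] {p : ℕ} [Fact p.Prime] (e : ℕ)
    (he : (Nat.card G).factorization p ≤ e) :
    Nat.card {C : ConjClasses G // ∃ g : G, ConjClasses.mk g = C ∧ g ^ p ^ e = 1} ≤ p ^ e := by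
  obtain ⟨P⟩ : Nonempty (Sylow p G) := inferInstance
  refine le_trans (Nat.card_le_card_of_surjective (fun y : (P : Subgroup G) =>
    (⟨ConjClasses.mk (y : G), (y : G), rfl, ?_⟩ :
      {C : ConjClasses G // ∃ g : G, ConjClasses.mk g = C ∧ g ^ p ^ e = 1})) ?_) ?_
  · have h1 : Nat.card (P : Subgroup G) ∣ p ^ e := by
      rw [P.card_eq_multiplicity]; exact pow_dvd_pow p he
    obtain ⟨k, hk⟩ := h1
    rw [hk, pow_mul, show (y : G) ^ Nat.card (P : Subgroup G) = 1 from
      congrArg Subtype.val (pow_card_eq_one' (x := y)), one_pow]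
  · rintro ⟨C, g, rfl, hg⟩
    obtain ⟨i, -, hi⟩ := (Nat.dvd_prime_pow Fact.out).mp (orderOf_dvd_of_pow_eq_one hg)
    obtain ⟨Q, hQ⟩ := IsPGroup.exists_le_sylow
      (IsPGroup.of_card (p := p) (G := zpowers g) (n := i) (by rw [Nat.card_zpowers, hi]))
    obtain ⟨x, hx⟩ := MulAction.exists_smul_eq G Q P
    have hmem : x * g * x⁻¹ ∈ (P : Subgroup G) := by
      rw [← hx, Sylow.coe_subgroup_smul]
      exact Subgroup.mem_map_of_mem (MulAut.conj x).toMonoidHom (hQ (mem_zpowers g))
    refine ⟨⟨_, hmem⟩, Subtype.ext ?_⟩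
    exact ConjClasses.mk_eq_mk_iff_isConj.mpr (isConj_iff.mpr ⟨x⁻¹, by group⟩)
  · rw [P.card_eq_multiplicity]
    exact Nat.pow_le_pow_right (Fact.out : p.Prime).pos he

theorem card_classes_pow_eq_one_le : ∀ M : ℕ, M ≠ 0 → ∀ (G : Type u) [Group G] [Finite G],
    (∀ q : ℕ, q.Prime → q ∣ M → (Nat.card G).factorization q ≤ M.factorization q) →
    Nat.card {C : ConjClasses G // ∃ g : G, ConjClasses.mk g = C ∧ g ^ M = 1} ≤ M := by
  intro M
  induction M using Nat.strong_induction_on with
  | _ M ih =>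
  intro hM0 G _ _ hfull
  classical
  rcases eq_or_ne M 1 with rfl | hM1
  · have : Subsingleton {C : ConjClasses G // ∃ g : G, ConjClasses.mk g = C ∧ g ^ 1 = 1} := by
      refine ⟨fun a b => Subtype.ext ?_⟩
      obtain ⟨g, hg, hg1⟩ := a.2
      obtain ⟨h, hh, hh1⟩ := b.2
      rw [← hg, ← hh, pow_one] at *
      rw [hg1, hh1]
    exact Finite.card_le_one_iff_subsingleton.mpr this
  obtain ⟨p, hp, hpM⟩ := Nat.exists_prime_and_dvd hM1
  have hp' : Fact p.Prime := ⟨hp⟩
  set e := M.factorization p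
  set M' := M / p ^ e
  have hM : M = p ^ e * M' := (Nat.mul_div_cancel' (Nat.ordProj_dvd M p)).symm
  have hcop : (p ^ e).Coprime M' := (Nat.coprime_ordCompl hp hM0).pow_left _
  have hM'0 : M' ≠ 0 := fun h => hM0 (by rw [hM, h, mul_zero])
  have hlt : M' < M := Nat.div_lt_self (Nat.pos_of_ne_zero hM0)
    (Nat.one_lt_pow (hp.factorization_pos_of_dvd hM0 hpM).ne' hp.one_lt)
  have hbase := card_classes_primePow_le (G := G) (p := p) e (hfull p hp hpM)
  let Y := {C : ConjClasses G // ∃ g : G, ConjClasses.mk g = C ∧ g ^ p ^ e = 1}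
  let rep : Y → G := fun C => C.2.choose
  have hrep : ∀ C : Y, ConjClasses.mk (rep C) = C.1 ∧ rep C ^ p ^ e = 1 := fun C => C.2.choose_spec
  let Z : Y → Type u := fun C =>
    {D : ConjClasses (centralizer ({rep C} : Set G)) //
      ∃ g, ConjClasses.mk g = D ∧ g ^ M' = 1}
  have hZ : ∀ C : Y, Nat.card (Z C) ≤ M' := by
    intro C
    refine ih M' hlt hM'0 _ fun q hq hqM' => ?_
    have hqp : q ≠ p := by
      intro h
      have hpM' : p ∣ M' := by rwa [h] at hqM'
      exact Nat.not_dvd_ordCompl hp hM0 hpM'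
    calc (Nat.card (centralizer ({rep C} : Set G))).factorization q
        ≤ (Nat.card G).factorization q :=
          (Nat.factorization_le_iff_dvd Nat.card_pos.ne' Nat.card_pos.ne').mpr
            (Subgroup.card_subgroup_dvd_card _) q
      _ ≤ M.factorization q := hfull q hq (hqM'.trans (Nat.div_dvd_of_dvd (Nat.ordProj_dvd M p)))
      _ = M'.factorization q := by
          rw [Nat.factorization_div (Nat.ordProj_dvd M p), Finsupp.tsub_apply,
            Nat.Prime.factorization_pow hp, Finsupp.single_eq_of_ne (by exact hqp), Nat.sub_zero]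
  cases nonempty_fintype Y
  calc Nat.card {C : ConjClasses G // ∃ g : G, ConjClasses.mk g = C ∧ g ^ M = 1}
      ≤ Nat.card (Σ C : Y, Z C) := by
        refine Nat.card_le_card_of_surjective (fun t =>
          ⟨ConjClasses.mk (rep t.1 * (t.2.2.choose : G)), _, rfl, ?_⟩) ?_
        · have hc : Commute (rep t.1) (t.2.2.choose : G) := mem_cent_comm.mp t.2.2.choose.2
          have h2 : (t.2.2.choose : G) ^ M' = 1 := congrArg Subtype.val t.2.2.choose_spec.2
          rw [hc.mul_pow, hM, pow_mul, (hrep t.1).2, one_pow, one_mul, mul_comm, pow_mul, h2,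
            one_pow]
        · rintro ⟨C, g, rfl, hg⟩
          rw [hM] at hg
          obtain ⟨y, z, hyz, hy, hz, rfl⟩ := exists_split hcop hg
          let C₀ : Y := ⟨ConjClasses.mk y, y, rfl, hy⟩
          obtain ⟨x, hx⟩ := isConj_iff.mp (ConjClasses.mk_eq_mk_iff_isConj.mp (hrep C₀).1.symm)
          have hz' : x * z * x⁻¹ ∈ centralizer ({rep C₀} : Set G) := by
            rw [mem_cent_comm, ← hx]
            simpa [MulAut.conj_apply] using hyz.map (MulAut.conj x).toMonoidHom
          let D₀ : Z C₀ := ⟨ConjClasses.mk ⟨_, hz'⟩, _, rfl, Subtype.ext (by simp [hz])⟩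
          refine ⟨⟨C₀, D₀⟩, Subtype.ext ?_⟩
          obtain ⟨c, hc⟩ := isConj_iff.mp
            (ConjClasses.mk_eq_mk_iff_isConj.mp D₀.2.choose_spec.1)
          have hc' : (c : G) * (D₀.2.choose : G) * (c : G)⁻¹ = x * z * x⁻¹ := congrArg Subtype.val hc
          refine ConjClasses.mk_eq_mk_iff_isConj.mpr (isConj_iff.mpr ⟨x⁻¹ * c, ?_⟩)
          calc x⁻¹ * (c : G) * (rep C₀ * (D₀.2.choose : G)) * (x⁻¹ * (c : G))⁻¹
              = x⁻¹ * ((c : G) * rep C₀ * (c : G)⁻¹ *
                  ((c : G) * (D₀.2.choose : G) * (c : G)⁻¹)) * x := by group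
            _ = x⁻¹ * (rep C₀ * (x * z * x⁻¹)) * x := by
                rw [hc', mem_cent.mp c.2, mul_inv_cancel_right]
            _ = y * z := by rw [← hx]; group
    _ = ∑ C : Y, Nat.card (Z C) := Nat.card_sigma
    _ ≤ ∑ _C : Y, M' := Finset.sum_le_sum fun C _ => hZ C
    _ = Nat.card Y * M' := by simp [Nat.card_eq_fintype_card]
    _ ≤ M := by rw [hM]; exact Nat.mul_le_mul_right _ hbase

end H27
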