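import Mathlib.GroupTheory.SchurZassenhaus
import Mathlib.GroupTheory.Perm.Cycle.Type
import Cfsg.Agent.H27.ClassBasic

/-! Camina pairs and triples. -/

set_option autoImplicit false

namespace H27

open Subgroup

variable {G : Type*} [Group G] [Finite G]

theorem card_preimage_carrier (N : Subgroup G) [N.Normal] (g : G) :
    Nat.card ((QuotientGroup.mk : G → G ⧸ N) ⁻¹' (ConjClasses.mk (g : G ⧸ N)).carrier) =
      Nat.card N * (centralizer ({(g : G ⧸ N)} : Set (G ⧸ N))).index := by
  rw [QuotientGroup.card_preimage_mk, card_carrier_eq_index]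

theorem camina_iff_card_cent (N : Subgroup G) [N.Normal] :
    (∀ g : G, g ∉ N → ∀ n ∈ N, ∃ x : G, x * g * x⁻¹ = g * n) ↔
      ∀ g : G, g ∉ N → Nat.card (centralizer ({g} : Set G)) =
        Nat.card (centralizer ({(QuotientGroup.mk g : G ⧸ N)} : Set (G ⧸ N))) := by
  refine forall_congr' fun g => imp_congr_right fun _ => ?_
  set A := (ConjClasses.mk g).carrier
  set B := (QuotientGroup.mk : G → G ⧸ N) ⁻¹' (ConjClasses.mk (g : G ⧸ N)).carrier
  have hAB : A ⊆ B := by
    intro y hy
    rw [ConjClasses.mem_carrier_iff_mk_eq, ConjClasses.mk_eq_mk_iff_isConj] at hy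
    rw [Set.mem_preimage, ConjClasses.mem_carrier_iff_mk_eq, ConjClasses.mk_eq_mk_iff_isConj]
    exact MonoidHom.map_isConj (QuotientGroup.mk' N) hy
  have hcard : Nat.card (centralizer ({g} : Set G)) =
      Nat.card (centralizer ({(g : G ⧸ N)} : Set (G ⧸ N))) ↔ Nat.card A = Nat.card B := by
    rw [card_preimage_carrier, card_carrier_eq_index]
    set c := Nat.card (centralizer ({g} : Set G))
    set d := Nat.card (centralizer ({(g : G ⧸ N)} : Set (G ⧸ N)))
    set i := (centralizer ({g} : Set G)).index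
    set j := (centralizer ({(g : G ⧸ N)} : Set (G ⧸ N))).index
    have h3 : c * i = d * (Nat.card N * j) := by
      rw [mul_left_comm, card_cent_mul_index, card_cent_mul_index,
        Subgroup.card_eq_card_quotient_mul_card_subgroup N, mul_comm]
    have hi : 0 < i := cent_pos g
    have hd : 0 < d := Nat.card_pos
    constructor
    · intro h
      rw [h] at h3
      exact Nat.eq_of_mul_eq_mul_left hd h3
    · intro h
      rw [← h] at h3
      exact Nat.eq_of_mul_eq_mul_right hi h3
  rw [hcard]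
  constructor
  · intro h
    have : A = B := by
      refine Set.Subset.antisymm hAB fun y hy => ?_
      rw [Set.mem_preimage, ConjClasses.mem_carrier_iff_mk_eq,
        ConjClasses.mk_eq_mk_iff_isConj] at hy
      obtain ⟨b, hb⟩ := isConj_iff.mp hy.symm
      obtain ⟨a, rfl⟩ := QuotientGroup.mk_surjective b
      rw [← QuotientGroup.mk_inv, ← QuotientGroup.mk_mul, ← QuotientGroup.mk_mul,
        QuotientGroup.eq] at hb
      -- `y = a g a⁻¹ n`
      obtain ⟨x, hx⟩ := h _ ((inferInstance : N.Normal).conj_mem _ hb a⁻¹)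
      rw [ConjClasses.mem_carrier_iff_mk_eq, ConjClasses.mk_eq_mk_iff_isConj]
      refine (isConj_iff.mpr ⟨a * x, ?_⟩ : IsConj g y).symm
      calc a * x * g * (a * x)⁻¹ = a * (x * g * x⁻¹) * a⁻¹ := by group
        _ = y := by rw [hx]; group
    rw [this]
  · intro h n hn
    have : A = B := by
      refine Set.eq_of_subset_of_ncard_le hAB ?_
      rw [← Nat.card_coe_set_eq, ← Nat.card_coe_set_eq, h]
    have hmem : g * n ∈ A := by
      rw [this, Set.mem_preimage, ConjClasses.mem_carrier_iff_mk_eq, QuotientGroup.mk_mul,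
        (QuotientGroup.eq_one_iff n).mpr hn, mul_one]
    rw [ConjClasses.mem_carrier_iff_mk_eq, ConjClasses.mk_eq_mk_iff_isConj] at hmem
    exact isConj_iff.mp hmem.symm

/-- A minimal supplement of a normal subgroup `N` meets `N` in a group whose order has only
prime divisors of `N.index`. -/
theorem exists_supplement (N : Subgroup G) [N.Normal] :
    ∃ H : Subgroup G, H ⊔ N = ⊤ ∧
      ∀ q : ℕ, q.Prime → q ∣ Nat.card (H ⊓ N : Subgroup G) → q ∣ N.index := by
  obtain ⟨H, hH⟩ := exists_minimal_of_wellFoundedLT (fun H : Subgroup G => H ⊔ N = ⊤)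
    ⟨⊤, top_sup_eq N⟩
  refine ⟨H, hH.prop, fun q hq hqd => ?_⟩
  by_contra hqi
  have := Fact.mk hq
  set K := N.subgroupOf H with hK
  have hKidx : K.index = N.index := by
    rw [hK, ← relIndex_top_right N, ← hH.prop, relIndex_sup_right]
    rfl
  have hKcard : Nat.card K = Nat.card (H ⊓ N : Subgroup G) := by
    rw [hK, ← card_map_of_injective H.subtype_injective, subgroupOf_map_subtype, inf_comm]
  obtain ⟨Q⟩ : Nonempty (Sylow q K) := inferInstance
  set Q' := (Q : Subgroup K).map K.subtype with hQ'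
  have hQK : Q' ≤ K := map_subtype_le _
  have hfr : normalizer (Q' : Set H) ⊔ K = ⊤ := Q.normalizer_sup_eq_top
  -- by minimality `Q'` is normal in `H`
  have hmin : ∀ L : Subgroup H, L ⊔ K = ⊤ → L = ⊤ := by
    intro L hL
    have hle : L.map H.subtype ≤ H := map_subtype_le _
    have h1 : L.map H.subtype ⊔ N = ⊤ := by
      refine top_le_iff.mp (hH.prop ▸ sup_le ?_ le_sup_right)
      calc H = (⊤ : Subgroup H).map H.subtype := by simp [← MonoidHom.range_eq_map]
        _ = L.map H.subtype ⊔ K.map H.subtype := by rw [← hL, Subgroup.map_sup]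
        _ ≤ _ := sup_le_sup_left (by rw [hK, subgroupOf_map_subtype]; exact inf_le_left) _
    apply map_injective H.subtype_injective
    rw [show (⊤ : Subgroup H).map H.subtype = H by simp [← MonoidHom.range_eq_map]]
    exact le_antisymm hle (hH.le_of_le h1 hle)
  have hn : normalizer (Q' : Set H) = ⊤ := hmin _ hfr
  have : Q'.Normal := normalizer_eq_top_iff.mp hn
  have hidx : ¬ q ∣ Q'.index := by
    rw [hQ', index_map_subtype, hKidx]
    exact hq.not_dvd_mul Q.not_dvd_index hqi
  have hQp : IsPGroup q Q' := Q.isPGroup'.map _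
  have hcop : (Nat.card Q').Coprime Q'.index := by
    obtain ⟨k, hk⟩ := IsPGroup.iff_card.mp hQp
    rw [hk]
    exact (hq.coprime_iff_not_dvd.mpr hidx).pow_left k
  obtain ⟨L, hL⟩ := exists_right_complement'_of_coprime hcop
  have hL1 : L ⊔ K = ⊤ := by
    refine top_le_iff.mp ?_
    rw [← hL.sup_eq_top, sup_comm Q']
    exact sup_le_sup_left hQK _
  have hLtop := hmin L hL1
  have hQbot : Q' = ⊥ := by
    have := hL.disjoint
    rwa [hLtop, disjoint_top] at this
  have : q ∣ Nat.card Q' := by
    rw [hQ', card_map_of_injective K.subtype_injective]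
    exact Q.dvd_card_of_dvd_card (hKcard ▸ hqd)
  rw [hQbot, Subgroup.card_bot] at this
  exact hq.one_lt.ne' (Nat.dvd_one.mp this)

theorem camina_triple (N M : Subgroup G) [N.Normal] [M.Normal] (hMN : M ≤ N) (hM1 : M ≠ ⊥)
    (hN2 : N ≠ ⊤) (hcam : ∀ g : G, g ∉ N → ∀ m ∈ M, ∃ x : G, x * g * x⁻¹ = g * m) :
    ((∀ x ∈ M, x ≠ 1 → centralizer ({x} : Set G) ≤ N) ↔ N.index.Coprime (Nat.card M)) ∧
    ((∀ x ∈ M, x ≠ 1 → centralizer ({x} : Set G) ≤ N) →
      ∃ H : Subgroup G, H ⊔ N = ⊤ ∧ H ⊓ M = ⊥) := by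
  have hiff : (∀ x ∈ M, x ≠ 1 → centralizer ({x} : Set G) ≤ N) ↔
      N.index.Coprime (Nat.card M) := by
    constructor
    · intro h
      refine Nat.coprime_of_dvd fun q hq hqN hqM => ?_
      have := Fact.mk hq
      obtain ⟨P⟩ : Nonempty (Sylow q G) := inferInstance
      obtain ⟨y, hy⟩ := exists_prime_orderOf_dvd_card' (G := M) q hqM
      -- a conjugate of `y` lies in `P`
      obtain ⟨Q, hQ⟩ := IsPGroup.exists_le_sylow
        (IsPGroup.of_card (p := q) (G := zpowers (y : G)) (n := 1)
          (by rw [Nat.card_zpowers, orderOf_coe, hy, pow_one]))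
      obtain ⟨g, hg⟩ := MulAction.exists_smul_eq G Q P
      set y' := g * (y : G) * g⁻¹
      have hy'P : y' ∈ (P : Subgroup G) := by
        rw [← hg, Sylow.coe_subgroup_smul]
        exact Subgroup.mem_map_of_mem (MulAut.conj g).toMonoidHom (hQ (mem_zpowers _))
      have hy'M : y' ∈ M := (inferInstance : M.Normal).conj_mem _ y.2 g
      have hne : y' ≠ 1 := by
        intro h1
        rw [conj_eq_one_iff, OneMemClass.coe_eq_one] at h1
        rw [h1, orderOf_one] at hy
        exact hq.one_lt.ne hy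
      -- the intersection of `M` with `P` contains a nontrivial central element
      have : Nontrivial (M.subgroupOf (P : Subgroup G)) :=
        ⟨⟨⟨⟨y', hy'P⟩, hy'M⟩, 1, fun h => hne
          (congrArg (fun t : M.subgroupOf (P : Subgroup G) => ((t : (P : Subgroup G)) : G)) h)⟩⟩
      have hz : ∃ z ∈ M, z ≠ 1 ∧ z ∈ centralizer ((P : Subgroup G) : Set G) := by
        have hdvd : q ∣ Nat.card (M.subgroupOf (P : Subgroup G)) := by
          obtain ⟨k, hk, hk'⟩ := (IsPGroup.nontrivial_iff_card (IsPGroup.to_subgroup P.isPGroup'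
            (M.subgroupOf (P : Subgroup G)))).mp this
          rw [hk']
          exact dvd_pow_self q hk.ne'
        have hact : IsPGroup q (ConjAct (P : Subgroup G)) :=
          IsPGroup.of_equiv P.isPGroup' ConjAct.toConjAct
        obtain ⟨b, hb, hb1⟩ := hact.exists_fixed_point_of_prime_dvd_card_of_fixed_point
          (α := M.subgroupOf (P : Subgroup G)) hdvd (a := 1) (fun c => smul_one c)
        refine ⟨((b : (P : Subgroup G)) : G), b.2, fun h => hb1 ?_, mem_centralizer_iff.mpr ?_⟩
        · exact Subtype.ext (Subtype.ext h.symm)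
        · intro a ha
          have h1 := hb (ConjAct.toConjAct ⟨a, ha⟩)
          have h2 : (⟨a, ha⟩ : (P : Subgroup G)) * b * (⟨a, ha⟩ : (P : Subgroup G))⁻¹ = b :=
            congrArg Subtype.val h1
          exact mul_inv_eq_iff_eq_mul.mp (congrArg Subtype.val h2)
      obtain ⟨z, hzM, hz1, hzc⟩ := hz
      refine P.not_dvd_index (hqN.trans (index_dvd_of_le ?_))
      exact (le_cent_iff.mpr hzc).trans (h z hzM hz1)
    · intro hcop x hxM hx1 g hg
      by_contra hgN
      -- reduce to elements of prime power order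
      set a := orderOf (g : G ⧸ N) with ha
      have hane : a ≠ 1 := fun h => hgN ((QuotientGroup.eq_one_iff g).mp (orderOf_eq_one_iff.mp h))
      obtain ⟨r, hr, hra⟩ := Nat.exists_prime_and_dvd hane
      have hr' := Fact.mk hr
      have hrN : r ∣ N.index := hra.trans (orderOf_dvd_natCard _)
      obtain ⟨g₁, hg₁, j, hj⟩ := exists_lift_pElement (p := r) N (k := 1)
        (a := (g : G ⧸ N) ^ (a / r))
        (by rw [pow_one]; exact orderOf_pow_orderOf_div (orderOf_pos _).ne' hra)
      -- the `r`-part of a power of `g`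
      obtain ⟨t, m, hm, hgo⟩ := Nat.exists_eq_pow_mul_and_not_dvd (orderOf_pos g).ne' r hr.ne_one
      set g' := g ^ m
      have hg'o : orderOf g' = r ^ t := by
        have hm0 : m ≠ 0 := fun h => hm (h ▸ dvd_zero r)
        rw [orderOf_pow_of_dvd hm0 (hgo ▸ dvd_mul_left m _), hgo,
          Nat.mul_div_cancel _ (Nat.pos_of_ne_zero hm0)]
      have hg'N : g' ∉ N := by
        intro h
        have h1 : a ∣ m := by
          rw [ha, orderOf_dvd_iff_pow_eq_one, ← QuotientGroup.mk_pow]
          exact (QuotientGroup.eq_one_iff _).mpr h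
        exact hm (hra.trans h1)
      obtain ⟨q, hq, hqx⟩ := Nat.exists_prime_and_dvd (mt orderOf_eq_one_iff.mp hx1)
      have hxo : orderOf x ∣ Nat.card M := Subgroup.orderOf_dvd_natCard M hxM
      have hcx : (orderOf g').Coprime (orderOf x) := by
        rw [hg'o]
        exact ((Nat.Coprime.coprime_dvd_left hrN hcop).coprime_dvd_right hxo).pow_left t
      have hgx : Commute g' x := ((mem_cent_comm.mp hg).symm).pow_left m
      obtain ⟨y, hy⟩ := hcam g' hg'N x hxM
      have h1 : orderOf (g' * x) = orderOf g' := by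
        rw [← hy, ← MulAut.conj_apply, MulEquiv.orderOf_eq]
      rw [hgx.orderOf_mul_eq_mul_orderOf_of_coprime hcx] at h1
      exact hx1 (orderOf_eq_one_iff.mp (Nat.eq_of_mul_eq_mul_left (orderOf_pos g')
        (h1.trans (mul_one _).symm)))
  refine ⟨hiff, fun h => ?_⟩
  obtain ⟨H, hH, hHN⟩ := exists_supplement N
  refine ⟨H, hH, ?_⟩
  by_contra hne
  have hne1 : Nat.card (H ⊓ M : Subgroup G) ≠ 1 := fun h => hne (eq_bot_of_card_eq _ h)
  obtain ⟨q, hq, hqd⟩ := Nat.exists_prime_and_dvd hne1
  have h1 := hHN q hq (hqd.trans (card_dvd_of_le (inf_le_inf_left H hMN)))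
  have h2 := hqd.trans (card_dvd_of_le (inf_le_right : H ⊓ M ≤ M))
  exact hq.one_lt.ne' (Nat.eq_one_of_dvd_coprimes (hiff.mp h) h1 h2)

end H27
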