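import Cfsg.Agent.H27.Camina
import Cfsg.Agent.H5.TateCor
import Cfsg.Agent.H2.FPFSubgroup
import Cfsg.Agent.S0033
import Cfsg.Agent.S0065
import Cfsg.Agent.H31.InvariantMax

/-! The trichotomy for Camina pairs. -/

set_option autoImplicit false

namespace H27

open Subgroup
open scoped commutatorElement

variable {G : Type*} [Group G] [Finite G]

/-- An element outside `N` commutes with no non-trivial element of `N` of coprime order. -/
theorem camina_eq_one_of_commute (N : Subgroup G)
    (hcam : ∀ g : G, g ∉ N → ∀ n ∈ N, ∃ x : G, x * g * x⁻¹ = g * n) {g n : G} (hg : g ∉ N)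
    (hn : n ∈ N) (hc : Commute g n) (hco : (orderOf g).Coprime (orderOf n)) : n = 1 := by
  obtain ⟨y, hy⟩ := hcam g hg n hn
  have h1 : orderOf (g * n) = orderOf g := by
    rw [← hy, ← MulAut.conj_apply, MulEquiv.orderOf_eq]
  rw [hc.orderOf_mul_eq_mul_orderOf_of_coprime hco] at h1
  exact orderOf_eq_one_iff.mp
    (Nat.eq_of_mul_eq_mul_left (orderOf_pos g) (h1.trans (mul_one _).symm))

/-- If a prime `q` divides both the index and the order of a Camina kernel `N`, then `N` is
`q`-nilpotent. -/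
theorem camina_hasNormalPComplement (N : Subgroup G) [N.Normal]
    (hcam : ∀ g : G, g ∉ N → ∀ n ∈ N, ∃ x : G, x * g * x⁻¹ = g * n)
    {q : ℕ} [Fact q.Prime] (hqi : q ∣ N.index) : Cfsg.HasNormalPComplement q N := by
  obtain ⟨P⟩ : Nonempty (Sylow q G) := inferInstance
  set π := QuotientGroup.mk' N
  set Pq := (P : Subgroup G).map π with hPq
  have hPqp : IsPGroup q Pq := P.isPGroup'.map _
  have hPN : ¬ (P : Subgroup G) ≤ N := fun h => P.not_dvd_index (hqi.trans (index_dvd_of_le h))
  have : Nontrivial Pq := by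
    rw [nontrivial_iff_ne_bot, hPq, ne_eq, Subgroup.map_eq_bot_iff, QuotientGroup.ker_mk']
    exact hPN
  have hc := hPqp.center_nontrivial
  obtain ⟨⟨⟨a, ha⟩, hac⟩, hne⟩ := exists_ne (1 : center Pq)
  have ha1 : a ≠ 1 := fun h => hne (Subtype.ext (Subtype.ext h))
  obtain ⟨g, hgP, rfl⟩ := ha
  have hgN : g ∉ N := fun h => ha1 ((QuotientGroup.eq_one_iff g).mpr h)
  have hcard := (camina_iff_card_cent N).mp hcam g hgN
  -- the centralizer of `g` in `P`
  set g' : (P : Subgroup G) := ⟨g, hgP⟩
  set C := centralizer ({g'} : Set (P : Subgroup G))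
  have hPqC : Nat.card Pq ∣ Nat.card (centralizer ({π g} : Set (G ⧸ N))) :=
    card_dvd_of_le fun b hb => mem_cent_comm.mpr
      ((congrArg Subtype.val (mem_center_iff.mp hac ⟨b, hb⟩) : b * π g = π g * b).symm)
  have hC1 : Nat.card C ∣ Nat.card (centralizer ({g} : Set G)) := by
    rw [← card_map_of_injective (P : Subgroup G).subtype_injective]
    refine card_dvd_of_le ?_
    rintro _ ⟨b, hb, rfl⟩
    exact mem_cent_comm.mpr (congrArg Subtype.val (mem_cent_comm.mp hb) :)
  -- the class of `g` in `P`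
  set A : Set (P : Subgroup G) := (ConjClasses.mk g').carrier
  set B : Set (P : Subgroup G) := {y | π (y : G) = π g}
  have hAB : A ⊆ B := by
    intro y hy
    rw [ConjClasses.mem_carrier_iff_mk_eq, ConjClasses.mk_eq_mk_iff_isConj] at hy
    obtain ⟨c, hc'⟩ := isConj_iff.mp hy.symm
    show π (y : G) = π g
    rw [← hc']
    have h2 := congrArg Subtype.val (mem_center_iff.mp hac ⟨π c, mem_map_of_mem π c.2⟩)
    simp only [Subgroup.coe_mul, InvMemClass.coe_inv, map_mul, map_inv] at h2 ⊢
    rw [show π (g' : G) = π g from rfl]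
    exact mul_inv_eq_of_eq_mul h2
  have hBcard : Nat.card B = Nat.card (N.subgroupOf (P : Subgroup G)) := by
    refine (Nat.card_congr ?_).symm
    refine
      { toFun := fun n => ⟨g' * n.1, ?_⟩
        invFun := fun b => ⟨g'⁻¹ * b.1, ?_⟩
        left_inv := fun n => Subtype.ext (by simp)
        right_inv := fun b => Subtype.ext (by simp) }
    · show π (g * (n.1 : G)) = π g
      rw [map_mul, show π (n.1 : G) = 1 from (QuotientGroup.eq_one_iff _).mpr n.2, mul_one]
    · show g⁻¹ * (b.1 : G) ∈ N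
      have hb : π ((b.1 : (P : Subgroup G)) : G) = π g := b.2
      rw [← QuotientGroup.eq_one_iff]
      show π (g⁻¹ * _) = 1
      rw [map_mul, hb, ← map_mul, inv_mul_cancel, map_one]
  have hP : Nat.card (P : Subgroup G) =
      Nat.card (N.subgroupOf (P : Subgroup G)) * Nat.card Pq := by
    rw [← card_mul_index (N.subgroupOf (P : Subgroup G))]
    congr 1
    rw [show N.subgroupOf (P : Subgroup G) = ((π.comp (P : Subgroup G).subtype)).ker by
      ext x; simp [π, mem_subgroupOf], index_ker, MonoidHom.range_comp, range_subtype]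
  have hle : Nat.card C ≤ Nat.card Pq := by
    obtain ⟨i, hi⟩ := IsPGroup.iff_card.mp (P.isPGroup'.to_subgroup C)
    obtain ⟨j, hj⟩ := IsPGroup.iff_card.mp hPqp
    obtain ⟨S, hS⟩ : ∃ S : Subgroup G, Nat.card S = q ^ max i j ∧
        Nat.card S ∣ Nat.card (centralizer ({g} : Set G)) := by
      have h1 : q ^ max i j ∣ Nat.card (centralizer ({g} : Set G)) := by
        rcases max_choice i j with h | h <;> rw [h]
        · exact hi ▸ hC1
        · rw [hcard]; exact hj ▸ hPqC
      obtain ⟨S, hS⟩ := Sylow.exists_subgroup_card_pow_prime q h1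
      refine ⟨S.map (centralizer _).subtype, ?_, ?_⟩
      · rw [card_map_of_injective (centralizer _).subtype_injective, hS]
      · rw [card_map_of_injective (centralizer _).subtype_injective]
        exact card_subgroup_dvd_card S
    -- `S` has order at most that of a Sylow subgroup of the quotient
    have hq2 : Nat.card S ∣ Nat.card (G ⧸ N) := by
      rw [hS.1]
      exact (hS.1 ▸ hS.2).trans (hcard ▸ card_subgroup_dvd_card _)
    have hnd : ¬ q ∣ Pq.index := by
      have h1 : ¬ q ∣ ((P : Subgroup G) ⊔ N).index := fun h =>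
        P.not_dvd_index (h.trans (index_dvd_of_le le_sup_left))
      rwa [hPq, index_map, MonoidHom.range_eq_top.mpr (QuotientGroup.mk'_surjective N), index_top,
        mul_one, QuotientGroup.ker_mk']
    have hd : Nat.card S ∣ Nat.card Pq := by
      refine Nat.Coprime.dvd_of_dvd_mul_right ?_ ((card_mul_index Pq).symm ▸ hq2)
      rw [hS.1]
      exact ((Fact.out : q.Prime).coprime_iff_not_dvd.mpr hnd).pow_left _
    refine le_trans ?_ (Nat.le_of_dvd Nat.card_pos hd)
    rw [hS.1, hi]
    exact Nat.pow_le_pow_right (Fact.out : q.Prime).pos (le_max_left _ _)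
  have hA : Nat.card B ≤ Nat.card A := by
    rw [hBcard, card_carrier_eq_index]
    have h1 : Nat.card C * C.index = Nat.card (N.subgroupOf (P : Subgroup G)) * Nat.card Pq :=
      (card_mul_index C).trans hP
    refine Nat.le_of_mul_le_mul_right ?_ (Nat.card_pos (α := Pq))
    rw [← h1, mul_comm C.index]
    exact Nat.mul_le_mul_right _ hle
  have hEq : A = B := by
    refine Set.eq_of_subset_of_ncard_le hAB ?_
    rwa [← Nat.card_coe_set_eq, ← Nat.card_coe_set_eq]
  refine H5.hasNormalPComplement_of_le_frattini P N fun y hy => ?_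
  have hyP : y ∈ (P : Subgroup G) := hy.2
  have hmem : g' * ⟨y, hyP⟩ ∈ A := by
    rw [hEq]
    show π (g * y) = π g
    rw [map_mul, show π y = 1 from (QuotientGroup.eq_one_iff _).mpr hy.1, mul_one]
  rw [ConjClasses.mem_carrier_iff_mk_eq, ConjClasses.mk_eq_mk_iff_isConj] at hmem
  obtain ⟨c, hc'⟩ := isConj_iff.mp hmem.symm
  refine ⟨⟨y, hyP⟩, ?_, rfl⟩
  have h2 : (⟨y, hyP⟩ : (P : Subgroup G)) = ⁅g'⁻¹, c⁆ := by
    rw [commutatorElement_def, inv_inv, mul_assoc g'⁻¹ c g', mul_assoc g'⁻¹, hc',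
      inv_mul_cancel_left]
  rw [SetLike.mem_coe, h2]
  exact H31.commutator_le_frattini P.isPGroup'
    (commutator_mem_commutator (mem_top g'⁻¹) (mem_top c))

/-- A nilpotent Camina kernel whose order shares the prime `q` with the index is a `q`-group. -/
theorem camina_false_of_nilpotent (N : Subgroup G) [N.Normal]
    (hcam : ∀ g : G, g ∉ N → ∀ n ∈ N, ∃ x : G, x * g * x⁻¹ = g * n)
    [Group.IsNilpotent N] {q r : ℕ} [Fact q.Prime] (hr : r.Prime) (hrq : r ≠ q)
    (hqN : q ∣ Nat.card N) (hrN : r ∣ Nat.card N) (hqi : q ∣ N.index) : False := by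
  have hq : q.Prime := Fact.out
  have := Fact.mk hr
  obtain ⟨R⟩ : Nonempty (Sylow r N) := inferInstance
  have hRn : (R : Subgroup N).Normal :=
    R.normal_of_normalizerCondition Group.normalizerCondition_of_isNilpotent
  obtain ⟨Q⟩ : Nonempty (Sylow q N) := inferInstance
  have hQn : (Q : Subgroup N).Normal :=
    Q.normal_of_normalizerCondition Group.normalizerCondition_of_isNilpotent
  set P0 := (Q : Subgroup N).map N.subtype with hP0
  have hP0p : IsPGroup q P0 := Q.isPGroup'.map _
  have : P0.Normal := by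
    have := Q.characteristic_of_normal hQn
    exact inferInstance
  have hP0ne : q ∣ Nat.card P0 := by
    rw [hP0, card_map_of_injective N.subtype_injective]
    exact Q.dvd_card_of_dvd_card hqN
  have hP0N : P0 ≤ N := map_subtype_le _
  -- `V` is a non-trivial central `r`-subgroup of `N`, normal in `G`
  set W := (R : Subgroup N) ⊓ center N
  have hWne : W ≠ ⊥ := by
    refine Cfsg.Agent.S0065.result _ fun h => ?_
    have h1 := R.dvd_card_of_dvd_card hrN
    rw [h, card_bot] at h1
    exact hr.ne_one (Nat.dvd_one.mp h1)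
  set V := W.map N.subtype with hV
  have hVn : V.Normal := by
    have := R.characteristic_of_normal hRn
    exact inferInstance
  have hVne : V ≠ ⊥ := by
    rwa [hV, ne_eq, map_eq_bot_iff_of_injective _ N.subtype_injective]
  have hVr : IsPGroup r V := (R.isPGroup'.to_le inf_le_left).map _
  have hVN : V ≤ N := map_subtype_le _
  have hVcomm : ∀ n ∈ N, ∀ v ∈ V, Commute n v := by
    rintro n hn _ ⟨w, hw, rfl⟩
    exact congrArg Subtype.val (mem_center_iff.mp hw.2 ⟨n, hn⟩)
  have : IsMulCommutative V := ⟨⟨fun a b => Subtype.ext (hVcomm a (hVN a.2) b b.2)⟩⟩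
  -- a maximal abelian `q`-subgroup of the quotient
  obtain ⟨A, hA⟩ := exists_maximal_of_wellFoundedGT
    (fun A : Subgroup (G ⧸ N) => IsPGroup q A ∧ ∀ x ∈ A, ∀ y ∈ A, x * y = y * x)
    ⟨⊥, IsPGroup.of_bot, fun x hx y hy => by rw [mem_bot.mp hx, mem_bot.mp hy]⟩
  have hmax : ∀ x : G ⧸ N, (∃ k : ℕ, x ^ (q ^ k) = 1) → (∀ y ∈ A, Commute x y) → x ∈ A := by
    rintro x ⟨k, hk⟩ hxA
    have hxp : IsPGroup q (zpowers x) := by
      obtain ⟨j, _, hj⟩ := (Nat.dvd_prime_pow hq).mp (orderOf_dvd_of_pow_eq_one hk)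
      exact IsPGroup.of_card (n := j) (by rw [Nat.card_zpowers, hj])
    have hle : zpowers x ≤ centralizer (A : Set (G ⧸ N)) :=
      zpowers_le.mpr (mem_centralizer_iff.mpr fun y hy => (hxA y hy).symm)
    have hp : IsPGroup q (A ⊔ zpowers x : Subgroup (G ⧸ N)) :=
      IsPGroup.to_sup_of_normal_left' hA.prop.1 hxp (hle.trans (centralizer_le_normalizer _))
    have hcomm : A ⊔ zpowers x ≤ centralizer ((A ⊔ zpowers x : Subgroup (G ⧸ N)) : Set _) := by
      have h1 : A ≤ centralizer (A : Set (G ⧸ N)) := fun a ha =>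
        mem_centralizer_iff.mpr fun b hb => hA.prop.2 b hb a ha
      have h2 : zpowers x ≤ centralizer ((zpowers x : Subgroup (G ⧸ N)) : Set (G ⧸ N)) := by
        refine fun a ha => mem_centralizer_iff.mpr fun b hb => ?_
        obtain ⟨i, rfl⟩ := ha
        obtain ⟨j, rfl⟩ := hb
        exact zpow_mul_comm x j i
      refine sup_le (le_centralizer_iff.mp (sup_le h1 hle))
        (le_centralizer_iff.mp (sup_le ?_ h2))
      exact le_centralizer_iff.mp hle
    exact hA.le_of_ge ⟨hp, fun a ha b hb => (mem_centralizer_iff.mp (hcomm ha) b hb).symm⟩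
      le_sup_left (le_sup_right (a := A) (mem_zpowers x))
  have hAne : A ≠ ⊥ := by
    intro h
    obtain ⟨x, hx⟩ := exists_prime_orderOf_dvd_card' (G := G ⧸ N) q hqi
    have := hmax x ⟨1, by rw [pow_one, ← hx, pow_orderOf_eq_one]⟩ fun y hy => by
      rw [h, mem_bot] at hy
      exact hy ▸ Commute.one_right x
    rw [h, mem_bot] at this
    rw [this, orderOf_one] at hx
    exact hq.one_lt.ne hx
  have hlift : ∀ a ∈ A, ∃ g : G, (g : G ⧸ N) = a ∧ ∃ j : ℕ, orderOf g = q ^ j := by
    intro a ha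
    obtain ⟨k, hk⟩ := IsPGroup.iff_orderOf.mp hA.prop.1 ⟨a, ha⟩
    exact exists_lift_pElement N (k := k) (by rw [← hk, ← orderOf_coe])
  -- `A` acts fixed-point-freely on `V`, so it is cyclic
  letI : CommGroup V := H2.commGroupOfComm V
  have hker : N ≤ (MulAut.conjNormal : G →* MulAut V).ker := by
    intro n hn
    refine MonoidHom.mem_ker.mpr (MulEquiv.ext fun v => Subtype.ext ?_)
    rw [MulAut.conjNormal_apply, (hVcomm n hn v v.2).eq, mul_inv_cancel_right]
    rfl
  let φ : A →* MulAut V := (QuotientGroup.lift N MulAut.conjNormal hker).comp A.subtype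
  letI : MulDistribMulAction A V := MulDistribMulAction.compHom V φ
  have hfpf : ∀ a : A, a ≠ 1 → ∀ v : V, a • v = v → v = 1 := by
    intro a ha v hv
    obtain ⟨x, hx, j, hj⟩ := hlift a a.2
    have hxN : x ∉ N := fun h =>
      ha (Subtype.ext (hx ▸ (QuotientGroup.eq_one_iff x).mpr h))
    have h1 : φ a v = v := hv
    have h2 : φ a = MulAut.conjNormal x := by
      show QuotientGroup.lift N MulAut.conjNormal hker (a : G ⧸ N) = _
      rw [← hx, QuotientGroup.lift_mk]
    rw [h2] at h1
    have h3 : x * (v : G) * x⁻¹ = v := by rw [← MulAut.conjNormal_apply, h1]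
    obtain ⟨i, hi⟩ := IsPGroup.iff_orderOf.mp hVr v
    refine Subtype.ext (camina_eq_one_of_commute N hcam hxN (hVN v.2)
      (mul_inv_eq_iff_eq_mul.mp h3) ?_)
    rw [hj, orderOf_coe, hi]
    exact (Nat.coprime_primes hq hr).mpr hrq.symm |>.pow j i
  have : Nontrivial V := V.nontrivial_iff_ne_bot.mpr hVne
  have hcyc : IsCyclic A := H2.isCyclic_of_fpf_comm (M := V) hfpf
    fun a b => Subtype.ext (hA.prop.2 a a.2 b b.2)
  obtain ⟨a, hagen⟩ := hcyc.exists_generator
  obtain ⟨g, hga, j, hgo⟩ := hlift a a.2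
  have hgN : g ∉ N := by
    intro h
    refine hAne ((eq_bot_iff_forall A).mpr fun b hb => ?_)
    have h1 : a = 1 := Subtype.ext (hga ▸ (QuotientGroup.eq_one_iff g).mpr h)
    obtain ⟨i, hi⟩ := hagen ⟨b, hb⟩
    simp only [h1, one_zpow] at hi
    exact (congrArg Subtype.val hi).symm
  -- a non-trivial element of `P0` commuting with `g`
  obtain ⟨z, hzP, hz1, hzg⟩ : ∃ z ∈ P0, z ≠ 1 ∧ Commute g z := by
    have hact : IsPGroup q (zpowers (ConjAct.toConjAct g)) :=
      IsPGroup.of_card (n := j) (by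
        rw [Nat.card_zpowers, ← hgo]; exact MulEquiv.orderOf_eq ConjAct.toConjAct g)
    obtain ⟨b, hb, hb1⟩ := hact.exists_fixed_point_of_prime_dvd_card_of_fixed_point
      (α := P0) hP0ne (a := 1) (fun c => smul_one (c : ConjAct G))
    refine ⟨b, b.2, fun h => hb1 (Subtype.ext h.symm), ?_⟩
    have h1 := hb ⟨ConjAct.toConjAct g, mem_zpowers _⟩
    have h2 : g * (b : G) * g⁻¹ = b := congrArg Subtype.val h1
    exact mul_inv_eq_iff_eq_mul.mp h2
  -- the abelian group generated by `g` and `z`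
  set T := zpowers g ⊔ zpowers z with hT
  have hTp : IsPGroup q T := by
    have hgp : IsPGroup q (zpowers g) :=
      IsPGroup.of_card (n := j) (by rw [Nat.card_zpowers, hgo])
    refine IsPGroup.to_sup_of_normal_left' hgp (hP0p.to_le (zpowers_le.mpr hzP)) ?_
    refine le_trans (zpowers_le.mpr ?_) (centralizer_le_normalizer _)
    refine mem_centralizer_iff.mpr fun b hb => ?_
    obtain ⟨i, rfl⟩ := hb
    exact (hzg.zpow_left i).eq
  have hTC : T ≤ centralizer ({g} : Set G) :=
    sup_le (zpowers_le.mpr (mem_cent_comm.mpr (Commute.refl g)))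
      (zpowers_le.mpr (mem_cent_comm.mpr hzg))
  set π := QuotientGroup.mk' N
  have hTA : Nat.card A * q ∣ Nat.card T := by
    have hmap : T.map π = A := by
      rw [hT, Subgroup.map_sup, MonoidHom.map_zpowers, MonoidHom.map_zpowers,
        show π z = 1 from (QuotientGroup.eq_one_iff z).mpr (hP0N hzP), zpowers_one_eq_bot,
        sup_bot_eq]
      refine le_antisymm (zpowers_le.mpr (show (g : G ⧸ N) ∈ A from hga ▸ a.2)) fun b hb => ?_
      obtain ⟨i, hi⟩ := hagen ⟨b, hb⟩
      exact ⟨i, by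
        show (g : G ⧸ N) ^ i = b
        rw [hga]; exact congrArg Subtype.val hi⟩
    have hidx : Nat.card A = (N.subgroupOf T).index := by
      rw [← hmap, show N.subgroupOf T = (π.comp T.subtype).ker by
        ext x; simp [π, mem_subgroupOf], index_ker, MonoidHom.range_comp, range_subtype]
    rw [hidx, ← card_mul_index (N.subgroupOf T), mul_comm]
    refine Nat.mul_dvd_mul_right ?_ _
    have : Nontrivial (N.subgroupOf T) :=
      ⟨⟨⟨⟨z, (le_sup_right (a := zpowers g)) (mem_zpowers z)⟩, hP0N hzP⟩, 1, fun h => hz1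
        (congrArg (fun t : N.subgroupOf T => ((t : T) : G)) h)⟩⟩
    obtain ⟨i, hi, hi'⟩ :=
      (IsPGroup.nontrivial_iff_card (hTp.to_subgroup (N.subgroupOf T))).mp this
    rw [hi']
    exact dvd_pow_self q hi.ne'
  -- so the centralizer of the generator of `A` has a larger `q`-part than `A`
  have hdvd : Nat.card A * q ∣ Nat.card (centralizer ({(g : G ⧸ N)} : Set (G ⧸ N))) :=
    (camina_iff_card_cent N).mp hcam g hgN ▸ hTA.trans (card_dvd_of_le hTC)
  obtain ⟨k, hk⟩ := IsPGroup.iff_card.mp hA.prop.1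
  have hAC : A ≤ centralizer ({(g : G ⧸ N)} : Set (G ⧸ N)) := fun b hb =>
    mem_cent_comm.mpr (hga ▸ hA.prop.2 a a.2 b hb)
  set C := centralizer ({(g : G ⧸ N)} : Set (G ⧸ N))
  obtain ⟨S, hS, hAS⟩ := Sylow.exists_subgroup_card_pow_succ (G := C) (n := k)
    (by rw [pow_succ, ← hk]; exact hdvd) (H := A.subgroupOf C)
    (by rw [← hk]; exact Nat.card_congr (subgroupOfEquivOfLe hAC).toEquiv)
  have hle : S.map C.subtype ≤ A := by
    rintro _ ⟨s, hs, rfl⟩
    refine hmax _ ⟨k + 1, ?_⟩ fun y hy => ?_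
    · have h1 : s ^ (q ^ (k + 1)) = 1 :=
        hS ▸ congrArg Subtype.val (pow_card_eq_one' (x := (⟨s, hs⟩ : S)))
      exact congrArg Subtype.val h1
    · obtain ⟨i, hi⟩ := hagen ⟨y, hy⟩
      have h2 : (g : G ⧸ N) ^ i = y := by rw [hga]; exact congrArg Subtype.val hi
      rw [← h2]
      exact ((mem_cent_comm.mp s.2).symm).zpow_right i
  have h3 := Subgroup.card_le_of_le hle
  rw [card_map_of_injective C.subtype_injective, hS, hk] at h3
  exact absurd h3 (not_le.mpr (Nat.pow_lt_pow_right hq.one_lt (Nat.lt_succ_self k)))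

end H27
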