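import Mathlib.GroupTheory.GroupAction.CardCommute
import Mathlib.GroupTheory.Perm.Cycle.Type
import Cfsg.Agent.H27.ClassBasic

/-! The class number and the sum of the centraliser orders. -/

set_option autoImplicit false

namespace H27

open Subgroup Finset

variable {X : Type*} [Group X] [Fintype X]

open scoped Classical in
theorem classNumber_mul_card :
    Nat.card (ConjClasses X) * Nat.card X = ∑ x : X, Nat.card (centralizer ({x} : Set X)) := by
  rw [← card_comm_eq_card_conjClasses_mul_card,
    Nat.card_congr (Equiv.subtypeProdEquivSigmaSubtype Commute), Nat.card_sigma]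
  exact Finset.sum_congr rfl fun x _ =>
    Nat.card_congr (Equiv.subtypeEquivRight fun y => (mem_cent_comm).symm)

theorem card_inf_mul_index_ge (H K : Subgroup X) :
    Nat.card H ≤ Nat.card (H ⊓ K : Subgroup X) * K.index := by
  have h : Nat.card (H ⊓ K : Subgroup X) * K.relIndex H = Nat.card H := by
    rw [inf_comm, ← relIndex_bot_left, ← inf_relIndex_right K H,
      relIndex_mul_relIndex _ _ _ bot_le inf_le_right, relIndex_bot_left]
  rw [← h, ← relIndex_top_right K]
  exact Nat.mul_le_mul_left _ (relIndex_le_of_le_right le_top index_ne_zero_of_finite)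

open scoped Classical in
theorem card_cent_sub (Y : Subgroup X) (y : Y) :
    Nat.card (centralizer ({y} : Set Y)) =
      Nat.card (centralizer ({(y : X)} : Set X) ⊓ Y : Subgroup X) := by
  refine Nat.card_congr
    { toFun := fun z => ⟨((z : Y) : X), ⟨mem_cent.mpr (congrArg Subtype.val (mem_cent.mp z.2)), z.1.2⟩⟩
      invFun := fun z => ⟨⟨z.1, z.2.2⟩, mem_cent.mpr (Subtype.ext (mem_cent.mp z.2.1))⟩
      left_inv := fun _ => rfl
      right_inv := fun _ => rfl }

open scoped Classical in
theorem sum_inf_swap (Y : Subgroup X) :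
    ∑ x : X, Nat.card (centralizer ({x} : Set X) ⊓ Y : Subgroup X) =
      ∑ y : Y, Nat.card (centralizer ({(y : X)} : Set X)) := by
  rw [← Nat.card_sigma, ← Nat.card_sigma]
  exact Nat.card_congr
    { toFun := fun t => ⟨⟨t.2.1, t.2.2.2⟩, ⟨t.1, mem_cent_symm.mp t.2.2.1⟩⟩
      invFun := fun t => ⟨t.2.1, ⟨(t.1 : X), ⟨mem_cent_symm.mp t.2.2, t.1.2⟩⟩⟩
      left_inv := fun _ => rfl
      right_inv := fun _ => rfl }

open scoped Classical in
theorem class_number_bounds (Y : Subgroup X) :
    Nat.card (ConjClasses Y) ≤ Y.index * Nat.card (ConjClasses X) ∧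
    Nat.card (ConjClasses X) ≤ Y.index * Nat.card (ConjClasses Y) ∧
    (¬ Y.Normal → Nat.card (ConjClasses X) < Y.index * Nat.card (ConjClasses Y)) := by
  set m := Y.index
  have hX := classNumber_mul_card (X := X)
  have hY := classNumber_mul_card (X := Y)
  have hcard : Nat.card X = Nat.card Y * m := (Y.card_mul_index).symm
  have hYpos : 0 < Nat.card Y := Nat.card_pos
  have hmpos : 0 < m := Nat.pos_of_ne_zero index_ne_zero_of_finite
  have hlow : ∑ y : Y, Nat.card (centralizer ({y} : Set Y)) ≤
      ∑ x : X, Nat.card (centralizer ({x} : Set X)) := by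
    calc ∑ y : Y, Nat.card (centralizer ({y} : Set Y))
        ≤ ∑ y : Y, Nat.card (centralizer ({(y : X)} : Set X)) :=
          Finset.sum_le_sum fun y _ => by
            rw [card_cent_sub]
            exact card_le_of_le inf_le_left
      _ ≤ _ := by
          rw [← sum_inf_swap]
          exact Finset.sum_le_sum fun x _ => card_le_of_le inf_le_left
  have hup1 : ∀ x : X, Nat.card (centralizer ({x} : Set X)) ≤
      Nat.card (centralizer ({x} : Set X) ⊓ Y : Subgroup X) * m :=
    fun x => card_inf_mul_index_ge _ _
  have hup2 : ∑ x : X, Nat.card (centralizer ({x} : Set X) ⊓ Y : Subgroup X) ≤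
      (∑ y : Y, Nat.card (centralizer ({y} : Set Y))) * m := by
    rw [sum_inf_swap, Finset.sum_mul]
    exact Finset.sum_le_sum fun y _ => by rw [card_cent_sub]; exact hup1 y
  refine ⟨?_, ?_, ?_⟩
  · refine Nat.le_of_mul_le_mul_right ?_ hYpos
    rw [hY]
    refine hlow.trans ?_
    rw [← hX, hcard]
    exact le_of_eq (by ring)
  · refine Nat.le_of_mul_le_mul_right ?_ (Nat.mul_pos hYpos hmpos)
    calc Nat.card (ConjClasses X) * (Nat.card Y * m)
        = ∑ x : X, Nat.card (centralizer ({x} : Set X)) := by rw [← hcard, hX]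
      _ ≤ (∑ x : X, Nat.card (centralizer ({x} : Set X) ⊓ Y : Subgroup X)) * m := by
          rw [Finset.sum_mul]; exact Finset.sum_le_sum fun x _ => hup1 x
      _ ≤ (∑ y : Y, Nat.card (centralizer ({y} : Set Y))) * m * m := Nat.mul_le_mul_right _ hup2
      _ = _ := by rw [← hY]; ring
  · intro hnn
    -- some centraliser does not cover the cosets of `Y`
    have hex : ∃ x : X, Nat.card (centralizer ({x} : Set X)) <
        Nat.card (centralizer ({x} : Set X) ⊓ Y : Subgroup X) * m := by
      by_contra hcon
      push Not at hcon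
      refine hnn ⟨fun y hy g => ?_⟩
      set C := centralizer ({y} : Set X)
      have hC : Nat.card C = Nat.card (C ⊓ Y : Subgroup X) * m := le_antisymm (hup1 y) (hcon y)
      have hrel : Y.relIndex C = m := by
        have h : Nat.card (C ⊓ Y : Subgroup X) * Y.relIndex C = Nat.card C := by
          rw [inf_comm, ← relIndex_bot_left, ← inf_relIndex_right Y C,
            relIndex_mul_relIndex _ _ _ bot_le inf_le_right, relIndex_bot_left]
        rw [hC] at h
        exact Nat.eq_of_mul_eq_mul_left Nat.card_pos h
      -- every coset of `Y` meets `C`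
      let f : C ⧸ Y.subgroupOf C → X ⧸ Y := Subgroup.quotientSubgroupOfEmbeddingOfLE Y le_top |>.trans
        ⟨fun q => Quotient.map' (fun z : (⊤ : Subgroup X) => (z : X)) (fun a b h => by
          rw [QuotientGroup.leftRel_apply] at h ⊢; exact h) q, ?_⟩
      · have hfinj : Function.Injective f := Function.Embedding.injective _
        have hfsurj : Function.Surjective f :=
          (Function.Injective.bijective_of_nat_card_le hfinj
            (by rw [show Nat.card (C ⧸ Y.subgroupOf C) = m from hrel]; exact le_rfl)).2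
        suffices ∀ g : X, g⁻¹ * y * g ∈ Y by simpa using this g⁻¹
        intro g
        obtain ⟨q, hq⟩ := hfsurj (g : X ⧸ Y)
        obtain ⟨c, rfl⟩ := QuotientGroup.mk_surjective q
        have hc : ((c : X) : X ⧸ Y) = (g : X ⧸ Y) := hq
        rw [QuotientGroup.eq] at hc
        have h2 := Y.mul_mem (Y.mul_mem (Y.inv_mem hc) hy) hc
        have hcc : (c : X) * y = y * c := mem_cent.mp c.2
        -- `g = c u`, so `g y g⁻¹` lies in `Y` when `u y u⁻¹` commutes past `c`
        have h3 : g⁻¹ * y * g = ((c : X)⁻¹ * g)⁻¹ * y * ((c : X)⁻¹ * g) := by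
          have : (c : X) * y * (c : X)⁻¹ = y := by rw [hcc, mul_inv_cancel_right]
          calc g⁻¹ * y * g = g⁻¹ * ((c : X) * y * (c : X)⁻¹) * g := by rw [this]
            _ = _ := by group
        have h4 : g⁻¹ * y * g ∈ Y := h3 ▸ h2
        exact h4
      · rintro ⟨a⟩ ⟨b⟩ h
        exact Quotient.sound' (by
          have := Quotient.exact' h
          rw [QuotientGroup.leftRel_apply] at this ⊢
          exact this)
    obtain ⟨x₀, hx₀⟩ := hex
    refine Nat.lt_of_mul_lt_mul_right (a := Nat.card Y * m) ?_
    calc Nat.card (ConjClasses X) * (Nat.card Y * m)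
        = ∑ x : X, Nat.card (centralizer ({x} : Set X)) := by rw [← hcard, hX]
      _ < (∑ x : X, Nat.card (centralizer ({x} : Set X) ⊓ Y : Subgroup X)) * m := by
          rw [Finset.sum_mul]
          exact Finset.sum_lt_sum (fun x _ => hup1 x) ⟨x₀, Finset.mem_univ _, hx₀⟩
      _ ≤ (∑ y : Y, Nat.card (centralizer ({y} : Set Y))) * m * m := Nat.mul_le_mul_right _ hup2
      _ = _ := by rw [← hY]; ring

open scoped Classical in
theorem class_number_le_normal_mul_quotient (N : Subgroup X) [N.Normal] :
    Nat.card (ConjClasses X) ≤ Nat.card (ConjClasses N) * Nat.card (ConjClasses (X ⧸ N)) := by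
  have hX := classNumber_mul_card (X := X)
  have hN := classNumber_mul_card (X := N)
  have hQ := classNumber_mul_card (X := X ⧸ N)
  have hcard : Nat.card X = Nat.card (X ⧸ N) * Nat.card N :=
    Subgroup.card_eq_card_quotient_mul_card_subgroup N
  -- centraliser orders
  have h1 : ∀ x : X, Nat.card (centralizer ({x} : Set X)) ≤
      Nat.card (centralizer ({(x : X ⧸ N)} : Set (X ⧸ N))) *
        Nat.card (centralizer ({x} : Set X) ⊓ N : Subgroup X) := by
    intro x
    set C := centralizer ({x} : Set X)
    have h : Nat.card (C ⊓ N : Subgroup X) * N.relIndex C = Nat.card C := by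
      rw [inf_comm, ← relIndex_bot_left, ← inf_relIndex_right N C,
        relIndex_mul_relIndex _ _ _ bot_le inf_le_right, relIndex_bot_left]
    have h' : N.relIndex C = Nat.card (C.map (QuotientGroup.mk' N)) := by
      have := index_ker ((QuotientGroup.mk' N).domRestrict C)
      rw [MonoidHom.ker_domRestrict, QuotientGroup.ker_mk', MonoidHom.domRestrict_range] at this
      exact this
    have h'' : C.map (QuotientGroup.mk' N) ≤ centralizer ({(x : X ⧸ N)} : Set (X ⧸ N)) := by
      rintro _ ⟨c, hc, rfl⟩
      exact mem_cent.mpr (by simp only [QuotientGroup.mk'_apply, ← QuotientGroup.mk_mul, mem_cent.mp hc])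
    rw [← h, h', mul_comm]
    exact Nat.mul_le_mul_right _ (card_le_of_le h'')
  -- the sum over a coset
  have h2 : ∀ q : X ⧸ N, ∑ x ∈ univ.filter (fun x : X => (x : X ⧸ N) = q),
      Nat.card (centralizer ({x} : Set X) ⊓ N : Subgroup X) ≤
        ∑ n : N, Nat.card (centralizer ({n} : Set N)) := by
    intro q
    set F := univ.filter (fun x : X => (x : X ⧸ N) = q)
    have hswap : ∑ x ∈ F, Nat.card (centralizer ({x} : Set X) ⊓ N : Subgroup X) =
        ∑ n : N, (F.filter (fun x => Commute (n : X) x)).card := by
      simp only [Finset.card_filter]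
      rw [Finset.sum_comm]
      refine Finset.sum_congr rfl fun x _ => ?_
      rw [← Finset.card_filter, ← Fintype.card_subtype, ← Nat.card_eq_fintype_card]
      exact Nat.card_congr
        { toFun := fun z => ⟨⟨z.1, z.2.2⟩, (mem_cent_comm.mp z.2.1).symm⟩
          invFun := fun z => ⟨z.1.1, mem_cent_comm.mpr z.2.symm, z.1.2⟩
          left_inv := fun _ => rfl
          right_inv := fun _ => rfl }
    rw [hswap]
    refine Finset.sum_le_sum fun n _ => ?_
    rcases (F.filter (fun x => Commute (n : X) x)).eq_empty_or_nonempty with h | ⟨x₀, hx₀⟩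
    · simp [h]
    · rw [← Fintype.card_coe, ← Nat.card_eq_fintype_card]
      refine Nat.card_le_card_of_injective (fun x => (⟨⟨x₀⁻¹ * x.1, ?_⟩, ?_⟩ :
        centralizer ({n} : Set N))) ?_
      · have := x.2
        simp only [F, Finset.mem_filter, Finset.mem_univ, true_and] at hx₀ this
        exact QuotientGroup.eq.mp (hx₀.1.trans this.1.symm)
      · have := x.2
        simp only [Finset.mem_filter] at hx₀ this
        exact mem_cent.mpr (Subtype.ext ((hx₀.2.inv_right.mul_right this.2).eq.symm))
      · intro a b hab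
        exact Subtype.ext (mul_left_cancel
          (congrArg (fun z : centralizer ({n} : Set N) => ((z : N) : X)) hab))
  refine Nat.le_of_mul_le_mul_right ?_ (Nat.card_pos (α := X))
  calc Nat.card (ConjClasses X) * Nat.card X
      ≤ ∑ x : X, Nat.card (centralizer ({(x : X ⧸ N)} : Set (X ⧸ N))) *
          Nat.card (centralizer ({x} : Set X) ⊓ N : Subgroup X) := hX ▸ Finset.sum_le_sum fun x _ => h1 x
    _ = ∑ q : X ⧸ N, Nat.card (centralizer ({q} : Set (X ⧸ N))) *
          ∑ x ∈ univ.filter (fun x : X => (x : X ⧸ N) = q),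
            Nat.card (centralizer ({x} : Set X) ⊓ N : Subgroup X) := by
        simp only [Finset.mul_sum]
        rw [← Finset.sum_fiberwise_of_maps_to (g := fun x : X => (x : X ⧸ N))
          (fun x _ => Finset.mem_univ _)]
        refine Finset.sum_congr rfl fun q _ => Finset.sum_congr rfl fun x hx => ?_
        rw [(Finset.mem_filter.mp hx).2]
    _ ≤ ∑ q : X ⧸ N, Nat.card (centralizer ({q} : Set (X ⧸ N))) *
          ∑ n : N, Nat.card (centralizer ({n} : Set N)) :=
        Finset.sum_le_sum fun q _ => Nat.mul_le_mul_left _ (h2 q)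
    _ = _ := by rw [← Finset.sum_mul, ← hQ, ← hN, hcard]; ring

end H27
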