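import Mathlib.GroupTheory.Sylow
import Cfsg.Agent.H5.Frobenius
import Cfsg.Agent.H27.ClassBasic
import Cfsg.Agent.H27.ConjUnion
import Cfsg.Agent.H27.PrimePowerClass

/-! Groups in which `p` divides no class size of a `p`-regular element. -/

set_option autoImplicit false

namespace H27

open Subgroup

variable {C : Type*} [Group C] [Finite C] {p : ℕ} [hp : Fact p.Prime]

theorem sylow_normal_of_pRegular
    (h : ∀ v : C, (orderOf v).Coprime p → ¬ p ∣ (centralizer ({v} : Set C)).index)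
    (P : Sylow p C) :
    (P : Subgroup C) ⊔ centralizer ((P : Subgroup C) : Set C) = ⊤ := by
  refine eq_top_of_forall_conj_mem _ fun x => ?_
  obtain ⟨u, v, rfl, hu, hv, huz, hvz⟩ := H5.exists_p_decomposition (p := p) x
  obtain ⟨g, hg⟩ := exists_smul_centralizer P (h v hv)
  set v' := g⁻¹ * v * g
  set u' := g⁻¹ * u * g
  have hcomm : Commute u' v' := by
    have : Commute u v := by
      obtain ⟨i, hi⟩ := huz
      obtain ⟨j, hj⟩ := hvz
      simp only at hi hj
      have hc := (Commute.refl (u * v)).zpow_zpow i j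
      rwa [hi, hj] at hc
    simpa [u', v'] using this.map (MulAut.conj g⁻¹).toMonoidHom
  set D := centralizer ({v'} : Set C)
  have hu'D : u' ∈ D := mem_cent.mpr hcomm.eq
  have hPD : (P : Subgroup C) ≤ D := le_cent_iff.mpr hg
  obtain ⟨k, hk⟩ := hu
  have hu'p : IsPGroup p (zpowers (⟨u', hu'D⟩ : D)) := by
    obtain ⟨i, -, hi⟩ := (Nat.dvd_prime_pow hp.out).mp (orderOf_dvd_of_pow_eq_one hk)
    refine IsPGroup.of_card (n := i) ?_
    rw [Nat.card_zpowers, Subgroup.orderOf_mk,
      show u' = MulAut.conj g⁻¹ u by simp [u', mul_assoc], MulEquiv.orderOf_eq, hi]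
  obtain ⟨Q, hQ⟩ := hu'p.exists_le_sylow
  obtain ⟨c, hc⟩ := MulAction.exists_smul_eq D Q (P.subtype hPD)
  have hmem : (c : C) * u' * (c : C)⁻¹ ∈ (P : Subgroup C) := by
    have : c * ⟨u', hu'D⟩ * c⁻¹ ∈ ((c • Q : Sylow p D) : Subgroup D) := by
      rw [Sylow.coe_subgroup_smul]
      exact Subgroup.mem_map_of_mem (MulAut.conj c).toMonoidHom (hQ (mem_zpowers _))
    rw [hc] at this
    exact this
  refine ⟨g * (c : C)⁻¹, ?_⟩
  have hcv : (c : C) * v' * (c : C)⁻¹ = v' := by rw [mem_cent.mp c.2, mul_inv_cancel_right]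
  have : (g * (c : C)⁻¹)⁻¹ * (u * v) * (g * (c : C)⁻¹) = ((c : C) * u' * (c : C)⁻¹) * v' := by
    rw [← hcv]; simp only [u', v']; group
  rw [this]
  exact mul_mem (mem_sup_left hmem) (mem_sup_right hg)

theorem hasNormalPComplement_of_pRegular
    (h : ∀ v : C, (orderOf v).Coprime p → ¬ p ∣ (centralizer ({v} : Set C)).index) :
    Cfsg.HasNormalPComplement p C := by
  obtain ⟨P⟩ : Nonempty (Sylow p C) := inferInstance
  have htop := sylow_normal_of_pRegular h P
  have hN : normalizer ((P : Subgroup C) : Set C) = ⊤ :=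
    top_le_iff.mp (htop ▸ sup_le le_normalizer (centralizer_le_normalizer _))
  have hPn : (P : Subgroup C).Normal := normalizer_eq_top_iff.mp hN
  have hCn : (centralizer ((P : Subgroup C) : Set C)).Normal :=
    Subgroup.normal_centralizer (H := (P : Subgroup C))
  refine H5.hasNormalPComplement_of_frobenius P fun Q hQ g _ hg => ?_
  set K := centralizer ((P : Subgroup C) : Set C)
  have hgK : g ∈ K := by
    obtain ⟨a, ha, b, hb, hab⟩ : ∃ a ∈ (P : Subgroup C), ∃ b ∈ K, g = a * b := by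
      have hmem : g ∈ ((P : Subgroup C) ⊔ K : Subgroup C) := htop ▸ mem_top g
      rw [← SetLike.mem_coe, mul_normal] at hmem
      obtain ⟨a, ha, b, hb, hab⟩ := hmem
      exact ⟨a, ha, b, hb, hab.symm⟩
    rw [← QuotientGroup.eq_one_iff, ← orderOf_eq_one_iff]
    have h1 : (g : C ⧸ K) = (a : C ⧸ K) := by
      rw [hab, QuotientGroup.mk_mul, (QuotientGroup.eq_one_iff b).mpr hb, mul_one]
    obtain ⟨i, hi⟩ := P.isPGroup' ⟨a, ha⟩
    have h2 : orderOf (g : C ⧸ K) ∣ p ^ i := by
      rw [h1, orderOf_dvd_iff_pow_eq_one, ← QuotientGroup.mk_pow, show a ^ p ^ i = 1 from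
        congrArg Subtype.val hi, QuotientGroup.mk_one]
    have h3 : orderOf (g : C ⧸ K) ∣ orderOf g := orderOf_map_dvd (QuotientGroup.mk' K) g
    exact Nat.eq_one_of_dvd_coprimes (hg.pow_right i) h3 h2
  exact centralizer_le hQ hgK

theorem hasNormalPComplement_of_max_part {G : Type*} [Group G] [Finite G] (a : ℕ)
    (hmax : ∀ y : G, ¬ p ^ (a + 1) ∣ (centralizer ({y} : Set G)).index) {x : G}
    (hxp : ∃ k : ℕ, orderOf x = p ^ k) (hidx : (centralizer ({x} : Set G)).index = p ^ a) :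
    Cfsg.HasNormalPComplement p G := by
  classical
  set D := centralizer ({x} : Set G)
  have hreg : ∀ v : D, (orderOf v).Coprime p → ¬ p ∣ (centralizer ({v} : Set D)).index := by
    intro v hv hdvd
    obtain ⟨k, hk⟩ := hxp
    have hcomm : Commute x (v : G) := mem_cent_comm.mp v.2
    have hcop : (orderOf x).Coprime (orderOf (v : G)) := by
      rw [hk, Subgroup.orderOf_coe]; exact (hv.pow_right k).symm
    set F := centralizer ({x * (v : G)} : Set G)
    have hFD : F ≤ D := cent_mul_le_left hcomm hcop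
    have hle : (F.subgroupOf D) ≤ centralizer ({v} : Set D) := fun y hy =>
      mem_cent.mpr (Subtype.ext (mem_cent.mp (cent_mul_le_right hcomm hcop hy)))
    refine hmax (x * v) ?_
    rw [← relIndex_mul_index hFD, hidx, pow_succ']
    exact Nat.mul_dvd_mul (hdvd.trans (index_dvd_of_le hle)) dvd_rfl
  have hDc := hasNormalPComplement_of_pRegular hreg
  set W := Cfsg.pCore p G
  have hWn : W.Normal := H1.pCore_normal' p G
  have hxW : x ∈ W := mem_pCore_of_index_eq_pow hxp hidx
  -- `p`-regular elements of `D` centralise `W`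
  have hcent : ∀ v : D, (orderOf v).Coprime p → ∀ w ∈ W, Commute (v : G) w := by
    intro v hv
    have hU : ∀ w ∈ W, Commute x w → Commute (v : G) w := by
      intro w hw hxw
      have hn : (W.subgroupOf D).Normal := inferInstance
      have hp' : IsPGroup p (W.subgroupOf D) := (H1.isPGroup_pCore p G).comap_subtype
      obtain ⟨Q, hQ⟩ := not_dvd_index_cent_iff.mp (hreg v hv)
      have := mem_centralizer_iff.mp hQ ⟨w, mem_cent_comm.mpr hxw⟩ (hp'.le_sylow_of_normal Q hw)
      exact (congrArg Subtype.val this).symm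
    set Z := W ⊓ centralizer ({(v : G)} : Set G)
    by_contra hne
    push Not at hne
    obtain ⟨w₀, hw₀, hw₀'⟩ := hne
    have hlt : Z < W := lt_of_le_of_ne inf_le_left fun he =>
      hw₀' (mem_cent_comm.mp ((he.symm ▸ hw₀ : w₀ ∈ Z).2))
    have hnc : NormalizerCondition W :=
      Group.normalizerCondition_of_isNilpotent (h := (H1.isPGroup_pCore p G).isNilpotent)
    have hne' : Z.subgroupOf W < ⊤ := by
      rw [lt_top_iff_ne_top, ne_eq, subgroupOf_eq_top]
      exact hlt.not_ge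
    obtain ⟨⟨w, hw⟩, hwn, hwZ⟩ := SetLike.exists_of_lt (hnc _ hne')
    refine hwZ ⟨hw, mem_cent_comm.mpr ?_⟩
    set c := w⁻¹ * ((v : G) * w * (v : G)⁻¹)
    have hcW : c ∈ W := W.mul_mem (W.inv_mem hw) (hWn.conj_mem w hw v)
    have hcx : Commute x c := by
      have hxZ : x ∈ Z := ⟨hxW, mem_cent.mpr (mem_cent.mp v.2).symm⟩
      have h1 : w * x * w⁻¹ ∈ Z :=
        (mem_normalizer_iff.mp hwn ⟨x, hxW⟩).mp hxZ
      have h2 : (v : G) * (w * x * w⁻¹) * (v : G)⁻¹ = w * x * w⁻¹ := by
        rw [(mem_cent_comm.mp h1.2).eq, mul_inv_cancel_right]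
      have h3 : (v : G) * x * (v : G)⁻¹ = x := by rw [mem_cent.mp v.2, mul_inv_cancel_right]
      set t := (v : G) * w * (v : G)⁻¹
      have h4 : t * x * t⁻¹ = w * x * w⁻¹ := by
        calc t * x * t⁻¹ = t * ((v : G) * x * (v : G)⁻¹) * t⁻¹ := by rw [h3]
          _ = (v : G) * (w * x * w⁻¹) * (v : G)⁻¹ := by simp only [t]; group
          _ = _ := h2
      have h5 : c * x * c⁻¹ = x := by
        calc c * x * c⁻¹ = w⁻¹ * (t * x * t⁻¹) * w := by simp only [c, t]; group
          _ = x := by rw [h4]; group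
      exact (mul_inv_eq_iff_eq_mul.mp h5).symm
    refine commute_of_fixed_displacement (c := c) (by simp [c]) (hU c hcW hcx) ?_
    obtain ⟨i, hi⟩ := IsPGroup.iff_orderOf.mp (H1.isPGroup_pCore p G) ⟨c, hcW⟩
    rw [Subgroup.orderOf_mk] at hi
    rw [hi, Subgroup.orderOf_coe]
    exact hv.pow_right i
  set K := centralizer (W : Set G)
  have hKn : K.Normal := Subgroup.normal_centralizer (H := W)
  have hKD : K ≤ D := fun k hk => mem_cent.mpr (mem_centralizer_iff.mp hk x hxW).symm
  set H := (Cfsg.pResidual p D).map D.subtype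
  have hmemH : ∀ y : G, y ∈ H ↔ y ∈ D ∧ (orderOf y).Coprime p := by
    intro y
    constructor
    · rintro ⟨z, hz, rfl⟩
      exact ⟨z.2, (Subgroup.orderOf_coe z).symm ▸ (H5.mem_pResidual_iff hDc).mp hz⟩
    · rintro ⟨hy, hyo⟩
      exact ⟨⟨y, hy⟩, (H5.mem_pResidual_iff hDc).mpr (by rwa [Subgroup.orderOf_mk]), rfl⟩
  have hHn : H.Normal := by
    refine ⟨fun y hy g => ?_⟩
    obtain ⟨hyD, hyo⟩ := (hmemH y).mp hy
    have hyK : y ∈ K := mem_centralizer_iff.mpr fun w hw =>
      ((hcent ⟨y, hyD⟩ (by rwa [Subgroup.orderOf_mk]) w hw).eq).symm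
    refine (hmemH _).mpr ⟨hKD (hKn.conj_mem y hyK g), ?_⟩
    rw [← MulAut.conj_apply, MulEquiv.orderOf_eq]
    exact hyo
  refine H5.hasNormalPComplement_of_normal H ?_ ?_
  · rw [card_map_of_injective D.subtype_injective]
    exact H5.hasNormalPComplement_iff_not_dvd.mp hDc
  · obtain ⟨k, hk⟩ := H5.exists_index_pResidual_eq (G := D) (p := p)
    exact ⟨k + a, by rw [index_map_subtype, hk, hidx, pow_add]⟩

end H27
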