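import Mathlib.GroupTheory.Sylow
import Mathlib.GroupTheory.Perm.Cycle.Type
import Mathlib.Data.Nat.Factorization.Basic
import Cfsg.Agent.H27.ClassBasic
import Cfsg.Agent.H27.ConjUnion

/-!
Centreless groups with the same set of class sizes as a centreless group with disconnected
prime graph have the same order.
-/

set_option autoImplicit false

namespace H27

open Subgroup

variable {G M : Type*} [Group G] [Group M]

/-- `n` is divisible by the full `q`-part of `N` for all primes `q` in `A`. -/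
def FullOn (N : ℕ) (A : Set ℕ) (n : ℕ) : Prop :=
  ∀ q : ℕ, q.Prime → q ∈ A → q ^ N.factorization q ∣ n

theorem fullOn_univ_imp {N n : ℕ} (hN : N ≠ 0) {A : Set ℕ} (h1 : FullOn N A n)
    (h2 : FullOn N Aᶜ n) : N ∣ n := by
  rcases eq_or_ne n 0 with rfl | hn
  · exact dvd_zero _
  · rw [← Nat.factorization_le_iff_dvd hN hn]
    intro q
    by_cases hq : q.Prime
    · refine (hq.pow_dvd_iff_le_factorization hn).mp ?_
      by_cases hA : q ∈ A
      · exact h1 q hq hA
      · exact h2 q hq hA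
    · simp [Nat.factorization_eq_zero_of_not_prime _ hq]

theorem FullOn.of_dvd {N n n' : ℕ} {A : Set ℕ} (h : FullOn N A n) (hd : n ∣ n') :
    FullOn N A n' := fun q hq hA => (h q hq hA).trans hd

theorem isolated_fullOn [Finite M] (A : Set ℕ)
    (hA : ∀ a ∈ A, ∀ b ∉ A, a.Prime → b.Prime → a ∣ Nat.card M → b ∣ Nat.card M →
      ¬ ∃ x : M, orderOf x = a * b)
    {m : M} {a : ℕ} (ha : a.Prime) (haA : a ∈ A) (hdvd : a ∣ orderOf m) :
    FullOn (Nat.card M) Aᶜ (centralizer ({m} : Set M)).index := by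
  intro q hq hqA
  have hq' : Fact q.Prime := ⟨hq⟩
  by_cases hqC : q ∣ Nat.card (centralizer ({m} : Set M))
  · exfalso
    obtain ⟨⟨y, hyC⟩, hy⟩ := exists_prime_orderOf_dvd_card' q hqC
    rw [Subgroup.orderOf_mk] at hy
    set x := m ^ (orderOf m / a)
    have hx : orderOf x = a := orderOf_pow_orderOf_div (orderOf_pos m).ne' hdvd
    have hxy : Commute x y := (mem_cent_comm.mp hyC).pow_left _
    refine hA a haA q hqA ha hq (hdvd.trans (orderOf_dvd_natCard m)) (hy ▸ orderOf_dvd_natCard y) ⟨x * y, ?_⟩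
    have hne : a ≠ q := fun h => hqA (h ▸ haA)
    rw [hxy.orderOf_mul_eq_mul_orderOf_of_coprime (by rw [hx, hy]; exact (Nat.coprime_primes ha hq).mpr hne),
      hx, hy]
  · refine (hq.pow_dvd_iff_le_factorization index_ne_zero_of_finite).mpr ?_
    rw [← card_cent_mul_index m, Nat.factorization_mul Nat.card_pos.ne' index_ne_zero_of_finite,
      Finsupp.add_apply, Nat.factorization_eq_zero_of_not_dvd hqC, zero_add]

theorem factorization_le_aux [Finite G] [Finite M] (A : Set ℕ)
    (hfull : ∀ g : G, g ≠ 1 → FullOn (Nat.card M) A (centralizer ({g} : Set G)).index ∨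
      FullOn (Nat.card M) Aᶜ (centralizer ({g} : Set G)).index)
    (hnot : ∀ g : G, g ≠ 1 → ¬ (FullOn (Nat.card M) A (centralizer ({g} : Set G)).index ∧
      FullOn (Nat.card M) Aᶜ (centralizer ({g} : Set G)).index))
    (hdvdM : ∀ g : G, (centralizer ({g} : Set G)).index ∣ Nat.card M)
    {p b : ℕ} [hp : Fact p.Prime] (hpA : p ∈ A) (hb : b.Prime) (hbA : b ∉ A)
    (hpM : p ∣ Nat.card M) (hbM : b ∣ Nat.card M) (hbG : b ∣ Nat.card G) :
    (Nat.card G).factorization p ≤ (Nat.card M).factorization p := by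
  by_contra hlt
  rw [not_le] at hlt
  have hb' : Fact b.Prime := ⟨hb⟩
  have hbp : b.Coprime p := (Nat.coprime_primes hb hp.out).mpr (fun h => hbA (h ▸ hpA))
  have hpG : p ∣ Nat.card G := by
    refine Nat.dvd_of_factorization_pos ?_
    omega
  have hnfA : ∀ {g : G} {q : ℕ}, q.Prime → q ∈ A → q ∣ Nat.card M →
      ¬ q ∣ (centralizer ({g} : Set G)).index →
      ¬ FullOn (Nat.card M) A (centralizer ({g} : Set G)).index := by
    intro g q hq hqA hqM hn hf
    exact hn ((dvd_pow_self q (hq.factorization_pos_of_dvd Nat.card_pos.ne' hqM).ne').trans (hf q hq hqA))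
  have hnfB : ∀ {g : G} {q : ℕ}, q.Prime → q ∈ Aᶜ → q ∣ Nat.card M →
      ¬ q ∣ (centralizer ({g} : Set G)).index →
      ¬ FullOn (Nat.card M) Aᶜ (centralizer ({g} : Set G)).index := by
    intro g q hq hqA hqM hn hf
    exact hn ((dvd_pow_self q (hq.factorization_pos_of_dvd Nat.card_pos.ne' hqM).ne').trans (hf q hq hqA))
  -- a `b`-element `w` of type `A`
  obtain ⟨R⟩ : Nonempty (Sylow b G) := inferInstance
  obtain ⟨w, hwR, hw1, hwc⟩ := exists_central_ne_one R hbG
  have hwA : FullOn (Nat.card M) A (centralizer ({w} : Set G)).index :=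
    (hfull w hw1).resolve_right
      (hnfB hb hbA hbM (not_dvd_index_cent_iff.mpr ⟨R, hwc⟩))
  have hword : ∃ i, orderOf w = b ^ i := by
    obtain ⟨i, hi⟩ := IsPGroup.iff_orderOf.mp R.isPGroup' ⟨w, hwR⟩
    exact ⟨i, by rw [← hi, Subgroup.orderOf_mk]⟩
  have cop : ∀ {u : G}, (∃ i, orderOf u = p ^ i) → (orderOf w).Coprime (orderOf u) := by
    rintro u ⟨j, hj⟩
    obtain ⟨i, hi⟩ := hword
    rw [hi, hj]
    exact hbp.pow i j
  -- no `p`-element of type `B` commutes with `w`
  have hkey : ∀ u : G, u ≠ 1 → (∃ i, orderOf u = p ^ i) → Commute w u →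
      ¬ FullOn (Nat.card M) Aᶜ (centralizer ({u} : Set G)).index := by
    intro u hu hord hcomm hB
    refine hnot (w * u) ?_ ⟨hwA.of_dvd (index_left_dvd_mul hcomm (cop hord)),
      hB.of_dvd (index_right_dvd_mul hcomm (cop hord))⟩
    intro h1
    have := hcomm.orderOf_mul_eq_mul_orderOf_of_coprime (cop hord)
    rw [h1, orderOf_one] at this
    exact hu (orderOf_eq_one_iff.mp (Nat.eq_one_of_mul_eq_one_left this.symm))
  set a := (Nat.card M).factorization p
  -- `p`-parts of centralisers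
  have hcent : ∀ g : G, FullOn (Nat.card M) A (centralizer ({g} : Set G)).index →
      (Nat.card (centralizer ({g} : Set G))).factorization p + a = (Nat.card G).factorization p := by
    intro g hg
    have h1 : a ≤ ((centralizer ({g} : Set G)).index).factorization p :=
      (hp.out.pow_dvd_iff_le_factorization index_ne_zero_of_finite).mp (hg p hp.out hpA)
    have h2 := (Nat.factorization_le_iff_dvd index_ne_zero_of_finite Nat.card_pos.ne').mpr (hdvdM g) p
    rw [← card_cent_mul_index g, Nat.factorization_mul Nat.card_pos.ne' index_ne_zero_of_finite,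
      Finsupp.add_apply]
    omega
  set C := centralizer ({w} : Set G)
  obtain ⟨U⟩ : Nonempty (Sylow p C) := inferInstance
  have hfC : (Nat.card C).factorization p + a = (Nat.card G).factorization p := hcent w hwA
  have hpC : p ∣ Nat.card C := Nat.dvd_of_factorization_pos (by omega)
  obtain ⟨u, huU, hu1, huc⟩ := exists_central_ne_one U hpC
  set U' := (U : Subgroup C).map C.subtype with hU'
  have hU'card : Nat.card U' = p ^ ((Nat.card G).factorization p - a) := by
    rw [hU', card_map_of_injective C.subtype_injective, U.card_eq_multiplicity]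
    congr 1
    omega
  have hU'p : IsPGroup p U' := U.isPGroup'.map _
  have hordU : ∀ x ∈ U', ∃ i, orderOf x = p ^ i := by
    intro x hx
    obtain ⟨i, hi⟩ := IsPGroup.iff_orderOf.mp hU'p ⟨x, hx⟩
    exact ⟨i, by rw [← hi, Subgroup.orderOf_mk]⟩
  have huU' : (u : G) ∈ U' := mem_map_of_mem _ huU
  have hwU : ∀ x ∈ U', Commute w x := fun x hx => mem_cent_comm.mp (map_subtype_le _ hx)
  have hu1' : (u : G) ≠ 1 := fun h => hu1 (Subtype.ext h)
  have huA : FullOn (Nat.card M) A (centralizer ({(u : G)} : Set G)).index :=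
    (hfull _ hu1').resolve_right (hkey _ hu1' (hordU _ huU') (hwU _ huU'))
  set D := centralizer ({(u : G)} : Set G)
  have hUD : U' ≤ D := by
    rintro x ⟨y, hy, rfl⟩
    rw [mem_cent]
    exact congrArg Subtype.val (mem_centralizer_iff.mp huc y hy)
  let UD : Sylow p D := Sylow.ofCard (U'.subgroupOf D) (by
    rw [Nat.card_congr (subgroupOfEquivOfLe hUD).toEquiv, hU'card]
    congr 1
    have hfD : (Nat.card D).factorization p + a = (Nat.card G).factorization p := hcent _ huA
    omega)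
  obtain ⟨P, hP⟩ := hU'p.exists_le_sylow
  obtain ⟨z, hzP, hz1, hzc⟩ := exists_central_ne_one P hpG
  have hzD : z ∈ D := mem_cent.mpr (mem_centralizer_iff.mp hzc _ (hP huU')).symm
  have hzp : IsPGroup p (zpowers (⟨z, hzD⟩ : D)) := by
    obtain ⟨i, hi⟩ := IsPGroup.iff_orderOf.mp P.isPGroup' ⟨z, hzP⟩
    exact IsPGroup.of_card (n := i) (by rw [Nat.card_zpowers, Subgroup.orderOf_mk, ← hi, Subgroup.orderOf_mk])
  obtain ⟨Q, hQ⟩ := hzp.exists_le_sylow
  obtain ⟨c, hc⟩ := MulAction.exists_smul_eq D Q UD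
  have hz' : (c : G) * z * (c : G)⁻¹ ∈ U' := by
    have : c * ⟨z, hzD⟩ * c⁻¹ ∈ ((c • Q : Sylow p D) : Subgroup D) := by
      rw [Sylow.coe_subgroup_smul]
      exact Subgroup.mem_map_of_mem (MulAut.conj c).toMonoidHom (hQ (mem_zpowers _))
    rw [hc] at this
    exact this
  have hz'1 : (c : G) * z * (c : G)⁻¹ ≠ 1 := by simpa using hz1
  refine hkey _ hz'1 (hordU _ hz') (hwU _ hz') ?_
  rw [index_cent_conj]
  exact (hfull z hz1).resolve_left
    (hnfA hp.out hpA hpM (not_dvd_index_cent_iff.mpr ⟨P, hzc⟩))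

theorem card_eq_of_class_sizes [Finite G] [Finite M] (hZG : center G = ⊥) (hZM : center M = ⊥)
    (h : Set.range (fun g : G => (centralizer ({g} : Set G)).index) =
      Set.range (fun g : M => (centralizer ({g} : Set M)).index))
    (hdisc : ∃ A : Set ℕ, (∃ a ∈ A, a.Prime ∧ a ∣ Nat.card M) ∧
      (∃ b ∉ A, b.Prime ∧ b ∣ Nat.card M) ∧
      ∀ a ∈ A, ∀ b ∉ A, a.Prime → b.Prime → a ∣ Nat.card M → b ∣ Nat.card M →
        ¬ ∃ x : M, orderOf x = a * b) :
    Nat.card G = Nat.card M := by
  obtain ⟨A, ⟨a, haA, ha, haM⟩, ⟨b, hbA, hb, hbM⟩, hA⟩ := hdisc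
  have hA' : ∀ x ∈ Aᶜ, ∀ y ∉ Aᶜ, x.Prime → y.Prime → x ∣ Nat.card M → y ∣ Nat.card M →
      ¬ ∃ t : M, orderOf t = x * y := by
    intro x hx y hy hxp hyp hxM hyM
    rw [mul_comm]
    exact hA y (not_not.mp hy) x hx hyp hxp hyM hxM
  have hGM : ∀ g : G, ∃ m : M, (centralizer ({g} : Set G)).index =
      (centralizer ({m} : Set M)).index := fun g => by
    obtain ⟨m, hm⟩ := h.le ⟨g, rfl⟩
    exact ⟨m, hm.symm⟩
  have hdvdM : ∀ g : G, (centralizer ({g} : Set G)).index ∣ Nat.card M := fun g => by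
    obtain ⟨m, hm⟩ := hGM g
    exact hm ▸ index_cent_dvd_card m
  have hM1 : ∀ g : G, g ≠ 1 → ∃ m : M, m ≠ 1 ∧ (centralizer ({g} : Set G)).index =
      (centralizer ({m} : Set M)).index := by
    intro g hg
    obtain ⟨m, hm⟩ := hGM g
    refine ⟨m, ?_, hm⟩
    rintro rfl
    rw [index_cent_one, index_cent_eq_one_iff, hZG, mem_bot] at hm
    exact hg hm
  have hfullM : ∀ m : M, m ≠ 1 → FullOn (Nat.card M) A (centralizer ({m} : Set M)).index ∨
      FullOn (Nat.card M) Aᶜ (centralizer ({m} : Set M)).index := by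
    intro m hm
    obtain ⟨q, hq, hqd⟩ := Nat.exists_prime_and_dvd (mt orderOf_eq_one_iff.mp hm)
    by_cases hqA : q ∈ A
    · exact Or.inr (isolated_fullOn A hA hq hqA hqd)
    · refine Or.inl ?_
      simpa using isolated_fullOn Aᶜ hA' hq hqA hqd
  have hnotM : ∀ m : M, m ≠ 1 → ¬ (FullOn (Nat.card M) A (centralizer ({m} : Set M)).index ∧
      FullOn (Nat.card M) Aᶜ (centralizer ({m} : Set M)).index) := by
    rintro m hm ⟨h1, h2⟩
    have hd := Nat.dvd_antisymm (index_cent_dvd_card m)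
      (fullOn_univ_imp Nat.card_pos.ne' h1 h2)
    have h3 := card_cent_mul_index m
    have h5 : Nat.card (centralizer ({m} : Set M)) = 1 := by
      rw [hd] at h3
      exact Nat.eq_of_mul_eq_mul_right Nat.card_pos (by rw [h3, one_mul])
    have h4 : (centralizer ({m} : Set M)) = ⊥ := eq_bot_of_card_eq _ h5
    exact hm (mem_bot.mp (h4 ▸ mem_cent.mpr rfl))
  have hfull : ∀ g : G, g ≠ 1 → FullOn (Nat.card M) A (centralizer ({g} : Set G)).index ∨
      FullOn (Nat.card M) Aᶜ (centralizer ({g} : Set G)).index := fun g hg => by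
    obtain ⟨m, hm, he⟩ := hM1 g hg
    rw [he]; exact hfullM m hm
  have hnot : ∀ g : G, g ≠ 1 → ¬ (FullOn (Nat.card M) A (centralizer ({g} : Set G)).index ∧
      FullOn (Nat.card M) Aᶜ (centralizer ({g} : Set G)).index) := fun g hg => by
    obtain ⟨m, hm, he⟩ := hM1 g hg
    rw [he]; exact hnotM m hm
  have hexists : ∀ (X : Set ℕ),
      (∀ x ∈ X, ∀ y ∉ X, x.Prime → y.Prime → x ∣ Nat.card M → y ∣ Nat.card M →
        ¬ ∃ t : M, orderOf t = x * y) →
      ∀ x ∈ X, x.Prime → x ∣ Nat.card M → ∀ q : ℕ, q.Prime → q ∉ X →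
        q ^ (Nat.card M).factorization q ∣ Nat.card G := by
    intro X hX x hx hxp hxM q hq hqX
    have := Fact.mk hxp
    obtain ⟨m, hm⟩ := exists_prime_orderOf_dvd_card' x hxM
    obtain ⟨g, hg⟩ := h.ge ⟨m, rfl⟩
    have h1 : q ^ (Nat.card M).factorization q ∣ (centralizer ({g} : Set G)).index :=
      (congrArg (q ^ (Nat.card M).factorization q ∣ ·) hg).mpr
        (isolated_fullOn X hX hxp hx (by rw [hm]) q hq hqX)
    exact h1.trans (index_cent_dvd_card g)
  have hMG : Nat.card M ∣ Nat.card G := by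
    apply fullOn_univ_imp (A := A) Nat.card_pos.ne'
    · exact fun q hq hqA => hexists Aᶜ hA' b hbA hb hbM q hq (not_not.mpr hqA)
    · exact fun q hq hqA => hexists A hA a haA ha haM q hq hqA
  refine Nat.dvd_antisymm ?_ hMG
  rw [← Nat.factorization_le_iff_dvd Nat.card_pos.ne' Nat.card_pos.ne']
  intro p
  by_cases hp : p.Prime
  · have := Fact.mk hp
    by_cases hpM : p ∣ Nat.card M
    · by_cases hpA : p ∈ A
      · exact factorization_le_aux A hfull hnot hdvdM hpA hb hbA hpM hbM (hbM.trans hMG)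
      · refine factorization_le_aux Aᶜ (fun g hg => ?_) (fun g hg => ?_) hdvdM hpA ha
          (not_not.mpr haA) hpM haM (haM.trans hMG)
        · rw [compl_compl]; exact (hfull g hg).symm
        · rw [compl_compl]; exact fun h => hnot g hg h.symm
    · -- then no class size is divisible by `p`, so `P` is central
      rw [Nat.factorization_eq_zero_of_not_dvd (n := Nat.card M) hpM, Nat.le_zero]
      refine Nat.factorization_eq_zero_of_not_dvd fun hpG => ?_
      obtain ⟨P⟩ : Nonempty (Sylow p G) := inferInstance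
      have hP := sylow_le_center_of_forall_not_dvd P
        (fun g hg => hpM (hg.trans (hdvdM g)))
      rw [hZG, le_bot_iff] at hP
      exact P.ne_bot_of_dvd_card hpG hP
  · simp [Nat.factorization_eq_zero_of_not_prime _ hp]

end H27
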