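import Mathlib.GroupTheory.Nilpotent

/-! The join of two normal nilpotent subgroups: the bound on the class. -/

set_option autoImplicit false

namespace H27

open Subgroup
open scoped commutatorElement

variable {G : Type*} [Group G]

/-- `layer H i` is everything for `i = 0`, and the `(i-1)`-st term of the series of `H` afterwards. -/
def layer (H : Subgroup G) : ℕ → Subgroup G
  | 0 => ⊤
  | i + 1 => H.lowerCentralSeries i

theorem lowerCentralSeries_normal' (H : Subgroup G) [H.Normal] :
    ∀ i, (H.lowerCentralSeries i).Normal := by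
  intro i
  induction i with
  | zero => simpa using (inferInstance : H.Normal)
  | succ i ih => rw [Subgroup.lowerCentralSeries_succ]; exact Subgroup.commutator_normal _ _

theorem layer_normal (H : Subgroup G) [H.Normal] : ∀ i, (layer H i).Normal
  | 0 => show (⊤ : Subgroup G).Normal from inferInstance
  | i + 1 => lowerCentralSeries_normal' H i

theorem commutator_layer_le (H : Subgroup G) [H.Normal] :
    ∀ i, ⁅layer H i, H⁆ ≤ layer H (i + 1)
  | 0 => by simp only [layer, Subgroup.lowerCentralSeries_zero]; exact commutator_le_right _ _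
  | i + 1 => le_of_eq (Subgroup.lowerCentralSeries_succ H i).symm

/-- The subgroup generated by the intersections of layers of total weight `w`. -/
def mixed (H K : Subgroup G) (w : ℕ) : Subgroup G :=
  ⨆ i : Fin (w + 1), layer H i ⊓ layer K (w - i)

theorem mixed_normal (H K : Subgroup G) [H.Normal] [K.Normal] (w : ℕ) : (mixed H K w).Normal := by
  rw [← normalizer_eq_top_iff, eq_top_iff]
  intro g _
  rw [mem_normalizer_iff_map_conj_eq, mixed, Subgroup.map_iSup]
  refine iSup_congr fun i => ?_
  have := layer_normal H i
  have := layer_normal K (w - i)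
  exact (inferInstance : (layer H i ⊓ layer K (w - i)).Normal).map_conj_eq _ g

theorem le_mixed (H K : Subgroup G) {w i j : ℕ} (h : i + j = w) :
    layer H i ⊓ layer K j ≤ mixed H K w := by
  subst h
  refine le_trans ?_ (le_iSup _ (⟨i, by omega⟩ : Fin (i + j + 1)))
  simp

theorem commutator_iSup_le {ι : Sort*} (f : ι → Subgroup G) (A T : Subgroup G) [T.Normal]
    (h : ∀ i, ⁅f i, A⁆ ≤ T) : ⁅⨆ i, f i, A⁆ ≤ T := by
  set C := (centralizer ((A.map (QuotientGroup.mk' T) : Subgroup (G ⧸ T)) : Set (G ⧸ T))).comap
    (QuotientGroup.mk' T)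
  have hC : ∀ g : G, g ∈ C ↔ ∀ a ∈ A, ⁅g, a⁆ ∈ T := by
    intro g
    simp only [C, mem_comap, mem_centralizer_iff, coe_map, Set.forall_mem_image, SetLike.mem_coe]
    refine forall₂_congr fun a _ => ?_
    rw [← QuotientGroup.eq_one_iff ⁅g, a⁆, ← QuotientGroup.mk'_apply, map_commutatorElement,
      commutatorElement_eq_one_iff_mul_comm, eq_comm]
  have hle : ⨆ i, f i ≤ C := iSup_le fun i g hg => (hC g).mpr fun a ha => commutator_le.mp (h i) g hg a ha
  exact commutator_le.mpr fun g hg a ha => (hC g).mp (hle hg) a ha

theorem join_series_le (H K : Subgroup G) [H.Normal] [K.Normal] :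
    ∀ n, (H ⊔ K).lowerCentralSeries n ≤ mixed H K (n + 1) := by
  intro n
  induction n with
  | zero =>
    rw [Subgroup.lowerCentralSeries_zero]
    refine sup_le ?_ ?_
    · exact le_trans (by simp [layer]) (le_mixed H K (w := 1) (i := 1) (j := 0) rfl)
    · exact le_trans (by simp [layer]) (le_mixed H K (w := 1) (i := 0) (j := 1) rfl)
  | succ n ih =>
    rw [Subgroup.lowerCentralSeries_succ]
    refine (commutator_mono ih le_rfl).trans ?_
    have := mixed_normal H K (n + 1 + 1)
    refine commutator_iSup_le _ _ _ fun i => ?_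
    have hi := i.2
    set X := layer H i ⊓ layer K (n + 1 - i)
    have := layer_normal H i
    have := layer_normal K (n + 1 - i)
    rw [commutator_comm]
    rw [show H ⊔ K = ⨆ b : Bool, bif b then H else K by rw [iSup_bool_eq]; rfl]
    refine commutator_iSup_le _ _ _ fun b => ?_
    cases b
    · refine le_trans ?_ (le_mixed H K (i := i) (j := n + 1 - i + 1) (by omega))
      simp only [cond_false]
      rw [commutator_comm]
      exact le_inf ((commutator_le_left X K).trans inf_le_left)
        ((commutator_mono inf_le_right le_rfl).trans (commutator_layer_le K _))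
    · refine le_trans ?_ (le_mixed H K (i := i + 1) (j := n + 1 - i) (by omega))
      simp only [cond_true]
      rw [commutator_comm]
      exact le_inf ((commutator_mono inf_le_left le_rfl).trans (commutator_layer_le H _))
        ((commutator_le_left X H).trans inf_le_right)

theorem join_series_eq_bot (H K : Subgroup G) [H.Normal] [K.Normal] (c d : ℕ)
    (hH : H.lowerCentralSeries c = ⊥) (hK : K.lowerCentralSeries d = ⊥) :
    (H ⊔ K).lowerCentralSeries (c + d) = ⊥ := by
  refine le_bot_iff.mp ((join_series_le H K (c + d)).trans (iSup_le fun i => ?_))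
  have hi := i.2
  rcases le_or_gt (c + 1) i with h | h
  · obtain ⟨j, hj⟩ : ∃ j, (i : ℕ) = j + 1 := ⟨i - 1, by omega⟩
    rw [hj]
    refine inf_le_left.trans ?_
    show H.lowerCentralSeries j ≤ ⊥
    exact hH ▸ H.lowerCentralSeries_antitone (by omega)
  · obtain ⟨j, hj⟩ : ∃ j, c + d + 1 - (i : ℕ) = j + 1 := ⟨c + d - i, by omega⟩
    rw [hj]
    refine inf_le_right.trans ?_
    show K.lowerCentralSeries j ≤ ⊥
    exact hK ▸ K.lowerCentralSeries_antitone (by omega)

end H27
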