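import Mathlib.GroupTheory.Sylow
import Cfsg.Agent.H1.Wielandt
import Cfsg.Agent.H1.CoprimeAction2
import Cfsg.Agent.H31.InvariantMax
import Cfsg.Agent.H27.RegularClasses
import Cfsg.Agent.H27.SylowLift

/-! The common-divisor graph on the class sizes of `p`-singular elements. -/

set_option autoImplicit false

namespace H27

open Subgroup
open scoped commutatorElement

variable {G : Type*} [Group G] [Finite G]

theorem exists_mul_of_coprime_cent {y z : G}
    (h : (centralizer ({y} : Set G)).index.Coprime (centralizer ({z} : Set G)).index) (g : G) :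
    ∃ c ∈ centralizer ({y} : Set G), ∃ d ∈ centralizer ({z} : Set G), g = c * d :=
  H1.exists_mul_eq_of_coprime_index _ _ h g

theorem index_cent_comm_symm {y z : G} (hc : Commute y z) :
    (centralizer ({y * z} : Set G)).index = (centralizer ({z * y} : Set G)).index := by
  rw [hc.eq]

/-- For commuting `y`, `z` with coprime class sizes, class sizes and the product. -/
theorem index_mul_facts {y z : G} (hc : Commute y z)
    (hcop : (centralizer ({y} : Set G)).index.Coprime (centralizer ({z} : Set G)).index) :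
    (centralizer ({y * z} : Set G)).index ∣
      (centralizer ({y} : Set G)).index * (centralizer ({z} : Set G)).index ∧
    (∀ s ∈ (ConjClasses.mk z).carrier, y * s ∈ (ConjClasses.mk (y * z)).carrier) ∧
    (centralizer ({z} : Set G)).index ≤ (centralizer ({y * z} : Set G)).index := by
  have h1 : (centralizer ({y * z} : Set G)).index ∣
      (centralizer ({y} : Set G)).index * (centralizer ({z} : Set G)).index := by
    rw [← H1.index_inf_eq_of_coprime _ _ hcop]
    refine index_dvd_of_le fun g hg => mem_cent_comm.mpr ?_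
    exact (mem_cent_comm.mp hg.1).mul_left (mem_cent_comm.mp hg.2)
  have h2 : ∀ s ∈ (ConjClasses.mk z).carrier, y * s ∈ (ConjClasses.mk (y * z)).carrier := by
    intro s hs
    rw [ConjClasses.mem_carrier_iff_mk_eq, ConjClasses.mk_eq_mk_iff_isConj] at hs ⊢
    obtain ⟨g, rfl⟩ := isConj_iff.mp hs.symm
    obtain ⟨c, hc', d, hd, rfl⟩ := exists_mul_of_coprime_cent hcop g
    refine (isConj_iff.mpr ⟨c, ?_⟩ : IsConj (y * z) _).symm
    have hdz : d * z * d⁻¹ = z := by rw [mem_cent.mp hd, mul_inv_cancel_right]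
    have hcy : c * y * c⁻¹ = y := by rw [mem_cent.mp hc', mul_inv_cancel_right]
    calc c * (y * z) * c⁻¹ = (c * y * c⁻¹) * (c * (d * z * d⁻¹) * c⁻¹) := by rw [hdz]; group
      _ = y * (c * d * z * (c * d)⁻¹) := by rw [hcy]; group
  refine ⟨h1, h2, ?_⟩
  rw [← card_carrier_eq_index, ← card_carrier_eq_index]
  exact Nat.card_le_card_of_injective
    (fun s : (ConjClasses.mk z).carrier => (⟨y * s, h2 s s.2⟩ : (ConjClasses.mk (y * z)).carrier))
    (fun a b h => Subtype.ext (mul_left_cancel (congrArg Subtype.val h)))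

/-- A subgroup whose left translations preserve a set has order dividing its cardinality. -/
theorem card_dvd_of_mul_invariant (N : Subgroup G) (S : Set G)
    (h : ∀ a ∈ N, ∀ s ∈ S, a * s ∈ S) : Nat.card N ∣ Nat.card S := by
  have h1 : (QuotientGroup.mk : G → G ⧸ N) ⁻¹' ((QuotientGroup.mk : G → G ⧸ N) '' S⁻¹) = S⁻¹ := by
    refine Set.Subset.antisymm ?_ (Set.subset_preimage_image _ _)
    rintro x ⟨s, hs, hsx⟩
    have h2 : s⁻¹ * x ∈ N := QuotientGroup.eq.mp hsx
    rw [Set.mem_inv] at hs ⊢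
    have h3 := h _ (N.inv_mem h2) _ hs
    simpa [mul_assoc] using h3
  have h4 : Nat.card S = Nat.card (S⁻¹ : Set G) := by
    rw [Nat.card_coe_set_eq, Nat.card_coe_set_eq, Set.ncard_inv]
  rw [h4, ← h1, QuotientGroup.card_preimage_mk]
  exact dvd_mul_right _ _

/-- If the class size of `z * y` is prime to that of `z`, the conjugates of `z` commute and their
displacements generate a subgroup of order dividing the class size of `y`. -/
theorem product_class_case {y z : G} (hc : Commute y z)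
    (hcop : (centralizer ({y} : Set G)).index.Coprime (centralizer ({z} : Set G)).index)
    (h : (centralizer ({y * z} : Set G)).index.Coprime (centralizer ({z} : Set G)).index) :
    ∀ g : G, Commute z (g * z * g⁻¹) ∧
      (z⁻¹ * (g * z * g⁻¹)) ^ (centralizer ({y} : Set G)).index = 1 := by
  obtain ⟨h1, -, -⟩ := index_mul_facts hc hcop
  obtain ⟨-, h2, h3⟩ := index_mul_facts hc.symm hcop.symm
  rw [← hc.eq] at h2 h3
  have hm : (centralizer ({y * z} : Set G)).index = (centralizer ({y} : Set G)).index :=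
    le_antisymm (Nat.le_of_dvd (cent_pos y) (h.dvd_of_dvd_mul_right h1)) h3
  set S := (ConjClasses.mk y).carrier
  set T := (ConjClasses.mk (y * z)).carrier
  have himg : (fun s => z * s) '' S = T := by
    refine Set.eq_of_subset_of_ncard_le ?_ ?_
    · rintro _ ⟨s, hs, rfl⟩; exact h2 s hs
    · rw [Set.ncard_image_of_injective _ (mul_right_injective z), ← Nat.card_coe_set_eq,
        ← Nat.card_coe_set_eq, card_carrier_eq_index, card_carrier_eq_index, hm]
  let X : Set G := Set.range fun g : G => z⁻¹ * (g * z * g⁻¹)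
  set N := closure X
  have hinv : ∀ a ∈ X, ∀ s ∈ S, a * s ∈ S := by
    rintro _ ⟨g, rfl⟩ s hs
    have hs' : g⁻¹ * s * g ∈ S := by
      rw [ConjClasses.mem_carrier_iff_mk_eq] at hs ⊢
      rw [← hs, ConjClasses.mk_eq_mk_iff_isConj]
      exact isConj_iff.mpr ⟨g, by group⟩
    have ht : g * (z * (g⁻¹ * s * g)) * g⁻¹ ∈ T := by
      have := h2 _ hs'
      rw [ConjClasses.mem_carrier_iff_mk_eq] at this ⊢
      rw [← this, ConjClasses.mk_eq_mk_iff_isConj]
      exact isConj_iff.mpr ⟨g⁻¹, by group⟩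
    rw [← himg] at ht
    obtain ⟨s', hs'', he⟩ := ht
    have : z⁻¹ * (g * z * g⁻¹) * s = s' := by
      calc z⁻¹ * (g * z * g⁻¹) * s = z⁻¹ * (g * (z * (g⁻¹ * s * g)) * g⁻¹) := by group
        _ = s' := by rw [← he]; group
    rw [this]; exact hs''
  have hinvN : ∀ a ∈ N, ∀ s ∈ S, a * s ∈ S := by
    intro a ha
    induction ha using closure_induction with
    | mem a ha => exact hinv a ha
    | one => intro s hs; rwa [one_mul]
    | mul a b _ _ iha ihb => intro s hs; rw [mul_assoc]; exact iha _ (ihb s hs)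
    | inv a _ iha =>
      have himg' : (fun s => a * s) '' S = S :=
        Set.eq_of_subset_of_ncard_le (by rintro _ ⟨s, hs, rfl⟩; exact iha s hs)
          (by rw [Set.ncard_image_of_injective _ (mul_right_injective a)])
      intro s hs
      rw [← himg'] at hs
      obtain ⟨t, ht, rfl⟩ := hs
      simpa using ht
  have hNm : Nat.card N ∣ (centralizer ({y} : Set G)).index :=
    card_carrier_eq_index y ▸ card_dvd_of_mul_invariant N S hinvN
  have hNn : N.Normal := by
    refine ⟨fun a ha g => ?_⟩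
    have : N ≤ N.comap (MulAut.conj g).toMonoidHom := by
      refine (closure_le _).mpr ?_
      rintro _ ⟨k, rfl⟩
      show g * (z⁻¹ * (k * z * k⁻¹)) * g⁻¹ ∈ N
      have h5 : g * (z⁻¹ * (k * z * k⁻¹)) * g⁻¹ =
          (z⁻¹ * (g * z * g⁻¹))⁻¹ * (z⁻¹ * (g * k * z * (g * k)⁻¹)) := by group
      rw [h5]
      exact N.mul_mem (N.inv_mem (subset_closure ⟨g, rfl⟩)) (subset_closure ⟨g * k, rfl⟩)
    exact this ha
  have hNC : N ≤ centralizer ({z} : Set G) := by
    rw [← relIndex_eq_one]
    exact Nat.eq_one_of_dvd_coprimes hcop ((relIndex_dvd_card _ N).trans hNm)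
      (relIndex_dvd_index_right _ N)
  intro g
  have hmem : z⁻¹ * (g * z * g⁻¹) ∈ N := subset_closure ⟨g, rfl⟩
  refine ⟨?_, orderOf_dvd_iff_pow_eq_one.mp ((Subgroup.orderOf_dvd_natCard N hmem).trans hNm)⟩
  have h6 : Commute z (z⁻¹ * (g * z * g⁻¹)) := mem_cent_comm.mp (hNC hmem)
  have h7 := (Commute.refl z).mul_right h6
  rwa [mul_inv_cancel_left] at h7

variable {p : ℕ} [hp : Fact p.Prime]

theorem exists_central_edge {z y : G} (hz : z ^ p = 1) (hzn : z ∉ center G)
    (hzi : ¬ p ∣ (centralizer ({z} : Set G)).index)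
    (hcomm : ∀ g : G, Commute z (g * z * g⁻¹))
    (hy : ∃ k, orderOf y = p ^ k) (hyi : p ∣ (centralizer ({y} : Set G)).index) :
    ∃ g : G, p ∣ orderOf g ∧ p ∣ (centralizer ({g} : Set G)).index ∧
      ∃ b : ℕ, b.Prime ∧ b ∣ (centralizer ({z} : Set G)).index ∧
        b ∣ (centralizer ({g} : Set G)).index := by
  classical
  by_contra hcon
  push Not at hcon
  have hcop : ∀ g : G, p ∣ orderOf g → p ∣ (centralizer ({g} : Set G)).index →
      (centralizer ({g} : Set G)).index.Coprime (centralizer ({z} : Set G)).index :=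
    fun g h1 h2 => Nat.coprime_of_dvd fun b hb hbg hbz => hcon g h1 h2 b hb hbz hbg
  set n := (centralizer ({z} : Set G)).index
  have hn1 : 1 < n := one_lt_index_cent hzn
  have hz1 : z ≠ 1 := fun h => hzn (h ▸ one_mem _)
  have hzo : orderOf z = p := orderOf_eq_prime hz hz1
  set Z := centralizer ({z} : Set G)
  obtain ⟨P, hPZ⟩ := exists_sylow_le_of_not_dvd_index hzi
  -- the normal subgroup generated by the conjugates
  set W := normalClosure ({z} : Set G)
  have hWab : ∀ a ∈ W, ∀ b ∈ W, a * b = b * a := by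
    have : IsMulCommutative W := isMulCommutative_closure (k := Group.conjugatesOfSet ({z} : Set G)) (by
      intro a ha b hb
      simp only [Group.mem_conjugatesOfSet_iff, Set.mem_singleton_iff, exists_eq_left] at ha hb
      obtain ⟨g, rfl⟩ := isConj_iff.mp ha
      obtain ⟨k, rfl⟩ := isConj_iff.mp hb
      have h1 := (hcomm (g⁻¹ * k)).map (MulAut.conj g).toMonoidHom
      have h2 : Commute (g * z * g⁻¹) (k * z * k⁻¹) := by simpa [mul_assoc] using h1
      exact h2.eq)
    exact fun a ha b hb => setLike_mul_comm (s := W) ha hb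
  have hWp : IsPGroup p W := by
    rintro ⟨w, hw⟩
    refine ⟨1, Subtype.ext ?_⟩
    show w ^ p ^ 1 = 1
    rw [pow_one]
    induction hw using closure_induction with
    | mem a ha =>
      simp only [Group.mem_conjugatesOfSet_iff, Set.mem_singleton_iff, exists_eq_left] at ha
      obtain ⟨g, rfl⟩ := isConj_iff.mp ha
      rw [← MulAut.conj_apply, ← map_pow, hz, map_one]
    | one => rw [one_pow]
    | mul a b ha hb iha ihb => rw [Commute.mul_pow (hWab a ha b hb), iha, ihb, one_mul]
    | inv a _ iha => rw [inv_pow, iha, inv_one]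
  have hzW : z ∈ W := subset_normalClosure rfl
  have hsing : ∀ u ∈ (P : Subgroup G), u ≠ 1 → p ∣ orderOf u := by
    intro u hu hu1
    obtain ⟨i, hi⟩ := IsPGroup.iff_orderOf.mp P.isPGroup' ⟨u, hu⟩
    rw [Subgroup.orderOf_mk] at hi
    rcases i with _ | i
    · exact absurd (orderOf_eq_one_iff.mp (by simpa using hi)) hu1
    · rw [hi]; exact dvd_pow_self p (Nat.succ_ne_zero i)
  -- the Sylow subgroup centralises `W`
  have hPW : ∀ u ∈ (P : Subgroup G), u ∈ centralizer (W : Set G) := by
    intro u hu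
    rcases eq_or_ne u 1 with rfl | hu1
    · exact one_mem _
    suffices hle : W ≤ centralizer ({u} : Set G) from le_cent_iff.mp hle
    by_cases hpu : p ∣ (centralizer ({u} : Set G)).index
    · refine (closure_le _).mpr ?_
      intro a ha
      simp only [Group.mem_conjugatesOfSet_iff, Set.mem_singleton_iff, exists_eq_left] at ha
      obtain ⟨g, rfl⟩ := isConj_iff.mp ha
      obtain ⟨c, hc, d, hd, rfl⟩ := exists_mul_of_coprime_cent (hcop u (hsing u hu hu1) hpu) g
      have hdz : d * z * d⁻¹ = z := by rw [mem_cent.mp hd, mul_inv_cancel_right]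
      have h1 : Commute u z := (mem_cent_comm.mp (hPZ hu)).symm
      refine mem_cent_comm.mpr ?_
      have : c * d * z * (c * d)⁻¹ = c * (d * z * d⁻¹) * c⁻¹ := by group
      rw [this, hdz]
      exact (((mem_cent_comm.mp hc).mul_right h1).mul_right (mem_cent_comm.mp hc).inv_right)
    · obtain ⟨Q, hQ⟩ := exists_sylow_le_of_not_dvd_index hpu
      exact (hWp.le_sylow_of_normal Q).trans hQ
  -- `p`-regular elements of `C(z)` centralise a Sylow `p`-subgroup of it
  have hreg : ∀ v : Z, (orderOf v).Coprime p → ¬ p ∣ (centralizer ({v} : Set Z)).index := by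
    intro v hv hdvd
    have hvz : Commute z (v : G) := mem_cent_comm.mp v.2
    have hco : (orderOf z).Coprime (orderOf (v : G)) := by
      rw [hzo, Subgroup.orderOf_coe]; exact hv.symm
    set F := centralizer ({z * (v : G)} : Set G)
    have hFZ : F ≤ Z := cent_mul_le_left hvz hco
    have hle : F.subgroupOf Z ≤ centralizer ({v} : Set Z) := fun a ha =>
      mem_cent.mpr (Subtype.ext (mem_cent.mp (cent_mul_le_right hvz hco ha)))
    have hpF : p ∣ F.index := (hdvd.trans (index_dvd_of_le hle)).trans (relIndex_dvd_index_of_le hFZ)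
    have hpo : p ∣ orderOf (z * (v : G)) := by
      rw [hvz.orderOf_mul_eq_mul_orderOf_of_coprime hco, hzo]; exact dvd_mul_right _ _
    exact hn1.ne' (Nat.eq_one_of_dvd_coprimes (hcop _ hpo hpF) (index_left_dvd_mul hvz hco) dvd_rfl)
  set PZ : Sylow p Z := P.subtype hPZ
  have htopZ := sylow_normal_of_pRegular hreg PZ
  have hPZn : (PZ : Subgroup Z).Normal := normalizer_eq_top_iff.mp
    (top_le_iff.mp (htopZ ▸ sup_le le_normalizer (centralizer_le_normalizer _)))
  have hZN : Z ≤ normalizer ((P : Subgroup G) : Set G) :=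
    (Subgroup.normal_subgroupOf_iff_le_normalizer hPZ).mp hPZn
  -- `P` is normal in `G`
  set K := centralizer (W : Set G)
  have hKn : K.Normal := Subgroup.normal_centralizer (H := W)
  have hKZ : K ≤ Z := fun k hk => mem_cent.mpr (mem_centralizer_iff.mp hk z hzW).symm
  have hfr := Sylow.normalizer_sup_eq_top' P (show (P : Subgroup G) ≤ K from hPW)
  have hN : normalizer ((P : Subgroup G) : Set G) = ⊤ :=
    top_le_iff.mp (hfr ▸ sup_le le_rfl (hKZ.trans hZN))
  have hPn : (P : Subgroup G).Normal := normalizer_eq_top_iff.mp hN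
  have huniq : ∀ Q : Sylow p G, (Q : Subgroup G) = P := fun Q => by
    obtain ⟨g, rfl⟩ := MulAction.exists_smul_eq G P Q
    rw [Sylow.smul_eq_of_normal]
  have hPmem : ∀ u : G, (∃ k, orderOf u = p ^ k) → u ∈ (P : Subgroup G) := by
    rintro u ⟨k, hk⟩
    obtain ⟨Q, hQ⟩ := IsPGroup.exists_le_sylow
      (IsPGroup.of_card (p := p) (G := zpowers u) (n := k) (by rw [Nat.card_zpowers, hk]))
    exact huniq Q ▸ hQ (mem_zpowers u)
  set ZP := centralizer ((P : Subgroup G) : Set G)
  have hnc : ¬ (P : Subgroup G) ≤ ZP := fun hle => by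
    refine (not_dvd_index_iff.mpr ⟨P, ?_⟩) hyi
    exact le_cent_iff.mpr (hle (hPmem y hy))
  -- `C(z)` acts on `P` by inner automorphisms
  have hZact : ∀ c ∈ Z, ∃ a ∈ (P : Subgroup G), ∀ u ∈ (P : Subgroup G),
      c * u * c⁻¹ = a * u * a⁻¹ := by
    intro c hc
    have hmem : (⟨c, hc⟩ : Z) ∈ ((PZ : Subgroup Z) ⊔ centralizer ((PZ : Subgroup Z) : Set Z) :
        Subgroup Z) := htopZ ▸ mem_top _
    rw [← SetLike.mem_coe, normal_mul] at hmem
    obtain ⟨a, ha, b, hb, hab⟩ := hmem
    refine ⟨(a : G), ha, fun u hu => ?_⟩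
    have hcb : c = (a : G) * b := (congrArg Subtype.val hab).symm
    have hbu : u * (b : G) = b * u :=
      congrArg Subtype.val (mem_centralizer_iff.mp hb ⟨u, hPZ hu⟩ hu)
    rw [hcb]
    calc (a : G) * b * u * ((a : G) * b)⁻¹ = a * ((b : G) * u) * (b : G)⁻¹ * (a : G)⁻¹ := by group
      _ = _ := by rw [← hbu]; group
  -- elements of order prime to `p` centralise `P`
  have hall : ∀ h : G, (orderOf h).Coprime p → h ∈ ZP := by
    intro h hh
    set Φ := (frattini (P : Subgroup G)).map (P : Subgroup G).subtype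
    have hΦn : ∀ a ∈ (P : Subgroup G), ∀ t ∈ Φ, a * t * a⁻¹ ∈ Φ := by
      rintro a ha _ ⟨t, ht, rfl⟩
      exact ⟨⟨a, ha⟩ * t * ⟨a, ha⟩⁻¹,
        (inferInstance : (frattini (P : Subgroup G)).Normal).conj_mem t ht _, rfl⟩
    let L : Subgroup G :=
      { carrier := {u | u ∈ (P : Subgroup G) ∧ h * u * h⁻¹ * u⁻¹ ∈ Φ}
        one_mem' := ⟨one_mem _, by simp⟩
        mul_mem' := by
          rintro u v ⟨hu, hu'⟩ ⟨hv, hv'⟩
          refine ⟨mul_mem hu hv, ?_⟩
          have : h * (u * v) * h⁻¹ * (u * v)⁻¹ =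
              (h * u * h⁻¹ * u⁻¹) * (u * (h * v * h⁻¹ * v⁻¹) * u⁻¹) := by group
          rw [this]
          exact Φ.mul_mem hu' (hΦn u hu _ hv')
        inv_mem' := by
          rintro u ⟨hu, hu'⟩
          refine ⟨inv_mem hu, ?_⟩
          have : h * u⁻¹ * h⁻¹ * u⁻¹⁻¹ = u⁻¹ * (h * u * h⁻¹ * u⁻¹)⁻¹ * u⁻¹⁻¹ := by group
          rw [this]
          exact hΦn _ (inv_mem hu) _ (Φ.inv_mem hu') }
    have hgen : ∀ u ∈ (P : Subgroup G), u ∉ ZP → u ∈ L := by
      intro u hu huZ
      refine ⟨hu, ?_⟩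
      have hu1 : u ≠ 1 := fun h => huZ (h ▸ one_mem _)
      have hpu : p ∣ (centralizer ({u} : Set G)).index := by
        by_contra hnp
        obtain ⟨Q, hQ⟩ := exists_sylow_le_of_not_dvd_index hnp
        rw [huniq Q] at hQ
        exact huZ (le_cent_iff.mp hQ)
      obtain ⟨c, hc, d, hd, hcd⟩ :=
        exists_mul_of_coprime_cent (hcop u (hsing u hu hu1) hpu).symm h
      obtain ⟨a, ha, hau⟩ := hZact c hc
      have hdu : d * u * d⁻¹ = u := by rw [mem_cent.mp hd, mul_inv_cancel_right]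
      have h1 : h * u * h⁻¹ * u⁻¹ = a * u * a⁻¹ * u⁻¹ := by
        rw [← hau u hu, hcd, show c * d * u * (c * d)⁻¹ = c * (d * u * d⁻¹) * c⁻¹ by group, hdu]
      rw [h1]
      refine ⟨⁅(⟨a, ha⟩ : (P : Subgroup G)), ⟨u, hu⟩⁆, H31.commutator_le_frattini P.isPGroup'
        (commutator_mem_commutator (mem_top _) (mem_top _)), ?_⟩
      simp [commutatorElement_def]
    have hPL : ∀ u ∈ (P : Subgroup G), u ∈ L := by
      intro u hu
      by_cases huZ : u ∈ ZP
      · obtain ⟨v, hv, hvZ⟩ := SetLike.not_le_iff_exists.mp hnc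
        have huv : u * v ∉ ZP := fun h => hvZ (by simpa using ZP.mul_mem (ZP.inv_mem huZ) h)
        have := L.mul_mem (hgen _ (mul_mem hu hv) huv) (L.inv_mem (hgen v hv hvZ))
        simpa using this
      · exact hgen u hu huZ
    have hA : zpowers h ≤ centralizer ((P : Subgroup G) : Set G) := by
      refine H1.le_centralizer_of_frattini (hN ▸ le_top) ?_ ?_
      · obtain ⟨i, hi⟩ := IsPGroup.iff_card.mp
          (IsPGroup.to_subgroup P.isPGroup' (frattini (P : Subgroup G)))
        rw [Nat.card_zpowers, hi]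
        exact hh.pow_right i
      · intro a ha k hk
        obtain ⟨i, rfl⟩ := (mem_powers_iff_mem_zpowers.mpr ha : a ∈ Submonoid.powers h)
        clear ha
        induction i generalizing k with
        | zero => simp
        | succ i ih =>
          have hk' : h ^ i * k * (h ^ i)⁻¹ ∈ (P : Subgroup G) := hPn.conj_mem k hk _
          have h1 := (hPL _ hk').2
          have h2 : h ^ (i + 1) * k * (h ^ (i + 1))⁻¹ * k⁻¹ =
              (h * (h ^ i * k * (h ^ i)⁻¹) * h⁻¹ * (h ^ i * k * (h ^ i)⁻¹)⁻¹) *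
                (h ^ i * k * (h ^ i)⁻¹ * k⁻¹) := by
            rw [pow_succ']; group
          show h ^ (i + 1) * k * (h ^ (i + 1))⁻¹ * k⁻¹ ∈ Φ
          rw [h2]
          exact Φ.mul_mem h1 (ih k hk)
    exact hA (mem_zpowers h)
  -- hence `z` is central
  refine hzn (mem_center_iff.mpr fun g => ?_)
  obtain ⟨u, v, rfl, ⟨k, hk⟩, hv, -, -⟩ := H5.exists_p_decomposition (p := p) g
  have huP : u ∈ (P : Subgroup G) := by
    obtain ⟨i, -, hi⟩ := (Nat.dvd_prime_pow hp.out).mp (orderOf_dvd_of_pow_eq_one hk)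
    exact hPmem u ⟨i, hi⟩
  have h1 : Commute z u := mem_cent_comm.mp (hPZ huP)
  have h2 : Commute z v := mem_centralizer_iff.mp (hall v hv) z (hPmem z ⟨1, by rw [hzo, pow_one]⟩)
  exact (h1.mul_right h2).eq.symm

/-- Elements `y`, `z` of order `p` with coprime class sizes: the graph joins them. -/
theorem exists_edge_of_coprime (hZ : ∀ x : G, x ∈ center G → x ^ p = 1 → x = 1)
    {y z : G} (hy : y ^ p = 1) (hy1 : y ≠ 1) (hz : z ^ p = 1) (hz1 : z ≠ 1)
    (hcop : (centralizer ({y} : Set G)).index.Coprime (centralizer ({z} : Set G)).index)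
    (hzi : ¬ p ∣ (centralizer ({z} : Set G)).index) :
    ∃ a b : ℕ, a.Prime ∧ b.Prime ∧ a ∣ (centralizer ({y} : Set G)).index ∧
      b ∣ (centralizer ({z} : Set G)).index ∧
      ∃ g : G, p ∣ orderOf g ∧ a ∣ (centralizer ({g} : Set G)).index ∧
        b ∣ (centralizer ({g} : Set G)).index := by
  have hyn : y ∉ center G := fun h => hy1 (hZ y h hy)
  have hzn : z ∉ center G := fun h => hz1 (hZ z h hz)
  obtain ⟨P, hP⟩ := IsPGroup.exists_le_sylow (IsPGroup.of_card (p := p) (G := zpowers y) (n := 1)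
    (by rw [Nat.card_zpowers, orderOf_eq_prime hy hy1, pow_one]))
  obtain ⟨t, ht⟩ := exists_smul_centralizer P hzi
  set z' := t⁻¹ * z * t
  have hz' : z' = t⁻¹ * z * t⁻¹⁻¹ := by simp [z']
  have hidx : (centralizer ({z'} : Set G)).index = (centralizer ({z} : Set G)).index := by
    rw [hz', index_cent_conj]
  have hzp : z' ^ p = 1 := by rw [hz', ← MulAut.conj_apply, ← map_pow, hz, map_one]
  have hzn' : z' ∉ center G := by
    rw [← index_cent_eq_one_iff, hidx, index_cent_eq_one_iff]; exact hzn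
  have hc : Commute y z' := mem_centralizer_iff.mp ht y (hP (mem_zpowers y))
  rw [← hidx] at hcop hzi ⊢
  set w := y * z'
  have hw1 : w ≠ 1 := by
    intro h
    have h1 : y = z'⁻¹ := eq_inv_of_mul_eq_one_left h
    have h2 : centralizer ({y} : Set G) = centralizer ({z'} : Set G) := by
      ext g; rw [mem_cent_comm, mem_cent_comm, h1, Commute.inv_left_iff]
    rw [h2, Nat.coprime_self] at hcop
    exact hzn' (index_cent_eq_one_iff.mp hcop)
  have hwo : p ∣ orderOf w := by
    rw [orderOf_eq_prime (by rw [hc.mul_pow, hy, hzp, one_mul]) hw1]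
  by_cases hA : (centralizer ({w} : Set G)).index.Coprime (centralizer ({z'} : Set G)).index
  · have hcase := product_class_case hc hcop hA
    have hpm : p ∣ (centralizer ({y} : Set G)).index := by
      by_contra hpm
      refine hzn' (mem_center_iff.mpr fun g => ?_)
      obtain ⟨h1, h2⟩ := hcase g
      have h3 : (z'⁻¹ * (g * z' * g⁻¹)) ^ p = 1 := by
        rw [(h1.inv_left).mul_pow, inv_pow, hzp, ← MulAut.conj_apply, ← map_pow, hzp, map_one,
          inv_one, one_mul]
      have h4 := pow_gcd_eq_one.mpr ⟨h3, h2⟩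
      rw [((hp.out.coprime_iff_not_dvd).mpr hpm).gcd_eq_one, pow_one, inv_mul_eq_one] at h4
      calc g * z' = g * z' * g⁻¹ * g := by group
        _ = z' * g := by rw [← h4]
    obtain ⟨g, hg1, hg2, b, hb, hb1, hb2⟩ := exists_central_edge hzp hzn' hzi
      (fun g => (hcase g).1) ⟨1, by rw [orderOf_eq_prime hy hy1, pow_one]⟩ hpm
    exact ⟨p, b, hp.out, hb, hpm, hb1, g, hg1, hg2, hb2⟩
  · obtain ⟨b, hb, hbw, hbz⟩ := Nat.Prime.not_coprime_iff_dvd.mp hA
    by_cases hB : (centralizer ({w} : Set G)).index.Coprime (centralizer ({y} : Set G)).index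
    · refine absurd (mem_center_iff.mpr fun g => ?_) hyn
      have hB' : (centralizer ({z' * y} : Set G)).index.Coprime (centralizer ({y} : Set G)).index := by
        rw [← hc.eq]; exact hB
      obtain ⟨h1, h2⟩ := product_class_case hc.symm hcop.symm hB' g
      have h3 : (y⁻¹ * (g * y * g⁻¹)) ^ p = 1 := by
        rw [(h1.inv_left).mul_pow, inv_pow, hy, ← MulAut.conj_apply, ← map_pow, hy, map_one,
          inv_one, one_mul]
      have h4 := pow_gcd_eq_one.mpr ⟨h3, h2⟩
      rw [((hp.out.coprime_iff_not_dvd).mpr hzi).gcd_eq_one, pow_one, inv_mul_eq_one] at h4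
      calc g * y = g * y * g⁻¹ * g := by group
        _ = y * g := by rw [← h4]
    · obtain ⟨a, ha, haw, hay⟩ := Nat.Prime.not_coprime_iff_dvd.mp hB
      exact ⟨a, b, ha, hb, hay, hbz, w, hwo, haw, hbw⟩

theorem exists_walk (hZ : ¬ p ∣ Nat.card (center G)) {x₁ x₂ : G}
    (h1 : p ∣ orderOf x₁) (h2 : p ∣ orderOf x₂) :
    ∃ a b : ℕ, a.Prime ∧ b.Prime ∧ a ∣ (centralizer ({x₁} : Set G)).index ∧
      b ∣ (centralizer ({x₂} : Set G)).index ∧
      (a = b ∨ ∃ g : G, p ∣ orderOf g ∧ a ∣ (centralizer ({g} : Set G)).index ∧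
        b ∣ (centralizer ({g} : Set G)).index) := by
  have hZ' : ∀ x : G, x ∈ center G → x ^ p = 1 → x = 1 := by
    intro x hx hxp
    by_contra hx1
    exact hZ (orderOf_eq_prime hxp hx1 ▸ Subgroup.orderOf_dvd_natCard _ hx)
  set y₁ := x₁ ^ (orderOf x₁ / p)
  set y₂ := x₂ ^ (orderOf x₂ / p)
  have ho1 : orderOf y₁ = p := orderOf_pow_orderOf_div (orderOf_pos x₁).ne' h1
  have ho2 : orderOf y₂ = p := orderOf_pow_orderOf_div (orderOf_pos x₂).ne' h2
  have hd1 : (centralizer ({y₁} : Set G)).index ∣ (centralizer ({x₁} : Set G)).index :=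
    index_dvd_of_le (cent_le_cent_pow x₁ _)
  have hd2 : (centralizer ({y₂} : Set G)).index ∣ (centralizer ({x₂} : Set G)).index :=
    index_dvd_of_le (cent_le_cent_pow x₂ _)
  have hy1 : y₁ ≠ 1 := fun h => hp.out.one_lt.ne (by rw [← ho1, h, orderOf_one])
  have hy2 : y₂ ≠ 1 := fun h => hp.out.one_lt.ne (by rw [← ho2, h, orderOf_one])
  have hp1 : y₁ ^ p = 1 := by rw [← ho1]; exact pow_orderOf_eq_one _
  have hp2 : y₂ ^ p = 1 := by rw [← ho2]; exact pow_orderOf_eq_one _
  by_cases hcop : (centralizer ({y₁} : Set G)).index.Coprime (centralizer ({y₂} : Set G)).index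
  · by_cases hz : p ∣ (centralizer ({y₂} : Set G)).index
    · have hz' : ¬ p ∣ (centralizer ({y₁} : Set G)).index := fun h =>
        hp.out.one_lt.ne' (Nat.eq_one_of_dvd_coprimes hcop h hz)
      obtain ⟨a, b, ha, hb, ha1, hb1, g, hg, hga, hgb⟩ :=
        exists_edge_of_coprime hZ' hp2 hy2 hp1 hy1 hcop.symm hz'
      exact ⟨b, a, hb, ha, hb1.trans hd1, ha1.trans hd2, Or.inr ⟨g, hg, hgb, hga⟩⟩
    · obtain ⟨a, b, ha, hb, ha1, hb1, g, hg, hga, hgb⟩ :=
        exists_edge_of_coprime hZ' hp1 hy1 hp2 hy2 hcop hz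
      exact ⟨a, b, ha, hb, ha1.trans hd1, hb1.trans hd2, Or.inr ⟨g, hg, hga, hgb⟩⟩
  · obtain ⟨a, ha, ha1, ha2⟩ := Nat.Prime.not_coprime_iff_dvd.mp hcop
    exact ⟨a, a, ha, ha, ha1.trans hd1, ha2.trans hd2, Or.inl rfl⟩

end H27
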