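import Mathlib.GroupTheory.Nilpotent
import Cfsg.Agent.H27.ClassBasic

/-! Subgroups generated by small classes (Isaacs, Mann). -/

set_option autoImplicit false

namespace H27

open Subgroup

variable {G : Type*} [Group G] [Finite G]

/-- If `A` is abelian normal and `x` has a class of size `m`, then every `⁅x, a⁆` has a class
smaller than `m`, unless `x` centralises `a`. -/
theorem index_cent_commutator_lt (A : Subgroup G) [A.Normal] (hA : IsMulCommutative A) (x a : G)
    (ha : a ∈ A) (hne : x * a * x⁻¹ * a⁻¹ ≠ 1) :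
    (centralizer ({x * a * x⁻¹ * a⁻¹} : Set G)).index < (centralizer ({x} : Set G)).index := by
  have hcomm : ∀ u ∈ A, ∀ v ∈ A, u * v = v * u := fun u hu v hv =>
    congrArg Subtype.val (hA.is_comm.comm ⟨u, hu⟩ ⟨v, hv⟩)
  let β : A →* G := MonoidHom.mk' (fun u => x * u * x⁻¹ * (u : G)⁻¹) fun u v => by
    have h1 : x * (v : G) * x⁻¹ ∈ A := (inferInstance : A.Normal).conj_mem _ v.2 x
    show x * ((u : G) * v) * x⁻¹ * ((u : G) * v)⁻¹ = _
    calc x * ((u : G) * v) * x⁻¹ * ((u : G) * v)⁻¹
        = (x * u * x⁻¹) * ((x * v * x⁻¹ * (v : G)⁻¹) * (u : G)⁻¹) := by group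
      _ = (x * u * x⁻¹) * ((u : G)⁻¹ * (x * v * x⁻¹ * (v : G)⁻¹)) := by
          rw [hcomm _ (mul_mem h1 (inv_mem v.2)) _ (inv_mem u.2)]
      _ = _ := by group
  set C := centralizer ({x} : Set G)
  set y := x * a * x⁻¹ * a⁻¹ with hy
  set H := A ⊔ C
  have hyA : y ∈ A := mul_mem ((inferInstance : A.Normal).conj_mem _ ha x) (inv_mem ha)
  have hHC : Nat.card β.range ≤ C.relIndex H := by
    refine le_trans ?_ (relIndex_le_of_le_right (le_sup_left : A ≤ H) (FiniteIndex.index_ne_zero (H := C.subgroupOf H)))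
    rw [← index_ker,
      show β.ker = C.subgroupOf A by
        ext u
        rw [MonoidHom.mem_ker, mem_subgroupOf, mem_cent_comm]
        exact (mul_inv_eq_one.trans mul_inv_eq_iff_eq_mul)]
    rfl
  -- the orbit of `y` under `H` avoids `1` inside the range of `β`
  let f : H ⧸ (centralizer ({y} : Set G)).subgroupOf H → {g : β.range // g ≠ 1} := fun q =>
    Quotient.liftOn' q (fun h => ⟨⟨(h : G) * y * (h : G)⁻¹, by
      obtain ⟨u, hu, c, hc, hhc⟩ := mem_sup_of_normal_left.mp h.2
      refine ⟨⟨c * a * c⁻¹, (inferInstance : A.Normal).conj_mem _ ha c⟩, ?_⟩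
      have hcx : x * c = c * x := (mem_cent_comm.mp hc).eq
      have hcy : c * y * c⁻¹ ∈ A := (inferInstance : A.Normal).conj_mem _ hyA c
      show x * (c * a * c⁻¹) * x⁻¹ * (c * a * c⁻¹)⁻¹ = h * y * (h : G)⁻¹
      rw [← hhc]
      calc x * (c * a * c⁻¹) * x⁻¹ * (c * a * c⁻¹)⁻¹
          = (x * c) * a * (x * c)⁻¹ * (c * a⁻¹ * c⁻¹) := by group
        _ = c * y * c⁻¹ := by rw [hcx, hy]; group
        _ = (u * (c * y * c⁻¹)) * u⁻¹ := by rw [hcomm u hu _ hcy, mul_inv_cancel_right]
        _ = _ := by group⟩, fun h1 => hne (conj_eq_one_iff.mp (congrArg Subtype.val h1))⟩)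
      fun h h' hh => by
        rw [QuotientGroup.leftRel_apply, mem_subgroupOf, mem_cent_comm] at hh
        refine Subtype.ext (Subtype.ext ?_)
        have h1 := hh.eq
        show (h : G) * y * (h : G)⁻¹ = h' * y * (h' : G)⁻¹
        simp only [Subgroup.coe_mul, InvMemClass.coe_inv] at h1
        calc (h : G) * y * (h : G)⁻¹
            = h * (y * ((h : G)⁻¹ * h')) * (h' : G)⁻¹ := by group
          _ = _ := by rw [h1]; group
  have hf : Function.Injective f := by
    intro q r
    induction q using QuotientGroup.induction_on with | _ h => ?_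
    induction r using QuotientGroup.induction_on with | _ h' => ?_
    intro hh
    have h1 : (h : G) * y * (h : G)⁻¹ = h' * y * (h' : G)⁻¹ :=
      congrArg (fun g : {g : β.range // g ≠ 1} => ((g : β.range) : G)) hh
    rw [QuotientGroup.eq, mem_subgroupOf, mem_cent_comm, commute_iff_eq]
    simp only [Subgroup.coe_mul, InvMemClass.coe_inv]
    calc y * ((h : G)⁻¹ * h') = (h : G)⁻¹ * (h * y * (h : G)⁻¹) * h' := by group
      _ = _ := by rw [h1]; group
  have hlt : (centralizer ({y} : Set G)).relIndex H < C.relIndex H := by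
    classical
    have := Fintype.ofFinite β.range
    refine lt_of_le_of_lt (Nat.card_le_card_of_injective f hf) ?_
    refine lt_of_lt_of_le ?_ hHC
    rw [Nat.card_eq_fintype_card, Nat.card_eq_fintype_card]
    exact Fintype.card_subtype_lt (x := 1) (by simp)
  calc (centralizer ({y} : Set G)).index
      ≤ (centralizer ({y} : Set G) ⊓ H).index :=
        Nat.le_of_dvd (Nat.pos_of_ne_zero FiniteIndex.index_ne_zero) (index_dvd_of_le inf_le_left)
    _ = (centralizer ({y} : Set G)).relIndex H * H.index := by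
        rw [← relIndex_mul_index (inf_le_right : centralizer ({y} : Set G) ⊓ H ≤ H), inf_relIndex_right]
    _ < C.relIndex H * H.index :=
        Nat.mul_lt_mul_of_pos_right hlt (Nat.pos_of_ne_zero FiniteIndex.index_ne_zero)
    _ = C.index := relIndex_mul_index le_sup_right

/-- The subgroup generated by central elements and elements of smallest non-trivial class has
class at most `3` if there is a self-centralizing normal abelian subgroup. -/
theorem upperCentralSeries_smallClasses (A : Subgroup G) [A.Normal] (hA : IsMulCommutative A)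
    (hCA : centralizer (A : Set G) ≤ A) (m : ℕ)
    (hmin : ∀ x : G, 1 < (centralizer ({x} : Set G)).index → m ≤ (centralizer ({x} : Set G)).index)
    (M : Subgroup G) (hM : M ≤ closure {x : G | (centralizer ({x} : Set G)).index = 1 ∨
      (centralizer ({x} : Set G)).index = m}) :
    Subgroup.upperCentralSeries M 3 = ⊤ := by
  set Z := center G
  -- elements of `M` act on `A` trivially modulo the centre
  have hK : ∀ g ∈ M, ∀ a ∈ A, g * a * g⁻¹ * a⁻¹ ∈ Z := by
    intro g hg
    refine closure_induction (p := fun g _ => ∀ a ∈ A, g * a * g⁻¹ * a⁻¹ ∈ Z) ?_ ?_ ?_ ?_ (hM hg)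
    · rintro x (hx | hx) a ha
      · rw [(mul_inv_eq_one.mpr (mul_inv_eq_iff_eq_mul.mpr
          (mem_center_iff.mp (index_cent_eq_one_iff.mp hx) a).symm))]
        exact one_mem _
      · by_contra hz
        have hne : x * a * x⁻¹ * a⁻¹ ≠ 1 := fun h => hz (h ▸ one_mem _)
        have h1 := index_cent_commutator_lt A hA x a ha hne
        have h2 := hmin _ (one_lt_index_cent hz)
        omega
    · intro a _
      simpa using one_mem Z
    · intro g h _ _ ihg ihh a ha
      have h1 := ihh a ha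
      have h2 := ihg a ha
      convert mul_mem h1 h2 using 1
      calc g * h * a * (g * h)⁻¹ * a⁻¹
          = g * (h * a * h⁻¹ * a⁻¹) * (a * g⁻¹ * a⁻¹) := by group
        _ = (h * a * h⁻¹ * a⁻¹) * g * (a * g⁻¹ * a⁻¹) := by rw [mem_center_iff.mp h1 g]
        _ = _ := by group
    · intro g _ ih a ha
      have h1 := ih a ha
      convert inv_mem h1 using 1
      calc g⁻¹ * a * g⁻¹⁻¹ * a⁻¹
          = g⁻¹ * ((g * a * g⁻¹ * a⁻¹)⁻¹ * g) := by group
        _ = g⁻¹ * (g * (g * a * g⁻¹ * a⁻¹)⁻¹) := by rw [mem_center_iff.mp (inv_mem h1) g]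
        _ = _ := by group
  have hMA : ∀ x ∈ M, ∀ y ∈ M, x * y * x⁻¹ * y⁻¹ ∈ A := by
    intro x hx y hy
    refine hCA (mem_centralizer_iff.mpr fun a ha => ?_)
    have key : ∀ u ∈ M, ∀ v ∈ M, ∀ a ∈ A, u * v * a * (u * v)⁻¹ * a⁻¹ =
        (v * a * v⁻¹ * a⁻¹) * (u * a * u⁻¹ * a⁻¹) := by
      intro u _ v hv a ha
      calc u * v * a * (u * v)⁻¹ * a⁻¹
          = u * (v * a * v⁻¹ * a⁻¹) * (a * u⁻¹ * a⁻¹) := by group
        _ = (v * a * v⁻¹ * a⁻¹) * u * (a * u⁻¹ * a⁻¹) := by
            rw [mem_center_iff.mp (hK v hv a ha) u]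
        _ = _ := by group
    set b := (y * x)⁻¹ * a * (y * x) with hb
    have hbA : b ∈ A := by
      have := (inferInstance : A.Normal).conj_mem _ ha (y * x)⁻¹
      rwa [inv_inv] at this
    have key' : ∀ u ∈ M, ∀ v ∈ M, u * v * b * (u * v)⁻¹ * b⁻¹ =
        (v * b * v⁻¹ * b⁻¹) * (u * b * u⁻¹ * b⁻¹) := fun u hu v hv => key u hu v hv b hbA
    have h1 : x * y * b * (x * y)⁻¹ = y * x * b * (y * x)⁻¹ := by
      refine mul_right_cancel (b := b⁻¹) ?_
      rw [key' x hx y hy, key' y hy x hx, mem_center_iff.mp (hK x hx b hbA)]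
    have h2 : y * x * b * (y * x)⁻¹ = a := by rw [hb]; group
    rw [h2] at h1
    calc a * (x * y * x⁻¹ * y⁻¹)
        = (x * y * b * (x * y)⁻¹) * (x * y * x⁻¹ * y⁻¹) := by rw [h1]
      _ = x * y * x⁻¹ * y⁻¹ * (y * x * b * (y * x)⁻¹) := by group
      _ = _ := by rw [h2]
  refine eq_top_iff.mpr fun x _ => ?_
  rw [Subgroup.mem_upperCentralSeries_succ_iff]
  intro y
  rw [Subgroup.mem_upperCentralSeries_succ_iff]
  intro z
  rw [Subgroup.upperCentralSeries_one, mem_center_iff]
  intro w
  refine Subtype.ext ?_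
  have ha : ((x : G) * y * (x : G)⁻¹ * (y : G)⁻¹) ∈ A := hMA x x.2 y y.2
  have h1 : ((x : G) * y * (x : G)⁻¹ * (y : G)⁻¹) * (z : G) *
      ((x : G) * y * (x : G)⁻¹ * (y : G)⁻¹)⁻¹ * (z : G)⁻¹ ∈ Z := by
    have := inv_mem (hK z z.2 _ ha)
    convert this using 1
    group
  exact mem_center_iff.mp h1 w

end H27
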