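import Cfsg.Agent.H27.ClassBasic
import Cfsg.Agent.H27.SingularGraph

/-! The abelian normal subgroup attached to a class of maximal size (Camina, Itô). -/

set_option autoImplicit false

namespace H27

open Subgroup
open scoped Pointwise

variable {G : Type*} [Group G] [Finite G]

/-- Commuting with two coprime powers. -/
theorem commute_of_pow_coprime {g x : G} {a b : ℕ} (h : a.Coprime b) (ha : Commute g (x ^ a))
    (hb : Commute g (x ^ b)) : Commute g x := by
  have h1 : x = (x ^ a) ^ (Nat.gcdA a b) * (x ^ b) ^ (Nat.gcdB a b) := by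
    rw [← zpow_natCast, ← zpow_natCast x b, ← zpow_mul, ← zpow_mul, ← zpow_add,
      ← Nat.gcd_eq_gcd_ab, h.gcd_eq_one, Nat.cast_one, zpow_one]
  rw [h1]
  exact (ha.zpow_right _).mul_right (hb.zpow_right _)

/-- The order of `v` modulo the centre. -/
noncomputable def ordZ (v : G) : ℕ := orderOf (v : G ⧸ center G)

theorem pow_ordZ_mem (v : G) : v ^ ordZ v ∈ center G :=
  (QuotientGroup.eq_one_iff _).mp (by rw [QuotientGroup.mk_pow]; exact pow_orderOf_eq_one _)

theorem ordZ_dvd_iff {v : G} {N : ℕ} : ordZ v ∣ N ↔ v ^ N ∈ center G := by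
  rw [ordZ, orderOf_dvd_iff_pow_eq_one, ← QuotientGroup.mk_pow, QuotientGroup.eq_one_iff]

theorem commute_center {g z : G} (hz : z ∈ center G) : Commute g z :=
  mem_center_iff.mp hz g

theorem commute_pow_ordZ (g v : G) : Commute g (v ^ ordZ v) := commute_center (pow_ordZ_mem v)

theorem cent_mul_eq_inf {h t : G} (hc : Commute h t) (hco : (ordZ h).Coprime (ordZ t)) :
    centralizer ({h * t} : Set G) = centralizer ({h} : Set G) ⊓ centralizer ({t} : Set G) := by
  refine le_antisymm (fun g hg => ?_) fun g hg => mem_cent_comm.mpr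
    ((mem_cent_comm.mp hg.1).mul_left (mem_cent_comm.mp hg.2))
  have h1 : Commute g (h * t) := (mem_cent_comm.mp hg).symm
  have h2 : Commute g (h ^ ordZ t) := by
    have := (h1.pow_right (ordZ t)).mul_right (commute_center (g := g) (inv_mem (pow_ordZ_mem t)))
    rwa [hc.mul_pow, mul_inv_cancel_right] at this
  have h3 : Commute g h := commute_of_pow_coprime hco (commute_pow_ordZ g h) h2
  have h4 := h3.inv_right.mul_right h1
  rw [inv_mul_cancel_left] at h4
  exact ⟨mem_cent_comm.mpr h3.symm, mem_cent_comm.mpr h4.symm⟩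

/-- Left stabilizer of the class of `a`. -/
noncomputable def classStab (a : G) : Subgroup G :=
  MulAction.stabilizer G ((ConjClasses.mk a).carrier : Set G)

theorem mem_classStab_of_forall {a d : G}
    (h : ∀ s ∈ (ConjClasses.mk a).carrier, d * s ∈ (ConjClasses.mk a).carrier) :
    d ∈ classStab a := by
  rw [classStab, MulAction.mem_stabilizer_iff]
  refine Set.eq_of_subset_of_ncard_le ?_ (by rw [Set.ncard_smul_set])
  rintro _ ⟨s, hs, rfl⟩
  exact h s hs

theorem mul_mem_class_of_mem_classStab {a d : G} (hd : d ∈ classStab a) {s : G}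
    (hs : s ∈ (ConjClasses.mk a).carrier) : d * s ∈ (ConjClasses.mk a).carrier := by
  have := MulAction.mem_stabilizer_iff.mp hd
  rw [← this]
  exact ⟨s, hs, rfl⟩

theorem conj_mem_class {a : G} (g : G) {s : G} (hs : s ∈ (ConjClasses.mk a).carrier) :
    g * s * g⁻¹ ∈ (ConjClasses.mk a).carrier := by
  rw [ConjClasses.mem_carrier_iff_mk_eq] at hs ⊢
  rw [← hs, ConjClasses.mk_eq_mk_iff_isConj]
  exact isConj_iff.mpr ⟨g⁻¹, by group⟩

instance classStab_normal (a : G) : (classStab a).Normal := by
  refine ⟨fun d hd g => mem_classStab_of_forall fun s hs => ?_⟩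
  have := conj_mem_class g (mul_mem_class_of_mem_classStab hd (conj_mem_class g⁻¹ hs))
  convert this using 1
  group

theorem card_classStab_dvd (a : G) :
    Nat.card (classStab a) ∣ (centralizer ({a} : Set G)).index := by
  rw [← card_carrier_eq_index]
  exact card_dvd_of_mul_invariant _ _ fun d hd s hs => mul_mem_class_of_mem_classStab hd hs

/-- The class size of a product of elements with coprime class sizes. -/
theorem index_mul_of_coprime {u a : G}
    (hcop : (centralizer ({u} : Set G)).index.Coprime (centralizer ({a} : Set G)).index) :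
    (centralizer ({u * a} : Set G)).index ∣
      (centralizer ({u} : Set G)).index * (centralizer ({a} : Set G)).index ∧
    (∀ g : G, ∀ s ∈ (ConjClasses.mk a).carrier,
      g * u * g⁻¹ * s ∈ (ConjClasses.mk (u * a)).carrier) ∧
    (centralizer ({a} : Set G)).index ≤ (centralizer ({u * a} : Set G)).index := by
  have h1 : (centralizer ({u * a} : Set G)).index ∣
      (centralizer ({u} : Set G)).index * (centralizer ({a} : Set G)).index := by
    rw [← H1.index_inf_eq_of_coprime _ _ hcop]
    exact index_dvd_of_le fun g hg => mem_cent_comm.mpr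
      ((mem_cent_comm.mp hg.1).mul_left (mem_cent_comm.mp hg.2))
  have h2 : ∀ g : G, ∀ s ∈ (ConjClasses.mk a).carrier,
      g * u * g⁻¹ * s ∈ (ConjClasses.mk (u * a)).carrier := by
    intro g s hs
    rw [ConjClasses.mem_carrier_iff_mk_eq, ConjClasses.mk_eq_mk_iff_isConj] at hs ⊢
    obtain ⟨k, rfl⟩ := isConj_iff.mp hs.symm
    obtain ⟨c, hc', d, hd, hgk⟩ := exists_mul_of_coprime_cent hcop (g⁻¹ * k)
    refine (isConj_iff.mpr ⟨g * c, ?_⟩ : IsConj (u * a) _).symm
    have hda : d * a * d⁻¹ = a := by rw [mem_cent.mp hd, mul_inv_cancel_right]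
    have hcu : c * u * c⁻¹ = u := by rw [mem_cent.mp hc', mul_inv_cancel_right]
    calc g * c * (u * a) * (g * c)⁻¹
        = g * (c * u * c⁻¹) * (c * (d * a * d⁻¹) * c⁻¹) * g⁻¹ := by rw [hda]; group
      _ = g * u * g⁻¹ * (g * (c * d) * a * (g * (c * d))⁻¹) := by rw [hcu]; group
      _ = _ := by rw [← hgk]; group
  refine ⟨h1, h2, ?_⟩
  rw [← card_carrier_eq_index, ← card_carrier_eq_index]
  exact Nat.card_le_card_of_injective
    (fun s : (ConjClasses.mk a).carrier =>
      (⟨u * s, by simpa using h2 1 s s.2⟩ : (ConjClasses.mk (u * a)).carrier))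
    (fun s t h => Subtype.ext (mul_left_cancel (congrArg Subtype.val h)))

/-- `u` has class size prime to that of `a` and does not enlarge it. -/
def IsSmall (a u : G) : Prop :=
  (centralizer ({u} : Set G)).index.Coprime (centralizer ({a} : Set G)).index ∧
    (centralizer ({u * a} : Set G)).index = (centralizer ({a} : Set G)).index

/-- The subgroup generated by the elements small for `a`. -/
def smallSub (a : G) : Subgroup G := closure {u | IsSmall a u}

theorem IsSmall.exists_eq {a u : G} (hu : IsSmall a u) (g : G) {s : G}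
    (hs : s ∈ (ConjClasses.mk a).carrier) :
    ∃ s' ∈ (ConjClasses.mk a).carrier, g * u * g⁻¹ * s = u * s' := by
  obtain ⟨-, h2, -⟩ := index_mul_of_coprime hu.1
  have himg : (fun t => u * t) '' (ConjClasses.mk a).carrier = (ConjClasses.mk (u * a)).carrier := by
    refine Set.eq_of_subset_of_ncard_le ?_ ?_
    · rintro _ ⟨t, ht, rfl⟩; simpa using h2 1 t ht
    · rw [Set.ncard_image_of_injective _ (mul_right_injective u), ← Nat.card_coe_set_eq,
        ← Nat.card_coe_set_eq, card_carrier_eq_index, card_carrier_eq_index, hu.2]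
  have h3 := h2 g s hs
  rw [← himg] at h3
  obtain ⟨t, ht, he⟩ := h3
  exact ⟨t, ht, he.symm⟩

theorem IsSmall.comm_mem {a u : G} (hu : IsSmall a u) (g : G) :
    g * u * g⁻¹ * u⁻¹ ∈ classStab a := by
  have h1 : u⁻¹ * (g * u * g⁻¹) ∈ classStab a := mem_classStab_of_forall fun s hs => by
    obtain ⟨t, ht, he⟩ := hu.exists_eq g hs
    rwa [show u⁻¹ * (g * u * g⁻¹) * s = u⁻¹ * (g * u * g⁻¹ * s) by group, he, inv_mul_cancel_left]
  have h2 := (classStab_normal a).conj_mem _ h1 u
  convert h2 using 1
  group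

theorem IsSmall.conj {a u : G} (hu : IsSmall a u) (g : G) : IsSmall a (g * u * g⁻¹) := by
  refine ⟨by rw [index_cent_conj]; exact hu.1, ?_⟩
  obtain ⟨-, h2, -⟩ := index_mul_of_coprime hu.1
  have h3 := h2 g a (ConjClasses.mem_carrier_iff_mk_eq.mpr rfl)
  rw [ConjClasses.mem_carrier_iff_mk_eq] at h3
  rw [← card_carrier_eq_index, h3, card_carrier_eq_index, hu.2]

theorem isSmall_center {a c : G} (hc : c ∈ center G) : IsSmall a c := by
  refine ⟨by rw [index_cent_eq_one_iff.mpr hc]; exact Nat.coprime_one_left _, ?_⟩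
  congr 1
  ext g
  rw [mem_cent_comm, mem_cent_comm]
  have hcg : Commute c g := (commute_center hc).symm
  refine ⟨fun h => ?_, fun h => hcg.mul_left h⟩
  have h1 := hcg.inv_left.mul_left h
  rwa [inv_mul_cancel_left] at h1

theorem center_le_smallSub (a : G) : center G ≤ smallSub a := fun _ hc =>
  subset_closure (isSmall_center hc)

instance smallSub_normal (a : G) : (smallSub a).Normal := by
  refine ⟨fun v hv g => ?_⟩
  have : smallSub a ≤ (smallSub a).comap (MulAut.conj g).toMonoidHom :=
    (closure_le _).mpr fun u hu => subset_closure (IsSmall.conj hu g)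
  exact this hv

theorem comm_mem_classStab {a v : G} (hv : v ∈ smallSub a) (g : G) :
    g * v * g⁻¹ * v⁻¹ ∈ classStab a := by
  induction hv using closure_induction with
  | mem u hu => exact IsSmall.comm_mem hu g
  | one => simp
  | mul u w _ _ ihu ihw =>
    have := mul_mem ihu ((classStab_normal a).conj_mem _ ihw u)
    convert this using 1
    group
  | inv u _ ihu =>
    have := (classStab_normal a).conj_mem _ (inv_mem ihu) u⁻¹
    convert this using 1
    group

theorem classStab_commute_smallSub {a d v : G} (hd : d ∈ classStab a) (hv : v ∈ smallSub a) :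
    Commute d v := by
  have : smallSub a ≤ centralizer (classStab a : Set G) := by
    refine (closure_le _).mpr fun u hu => mem_centralizer_iff.mpr fun e he => ?_
    have h1 : classStab a ≤ centralizer ({u} : Set G) := by
      rw [← relIndex_eq_one]
      exact Nat.eq_one_of_dvd_coprimes hu.1 (relIndex_dvd_index_right _ _)
        ((relIndex_dvd_card _ _).trans (card_classStab_dvd a))
    exact mem_cent.mp (h1 he)
  exact mem_centralizer_iff.mp (this hv) d hd

/-- The commutator map `v ↦ g v g⁻¹ v⁻¹` on a subgroup centralising its values. -/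
def commHom (M : Subgroup G) (g : G)
    (h : ∀ u ∈ M, ∀ v ∈ M, Commute (g * v * g⁻¹ * v⁻¹) u) : M →* G :=
  MonoidHom.mk' (fun v => g * v * g⁻¹ * (v : G)⁻¹) fun u v => by
    show g * ((u : G) * v) * g⁻¹ * ((u : G) * v)⁻¹ = _
    calc g * ((u : G) * v) * g⁻¹ * ((u : G) * v)⁻¹
        = (g * u * g⁻¹) * ((g * v * g⁻¹ * (v : G)⁻¹) * (u : G)⁻¹) := by group
      _ = (g * u * g⁻¹) * ((u : G)⁻¹ * (g * v * g⁻¹ * (v : G)⁻¹)) := by
          rw [((h u u.2 v v.2).inv_right).eq]
      _ = _ := by group

theorem smallSub_comm {a u v : G} (hu : u ∈ smallSub a) (hv : v ∈ smallSub a) : Commute u v := by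
  have : smallSub a ≤ centralizer (smallSub a : Set G) := by
    refine (closure_le _).mpr fun u hu => mem_centralizer_iff.mpr fun v hv => ?_
    -- `φ v = v u v⁻¹ u⁻¹` is a homomorphism with image in the stabilizer
    let φ : smallSub a →* G :=
      MonoidHom.mk' (fun w => (w : G) * u * (w : G)⁻¹ * u⁻¹) fun v w => by
        have h1 : Commute (v : G) (w * u * (w : G)⁻¹ * u⁻¹) :=
          (classStab_commute_smallSub (IsSmall.comm_mem hu _) v.2).symm
        show (v : G) * w * u * ((v : G) * w)⁻¹ * u⁻¹ = _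
        calc (v : G) * w * u * ((v : G) * w)⁻¹ * u⁻¹
            = v * (w * u * (w : G)⁻¹ * u⁻¹) * (u * (v : G)⁻¹ * u⁻¹) := by group
          _ = (w * u * (w : G)⁻¹ * u⁻¹) * (v * u * (v : G)⁻¹ * u⁻¹) := by rw [h1.eq]; group
          _ = _ := (classStab_commute_smallSub (IsSmall.comm_mem hu _)
              (mul_mem (mul_mem (mul_mem v.2 (subset_closure hu)) (inv_mem v.2))
                (inv_mem (subset_closure hu)))).eq
    have hk : φ.ker = (centralizer ({u} : Set G)).subgroupOf (smallSub a) := by
      ext w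
      rw [MonoidHom.mem_ker, mem_subgroupOf, mem_cent]
      exact mul_inv_eq_one.trans mul_inv_eq_iff_eq_mul
    have h1 : Nat.card φ.range ∣ (centralizer ({u} : Set G)).index := by
      rw [← index_ker, hk]
      exact relIndex_dvd_index_right _ _
    have h2 : Nat.card φ.range ∣ (centralizer ({a} : Set G)).index := by
      refine (card_dvd_of_le (?_ : φ.range ≤ classStab a)).trans (card_classStab_dvd a)
      rintro _ ⟨w, rfl⟩
      exact IsSmall.comm_mem hu w
    have h3 := eq_bot_of_card_eq _ (Nat.eq_one_of_dvd_coprimes hu.1 h1 h2)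
    have h4 : φ ⟨v, hv⟩ = 1 := mem_bot.mp (h3 ▸ ⟨_, rfl⟩ : φ ⟨v, hv⟩ ∈ (⊥ : Subgroup G))
    exact mul_inv_eq_iff_eq_mul.mp (mul_inv_eq_one.mp h4)
  exact (mem_centralizer_iff.mp (this hv) u hu)

theorem smallSub_mem_center {a v : G} (hv : v ∈ smallSub a) {N : ℕ} (hN : v ^ N ∈ center G)
    (hco : N.Coprime (centralizer ({a} : Set G)).index) : v ∈ center G := by
  refine mem_center_iff.mpr fun g => ?_
  set d := g * v * g⁻¹ * v⁻¹ with hd
  have hdS : d ∈ classStab a := comm_mem_classStab hv g
  have h1 : (d * v) ^ N = v ^ N := by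
    rw [show d * v = g * v * g⁻¹ by rw [hd]; group, conj_pow, (commute_center hN).eq,
      mul_inv_cancel_right]
  rw [(classStab_commute_smallSub hdS hv).mul_pow] at h1
  have h2 := mul_eq_right.mp h1
  have h3 : orderOf d ∣ (centralizer ({a} : Set G)).index :=
    (Subgroup.orderOf_dvd_natCard _ hdS).trans (card_classStab_dvd a)
  have h4 := orderOf_eq_one_iff.mp
    (Nat.eq_one_of_dvd_coprimes hco (orderOf_dvd_of_pow_eq_one h2) h3)
  exact mul_inv_eq_iff_eq_mul.mp (mul_inv_eq_one.mp h4)

theorem smallSub_ordZ_coprime {a v : G} (hv : v ∈ smallSub a) {N : ℕ}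
    (hco : N.Coprime (centralizer ({a} : Set G)).index) : (ordZ v).Coprime N := by
  refine Nat.coprime_of_dvd fun r hr h1 h2 => ?_
  obtain ⟨k, hk⟩ := h1
  have h3 : v ^ k ∈ center G := by
    refine smallSub_mem_center (a := a) (pow_mem hv k) (N := r) ?_ (hco.coprime_dvd_left h2)
    rw [← pow_mul, mul_comm, ← hk]
    exact pow_ordZ_mem v
  have hpos : 0 < ordZ v := orderOf_pos _
  rw [hk] at hpos
  have := Nat.le_of_dvd (Nat.pos_of_mul_pos_left hpos) (hk ▸ ordZ_dvd_iff.mpr h3)
  nlinarith [hr.two_le, Nat.pos_of_mul_pos_left hpos]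

theorem index_cent_le_card_classStab {a v : G} (hv : v ∈ smallSub a) :
    (centralizer ({v} : Set G)).index ≤ Nat.card (classStab a) := by
  rw [← card_carrier_eq_index]
  refine Nat.card_le_card_of_injective
    (fun s : (ConjClasses.mk v).carrier => (⟨(s : G) * v⁻¹, ?_⟩ : classStab a))
    fun s t h => Subtype.ext (mul_right_cancel (congrArg Subtype.val h))
  obtain ⟨s, hs⟩ := s
  rw [ConjClasses.mem_carrier_iff_mk_eq, ConjClasses.mk_eq_mk_iff_isConj] at hs
  obtain ⟨g, rfl⟩ := isConj_iff.mp hs.symm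
  exact comm_mem_classStab hv g

end H27
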