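import Cfsg.Agent.H27.SmallSet
import Cfsg.Agent.H27.SameClassSizes
import Cfsg.Agent.H2.FPFSubgroup
import Cfsg.Agent.H2.FrobeniusBasic

/-! Groups whose two largest class sizes are coprime. -/

set_option autoImplicit false

namespace H27

open Subgroup

variable {G : Type*} [Group G] [Finite G]


theorem index_cent_pow_dvd (x : G) (i : ℕ) : (centralizer ({x ^ i} : Set G)).index ∣ (centralizer ({x} : Set G)).index :=
  index_dvd_of_le (cent_le_cent_pow x i)

theorem card_map_mk_mul {N : Subgroup G} [N.Normal] {H : Subgroup G} (h : N ≤ H) :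
    Nat.card (H.map (QuotientGroup.mk' N)) * Nat.card N = Nat.card H := by
  have h1 : Nat.card (H.map (QuotientGroup.mk' N)) = (N.subgroupOf H).index := by
    rw [show N.subgroupOf H = ((QuotientGroup.mk' N).comp H.subtype).ker by
      ext x; simp [mem_subgroupOf], index_ker, MonoidHom.range_comp, range_subtype]
  rw [h1, ← Nat.card_congr (subgroupOfEquivOfLe h).toEquiv, mul_comm]
  exact card_mul_index _

theorem exists_not_mem_prime_power {K : Subgroup G} [K.Normal] (hK : center G ≤ K) {g : G}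
    (hg : g ∉ K) :
    ∃ (i r t : ℕ), r.Prime ∧ g ^ i ∉ K ∧ ordZ (g ^ i) ∣ r ^ t ∧ orderOf (g ^ i) ∣ r ^ t := by
  have hne : orderOf (g : G ⧸ K) ≠ 1 := fun h =>
    hg ((QuotientGroup.eq_one_iff g).mp (orderOf_eq_one_iff.mp h))
  obtain ⟨r, hr, hrk⟩ := Nat.exists_prime_and_dvd hne
  obtain ⟨t, m, hm, hgo⟩ := Nat.exists_eq_pow_mul_and_not_dvd (orderOf_pos g).ne' r hr.ne_one
  have h1 : (g ^ m) ^ (r ^ t) = 1 := by rw [← pow_mul, mul_comm, ← hgo, pow_orderOf_eq_one]
  refine ⟨m, r, t, hr, fun h => hm (hrk.trans ?_), ?_, orderOf_dvd_of_pow_eq_one h1⟩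
  · rw [orderOf_dvd_iff_pow_eq_one, ← QuotientGroup.mk_pow]
    exact (QuotientGroup.eq_one_iff _).mpr h
  · rw [ordZ_dvd_iff, h1]
    exact one_mem _

theorem isCoprime_ordZ_of_prime_pow {w : G} {r t N : ℕ} (hr : r.Prime) (hw : ordZ w ∣ r ^ t)
    (h : ¬ r ∣ N) : (ordZ w).Coprime N :=
  Nat.Coprime.coprime_dvd_left hw ((hr.coprime_iff_not_dvd.mpr h).pow_left t)

section Camina

variable {m n : ℕ} (hmn : n < m) (hn : 1 < n) (hcop : m.Coprime n) (htop : ∀ z : G, (centralizer ({z} : Set G)).index ≤ m)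
  (hsecond : ∀ z : G, (centralizer ({z} : Set G)).index < m → (centralizer ({z} : Set G)).index ≤ n)

include hn hcop

theorem not_dvd_of_index {p : ℕ} (hp : p.Prime) (hpn : p ∣ n) : ¬ p ∣ m := fun h =>
  hp.one_lt.ne' (Nat.eq_one_of_dvd_coprimes hcop h hpn)

theorem not_dvd_m : ¬ n ∣ m := fun h => hn.ne' (Nat.eq_one_of_dvd_coprimes hcop h dvd_rfl)

include htop hsecond

/-- An element commuting with one of class size `n`, of order prime to `m` modulo the centre, is
central. -/
theorem central_of_commute_x {x y w : G} (hx : (centralizer ({x} : Set G)).index = n) (hy : (centralizer ({y} : Set G)).index = m)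
    (hw : Commute x w) (hco : (ordZ w).Coprime m) : w ∈ center G := by
  have hxs : IsSmall y x := by
    have h0 : ((centralizer ({x} : Set G)).index).Coprime ((centralizer ({y} : Set G)).index) := by rw [hx, hy]; exact hcop.symm
    exact ⟨h0, hy.symm ▸ le_antisymm (htop _) (hy ▸ (index_mul_of_coprime h0).2.2)⟩
  have hxM : x ∈ smallSub y := subset_closure hxs
  have hco' := smallSub_ordZ_coprime hxM (N := ordZ w) (hy ▸ hco)
  have hinf := cent_mul_eq_inf hw hco'
  have hdvd : n ∣ (centralizer ({x * w} : Set G)).index := hx ▸ index_dvd_of_le (hinf.le.trans inf_le_left)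
  have hne : (centralizer ({x * w} : Set G)).index ≠ m := fun h => not_dvd_m hn hcop (h ▸ hdvd)
  have hle : (centralizer ({x * w} : Set G)).index ≤ n := hsecond _ (lt_of_le_of_ne (htop _) hne)
  have heq : (centralizer ({x * w} : Set G)).index = n := le_antisymm hle (Nat.le_of_dvd (cent_pos _) hdvd)
  have hwd : (centralizer ({w} : Set G)).index ∣ n := heq ▸ index_dvd_of_le (hinf.le.trans inf_le_right)
  have h0 : ((centralizer ({w} : Set G)).index).Coprime ((centralizer ({y} : Set G)).index) := hy ▸ hcop.symm.coprime_dvd_left hwd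
  have hws : IsSmall y w :=
    ⟨h0, hy.symm ▸ le_antisymm (htop _) (hy ▸ (index_mul_of_coprime h0).2.2)⟩
  exact smallSub_mem_center (subset_closure hws) (pow_ordZ_mem w) (hy ▸ hco)

include hmn

theorem isSmall_x {x v : G} (hx : (centralizer ({x} : Set G)).index = n) (hv : ((centralizer ({v} : Set G)).index).Coprime n) (hvm : (centralizer ({v} : Set G)).index < m) :
    IsSmall x v := by
  have h0 : ((centralizer ({v} : Set G)).index).Coprime ((centralizer ({x} : Set G)).index) := hx ▸ hv
  obtain ⟨h1, -, h3⟩ := index_mul_of_coprime h0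
  refine ⟨h0, ?_⟩
  rw [hx] at h1 h3 ⊢
  refine le_antisymm (hsecond _ (lt_of_le_of_ne (htop _) fun h => ?_)) h3
  rw [h] at h1
  exact absurd (Nat.le_of_dvd (cent_pos v) (hcop.dvd_of_dvd_mul_right h1)) (not_le.mpr hvm)

/-- Some element with class size `m` is a `q`-element modulo the centre for a prime `q ∣ n`. -/
theorem exists_good_y {x y : G} (hx : (centralizer ({x} : Set G)).index = n) (hy : (centralizer ({y} : Set G)).index = m) :
    ∃ (y' : G) (q t : ℕ), q.Prime ∧ q ∣ n ∧ (centralizer ({y'} : Set G)).index = m ∧ ordZ y' ∣ q ^ t ∧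
      centralizer ({y} : Set G) ≤ centralizer ({y'} : Set G) := by
  have hyM : y ∉ smallSub x := by
    intro h
    have h1 := (index_cent_le_card_classStab h).trans
      (Nat.le_of_dvd (cent_pos x) (card_classStab_dvd x))
    rw [hx, hy] at h1
    omega
  obtain ⟨i, r, t, hr, hi, hord, hordG⟩ := exists_not_mem_prime_power (center_le_smallSub x) hyM
  have hd : (centralizer ({y ^ i} : Set G)).index ∣ m := hy ▸ index_cent_pow_dvd y i
  have hy1 : (centralizer ({y ^ i} : Set G)).index = m := by
    by_contra h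
    exact hi (subset_closure (isSmall_x hmn hn hcop htop hsecond hx (hcop.coprime_dvd_left hd)
      (lt_of_le_of_ne (htop _) h)))
  have hyle := cent_le_cent_pow y i
  set y1 := y ^ i
  obtain ⟨q, hq, hqn⟩ := Nat.exists_prime_and_dvd hn.ne'
  by_cases hrm : r ∣ m
  swap
  · by_cases hrn : r ∣ n
    · exact ⟨y1, r, t, hr, hrn, hy1, hord, hyle⟩
    -- `y1` is conjugate into the centralizer of `x`
    exfalso
    have := Fact.mk hr
    obtain ⟨j, -, hj⟩ := (Nat.dvd_prime_pow hr).mp hordG
    obtain ⟨S, hS⟩ := exists_sylow_le_of_not_dvd_index (p := r)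
      (show ¬ r ∣ (centralizer ({x} : Set G)).index by rw [hx]; exact hrn)
    obtain ⟨T, hT⟩ := (IsPGroup.of_card (p := r) (G := zpowers y1) (n := j)
      (by rw [Nat.card_zpowers, hj])).exists_le_sylow
    obtain ⟨g, hg⟩ := MulAction.exists_smul_eq G T S
    have hga : g * y1 * g⁻¹ ∈ centralizer ({x} : Set G) := by
      refine hS ?_
      rw [← hg, Sylow.coe_subgroup_smul]
      exact mem_map_of_mem (MulAut.conj g).toMonoidHom (hT (mem_zpowers y1))
    have hca : (ordZ (g * y1 * g⁻¹)).Coprime m := by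
      refine isCoprime_ordZ_of_prime_pow hr (t := j) ?_ hrm
      rw [ordZ_dvd_iff, conj_pow, ← hj, pow_orderOf_eq_one]
      simp
    have hacen := central_of_commute_x hn hcop htop hsecond hx hy1 (mem_cent_comm.mp hga) hca
    have h5 : (centralizer ({g * y1 * g⁻¹} : Set G)).index = 1 := index_cent_eq_one_iff.mpr hacen
    rw [index_cent_conj, hy1] at h5
    omega
  -- `r ∣ m`: pass to a `q`-element in the centralizer
  have := Fact.mk hq
  have hqm := not_dvd_of_index hn hcop hq hqn
  obtain ⟨Q, hQ⟩ := exists_sylow_le_of_not_dvd_index (p := q)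
    (show ¬ q ∣ (centralizer ({y1} : Set G)).index by rw [hy1]; exact hqm)
  have hrn : ¬ r ∣ n := fun h => hr.one_lt.ne' (Nat.eq_one_of_dvd_coprimes hcop hrm h)
  by_contra hcon
  have hQc : ∀ s ∈ (Q : Subgroup G), s ∈ center G := by
    intro s hs
    obtain ⟨j, hj⟩ := IsPGroup.iff_orderOf.mp Q.isPGroup' ⟨s, hs⟩
    rw [orderOf_mk] at hj
    have hsord : ordZ s ∣ q ^ j := ordZ_dvd_iff.mpr (by rw [← hj, pow_orderOf_eq_one]; exact one_mem _)
    have hco : (ordZ y1).Coprime (ordZ s) :=
      Nat.Coprime.coprime_dvd_left hord (Nat.Coprime.coprime_dvd_right hsord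
        (((Nat.coprime_primes hr hq).mpr fun h => hrn (h ▸ hqn)).pow t j))
    have hinf := cent_mul_eq_inf (mem_cent_comm.mp (hQ hs)) hco
    have heq : (centralizer ({y1 * s} : Set G)).index = m := le_antisymm (htop _)
      (Nat.le_of_dvd (cent_pos _) (hy1 ▸ index_dvd_of_le (hinf.le.trans inf_le_left)))
    have hle : centralizer ({y1} : Set G) ≤ centralizer ({s} : Set G) := by
      have h1 : centralizer ({y1 * s} : Set G) = centralizer ({y1} : Set G) := by
        refine eq_of_le_of_card_ge (hinf.le.trans inf_le_left) (le_of_eq ?_)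
        refine Nat.eq_of_mul_eq_mul_right (cent_pos y1) ?_
        rw [card_cent_mul_index, hy1, ← heq, card_cent_mul_index]
      exact h1 ▸ hinf.le.trans inf_le_right
    have hsd : (centralizer ({s} : Set G)).index ∣ m := hy1 ▸ index_dvd_of_le hle
    by_cases hsm : (centralizer ({s} : Set G)).index = m
    · exact absurd ⟨s, q, j, hq, hqn, hsm, hsord, hyle.trans hle⟩ hcon
    have hsM : s ∈ smallSub x := subset_closure (isSmall_x hmn hn hcop htop hsecond hx
      (hcop.coprime_dvd_left hsd) (lt_of_le_of_ne (htop _) hsm))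
    have hxs : IsSmall y1 x := by
      have h0 : ((centralizer ({x} : Set G)).index).Coprime ((centralizer ({y1} : Set G)).index) := by rw [hx, hy1]; exact hcop.symm
      exact ⟨h0, hy1.symm ▸ le_antisymm (htop _) (hy1 ▸ (index_mul_of_coprime h0).2.2)⟩
    have h1 : s * x * s⁻¹ * x⁻¹ ∈ classStab y1 := IsSmall.comm_mem hxs s
    have h2 : s * x * s⁻¹ * x⁻¹ ∈ classStab x := by
      have := inv_mem (comm_mem_classStab hsM x)
      convert this using 1
      group
    have h3 : s * x * s⁻¹ * x⁻¹ = 1 := by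
      refine orderOf_eq_one_iff.mp (Nat.eq_one_of_dvd_coprimes hcop ?_ ?_)
      · exact hy1 ▸ (Subgroup.orderOf_dvd_natCard _ h1).trans (card_classStab_dvd y1)
      · exact hx ▸ (Subgroup.orderOf_dvd_natCard _ h2).trans (card_classStab_dvd x)
    exact central_of_commute_x hn hcop htop hsecond hx hy1
      (Commute.symm (mul_inv_eq_iff_eq_mul.mp (mul_inv_eq_one.mp h3)))
      (isCoprime_ordZ_of_prime_pow hq hsord hqm)
  refine Q.not_dvd_index ((hqn.trans (dvd_of_eq hx.symm)).trans (index_dvd_of_le fun s hs => ?_))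
  exact mem_cent_comm.mpr (commute_center (hQc s hs))

end Camina

end H27
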