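import Cfsg.Agent.H27.TwoLargest
import Cfsg.Agent.H18.Basic

/-! The structure theorem for coprime two largest class sizes. -/

set_option autoImplicit false

namespace H27

open Subgroup

variable {G : Type*} [Group G] [Finite G]

theorem ordZ_conj_dvd {g v : G} {N : ℕ} (h : ordZ v ∣ N) : ordZ (g * v * g⁻¹) ∣ N := by
  rw [ordZ_dvd_iff] at h ⊢
  rw [conj_pow]
  exact (inferInstance : (center G).Normal).conj_mem _ h g

/-- Cardinality of centralizers modulo the centre. -/
theorem card_centMap_mul (v : G) :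
    Nat.card ((centralizer ({v} : Set G)).map (QuotientGroup.mk' (center G))) *
      (centralizer ({v} : Set G)).index = (center G).index := by
  refine Nat.eq_of_mul_eq_mul_right (Nat.card_pos (α := center G)) ?_
  rw [mul_right_comm, card_map_mk_mul (center_le_centralizer _), card_cent_mul_index,
    mul_comm _ (Nat.card _), card_mul_index]

theorem ordZ_dvd_card_map {v : G} {H : Subgroup G} (hv : v ∈ H) :
    ordZ v ∣ Nat.card (H.map (QuotientGroup.mk' (center G))) :=
  Subgroup.orderOf_dvd_natCard _ (mem_map_of_mem (QuotientGroup.mk' (center G)) hv)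

theorem exists_prime_ordZ {v : G} (hv : v ∉ center G) :
    ∃ r i : ℕ, r.Prime ∧ r ∣ ordZ v ∧ v ^ i ∉ center G ∧ ordZ (v ^ i) ∣ r := by
  have hne : ordZ v ≠ 1 := fun h => hv (by simpa [h] using pow_ordZ_mem v)
  obtain ⟨r, hr, k, hk⟩ := Nat.exists_prime_and_dvd hne
  have hpos : 0 < ordZ v := orderOf_pos _
  refine ⟨r, k, hr, ⟨k, hk⟩, fun h => ?_, ?_⟩
  · have h1 := Nat.le_of_dvd (Nat.pos_of_mul_pos_left (hk ▸ hpos)) (ordZ_dvd_iff.mpr h)
    rw [hk] at h1
    nlinarith [hr.two_le, Nat.pos_of_mul_pos_left (hk ▸ hpos)]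
  · rw [ordZ_dvd_iff, ← pow_mul, mul_comm, ← hk]
    exact pow_ordZ_mem v

section Main

variable {m n : ℕ} (hmn : n < m) (hn : 1 < n) (hcop : m.Coprime n)
  (htop : ∀ z : G, (centralizer ({z} : Set G)).index ≤ m)
  (hsecond : ∀ z : G, (centralizer ({z} : Set G)).index < m →
    (centralizer ({z} : Set G)).index ≤ n)
  {x y : G} (hx : (centralizer ({x} : Set G)).index = n)
  (hy : (centralizer ({y} : Set G)).index = m)

include hmn hn hcop htop hsecond hx hy

theorem isSmall_of_index_x : IsSmall y x := by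
  have h0 : (centralizer ({x} : Set G)).index.Coprime (centralizer ({y} : Set G)).index := by
    rw [hx, hy]; exact hcop.symm
  exact ⟨h0, hy.symm ▸ le_antisymm (htop _) (hy ▸ (index_mul_of_coprime h0).2.2)⟩

theorem cent_inf_cent_eq_center :
    centralizer ({x} : Set G) ⊓ centralizer ({y} : Set G) = center G := by
  refine le_antisymm (fun w hw => ?_) (le_inf (center_le_centralizer _) (center_le_centralizer _))
  by_contra hwZ
  obtain ⟨y', q, t, hq, hqn, hy', hyord, hle⟩ := exists_good_y hmn hn hcop htop hsecond hx hy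
  obtain ⟨r, i, hr, -, hwi, hord⟩ := exists_prime_ordZ hwZ
  have hwx : w ^ i ∈ centralizer ({x} : Set G) := pow_mem hw.1 i
  have hwy : w ^ i ∈ centralizer ({y'} : Set G) := pow_mem (hle hw.2) i
  set u := w ^ i
  by_cases hrm : r ∣ m
  swap
  · exact hwi (central_of_commute_x hn hcop htop hsecond hx hy (mem_cent_comm.mp hwx)
      (Nat.Coprime.coprime_dvd_left hord (hr.coprime_iff_not_dvd.mpr hrm)))
  have hrq : q ≠ r := fun h => not_dvd_of_index hn hcop hq hqn (h ▸ hrm)
  have hco : (ordZ y').Coprime (ordZ u) := Nat.Coprime.coprime_dvd_left hyord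
    (Nat.Coprime.coprime_dvd_right hord (((Nat.coprime_primes hq hr).mpr hrq).pow_left t))
  have hinf := cent_mul_eq_inf (mem_cent_comm.mp hwy) hco
  have h1 : centralizer ({y' * u} : Set G) = centralizer ({y'} : Set G) := by
    refine eq_of_le_of_card_ge (hinf.le.trans inf_le_left) (le_of_eq ?_)
    refine Nat.eq_of_mul_eq_mul_right (cent_pos y') ?_
    have heq : (centralizer ({y' * u} : Set G)).index = (centralizer ({y'} : Set G)).index :=
      le_antisymm (hy' ▸ htop _)
        (Nat.le_of_dvd (cent_pos _) (index_dvd_of_le (hinf.le.trans inf_le_left)))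
    rw [card_cent_mul_index, ← heq, card_cent_mul_index]
  have h2 : centralizer ({y'} : Set G) ≤ centralizer ({u} : Set G) :=
    h1 ▸ hinf.le.trans inf_le_right
  have hd : (centralizer ({u} : Set G)).index ∣ m := hy' ▸ index_dvd_of_le h2
  have hxu : x ∈ centralizer ({u} : Set G) := mem_cent_symm.mp hwx
  have hne : (centralizer ({u} : Set G)).index ≠ m := by
    intro h
    have h3 : centralizer ({y'} : Set G) = centralizer ({u} : Set G) :=
      eq_of_le_of_card_ge h2 (le_of_eq (Nat.eq_of_mul_eq_mul_right (cent_pos y')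
        (by rw [card_cent_mul_index, hy', ← h, card_cent_mul_index])))
    have h4 : Commute x y' := (mem_cent_comm.mp (h3 ▸ hxu)).symm
    have h5 : centralizer ({y'} : Set G) ≤ centralizer ({x} : Set G) → False := fun h =>
      not_dvd_m hn hcop (hx ▸ hy' ▸ index_dvd_of_le h)
    -- `y'` centralises `x`, so it is central
    have h6 := central_of_commute_x hn hcop htop hsecond hx hy h4
      (isCoprime_ordZ_of_prime_pow hq hyord (not_dvd_of_index hn hcop hq hqn))
    rw [index_cent_eq_one_iff.mpr h6] at hy'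
    omega
  have hsm : u ∈ smallSub x := subset_closure (isSmall_x hmn hn hcop htop hsecond hx
    (hcop.coprime_dvd_left hd) (lt_of_le_of_ne (htop _) hne))
  exact hwi (smallSub_mem_center hsm (ordZ_dvd_iff.mp hord)
    (hx ▸ hr.coprime_iff_not_dvd.mpr fun h =>
      hr.one_lt.ne' (Nat.eq_one_of_dvd_coprimes hcop hrm h)))

theorem index_center_eq : (center G).index = m * n := by
  rw [← cent_inf_cent_eq_center hmn hn hcop htop hsecond hx hy,
    H1.index_inf_eq_of_coprime _ _ (by rw [hx, hy]; exact hcop.symm), hx, hy, mul_comm]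

theorem card_centMap_y :
    Nat.card ((centralizer ({y} : Set G)).map (QuotientGroup.mk' (center G))) = n := by
  have h := card_centMap_mul y
  rw [hy, index_center_eq hmn hn hcop htop hsecond hx hy, mul_comm m n] at h
  exact Nat.eq_of_mul_eq_mul_right (by omega) h

theorem card_centMap_x :
    Nat.card ((centralizer ({x} : Set G)).map (QuotientGroup.mk' (center G))) = m := by
  have h := card_centMap_mul x
  rw [hx, index_center_eq hmn hn hcop htop hsecond hx hy] at h
  exact Nat.eq_of_mul_eq_mul_right (by omega) h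

theorem pow_n_mem_center {t : G} (ht : t ∈ centralizer ({y} : Set G)) : t ^ n ∈ center G :=
  ordZ_dvd_iff.mp (card_centMap_y hmn hn hcop htop hsecond hx hy ▸ ordZ_dvd_card_map ht)

omit hmn hn htop hsecond hx in
/-- Elements of `smallSub y` with a power prime to `m` in the centre are central. -/
theorem mem_center_of_small {v : G} (hv : v ∈ smallSub y) (h : v ^ n ∈ center G) :
    v ∈ center G := smallSub_mem_center hv h (hy ▸ hcop.symm)

theorem fpf {t h : G} (ht : t ∈ centralizer ({y} : Set G)) (htZ : t ∉ center G)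
    (hh : h ∈ smallSub y) (hc : Commute h t) : h ∈ center G := by
  classical
  by_contra hhZ
  set M := smallSub y
  have hxM : x ∈ M := subset_closure (isSmall_of_index_x hmn hn hcop htop hsecond hx hy)
  have htn := pow_n_mem_center hmn hn hcop htop hsecond hx hy ht
  -- the norm of `x` for the action of `t`
  letI : CommGroup M := { (inferInstance : Group M) with
    mul_comm := fun a b => Subtype.ext (smallSub_comm a.2 b.2).eq }
  let φ : ℕ → M →* M := fun i => (MulAut.conjNormal (H := M) (t ^ i)).toMonoidHom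
  let N : M →* M := ∏ i ∈ Finset.range n, φ i
  have hφ : ∀ i (v : M), ((φ i v : M) : G) = t ^ i * v * (t ^ i)⁻¹ := fun i v =>
    MulAut.conjNormal_apply _ _
  have hNt : ∀ v : M, φ 1 (N v) = N v := by
    intro v
    have h1 : ∀ i, φ 1 (φ i v) = φ (i + 1) v := fun i => Subtype.ext (by
      rw [hφ, hφ, hφ, pow_one, pow_succ']; group)
    have h2 : φ n v = φ 0 v := Subtype.ext (by
      rw [hφ, hφ, pow_zero, ((commute_center (g := (v : G)) htn).symm).eq, mul_inv_cancel_right]
      simp)
    simp only [N, MonoidHom.finsetProd_apply, map_prod, h1]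
    have h3 := Finset.prod_range_succ' (fun i => φ i v) n
    have h4 := Finset.prod_range_succ (fun i => φ i v) n
    rw [h3, h2] at h4
    exact mul_right_cancel h4
  set h0 : G := if ((N ⟨x, hxM⟩ : M) : G) ∈ center G then h else ((N ⟨x, hxM⟩ : M) : G)
  have hh0 : h0 ∈ M ∧ h0 ∉ center G ∧ Commute h0 t := by
    simp only [h0]
    split
    · exact ⟨hh, hhZ, hc⟩
    · next hN =>
      refine ⟨(N ⟨x, hxM⟩).2, hN, ?_⟩
      have h1 : t * ((N ⟨x, hxM⟩ : M) : G) * t⁻¹ = ((N ⟨x, hxM⟩ : M) : G) := by
        have := congrArg Subtype.val (hNt ⟨x, hxM⟩)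
        rwa [hφ, pow_one] at this
      exact (mul_inv_eq_iff_eq_mul.mp h1).symm
  obtain ⟨hh0M, hh0Z, hh0t⟩ := hh0
  have hco : (ordZ h0).Coprime (ordZ t) :=
    (smallSub_ordZ_coprime hh0M (N := n) (hy ▸ hcop.symm)).coprime_dvd_right
      (ordZ_dvd_iff.mpr htn)
  have hinf := cent_mul_eq_inf hh0t hco
  set U := centralizer ({h0 * t} : Set G)
  have hne : U.index ≠ m := by
    intro hU
    have hcard := card_centMap_mul (h0 * t)
    rw [hU, index_center_eq hmn hn hcop htop hsecond hx hy, mul_comm m n] at hcard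
    have h1 : ordZ h0 ∣ n := by
      refine (Nat.eq_of_mul_eq_mul_right (by omega) hcard) ▸ ordZ_dvd_card_map ?_
      exact hinf.ge ⟨mem_cent_comm.mpr (Commute.refl h0), mem_cent_comm.mpr hh0t.symm⟩
    exact hh0Z (mem_center_of_small hcop hy hh0M (ordZ_dvd_iff.mp h1))
  have hUn : U.index ≤ n := hsecond _ (lt_of_le_of_ne (htop _) hne)
  -- the commutator map of `t`
  let ψ : M →* G := commHom M t fun u hu v hv =>
    classStab_commute_smallSub (comm_mem_classStab hv t) hu
  have hψker : ∀ v w : M, ψ v = ψ w → Commute (((w⁻¹ * v : M)) : G) t := by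
    intro v w hvw
    have h1 : ψ (w⁻¹ * v) = 1 := by rw [map_mul, map_inv, hvw, inv_mul_cancel]
    exact (mul_inv_eq_iff_eq_mul.mp (mul_inv_eq_one.mp h1)).symm
  set i := Nat.card ψ.range
  have him : i ∣ m := by
    refine (card_dvd_of_le (?_ : ψ.range ≤ classStab y)).trans (hy ▸ card_classStab_dvd y)
    rintro _ ⟨v, rfl⟩
    exact comm_mem_classStab v.2 t
  have hit : i ∣ (centralizer ({t} : Set G)).index := by
    have h1 : ψ.ker = (centralizer ({t} : Set G)).subgroupOf M := by
      ext v
      rw [MonoidHom.mem_ker, mem_subgroupOf, mem_cent_comm]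
      exact mul_inv_eq_one.trans mul_inv_eq_iff_eq_mul
    rw [show i = ψ.ker.index from (index_ker ψ).symm, h1]
    exact relIndex_dvd_index_right _ _
  have hconjM : ∀ u : G, u * x * u⁻¹ ∈ M := fun u => (inferInstance : M.Normal).conj_mem _ hxM u
  have hψne : ∀ u ∈ centralizer ({t} : Set G), ψ ⟨u * x * u⁻¹, hconjM u⟩ ≠ 1 := by
    intro u hu h1
    have h2 : Commute (u * x * u⁻¹) t :=
      (mul_inv_eq_iff_eq_mul.mp (mul_inv_eq_one.mp h1)).symm
    have hut : Commute u t := (mem_cent_comm.mp hu).symm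
    have h3 : Commute x t := by
      rw [commute_iff_eq] at h2 ⊢
      calc x * t = u⁻¹ * (u * x * u⁻¹ * t) * u := by
            rw [show u⁻¹ * (u * x * u⁻¹ * t) * u = x * (u⁻¹ * (t * u)) by group, ← hut.eq,
              inv_mul_cancel_left]
        _ = _ := by
            rw [h2, show u⁻¹ * (t * (u * x * u⁻¹)) * u = u⁻¹ * (t * u) * x by group, ← hut.eq,
              inv_mul_cancel_left]
    exact htZ (central_of_commute_x hn hcop htop hsecond hx hy h3
      (hcop.symm.coprime_dvd_left (ordZ_dvd_iff.mpr htn)))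
  set W := (centralizer ({x} : Set G)).subgroupOf U
  have hUt : U ≤ centralizer ({t} : Set G) := hinf.le.trans inf_le_right
  let f : U ⧸ W → {g : ψ.range // g ≠ 1} := fun c =>
    Quotient.liftOn' c (fun u => ⟨⟨ψ ⟨u * x * (u : G)⁻¹, hconjM u⟩, ⟨_, rfl⟩⟩,
      fun h1 => hψne u (hUt u.2) (congrArg Subtype.val h1)⟩) fun u u' huu => by
      rw [QuotientGroup.leftRel_apply, mem_subgroupOf, mem_cent_comm, commute_iff_eq,
        Subgroup.coe_mul, InvMemClass.coe_inv] at huu
      refine Subtype.ext (Subtype.ext (congrArg ψ (Subtype.ext ?_)))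
      show (u : G) * x * (u : G)⁻¹ = u' * x * (u' : G)⁻¹
      calc (u : G) * x * (u : G)⁻¹ = u * (x * ((u : G)⁻¹ * u')) * (u' : G)⁻¹ := by group
        _ = _ := by rw [huu]; group
  have hf : Function.Injective f := by
    intro a b
    induction a using QuotientGroup.induction_on with | _ u => ?_
    induction b using QuotientGroup.induction_on with | _ u' => ?_
    intro he
    have h1 := hψker _ _ (congrArg (fun g : {g : ψ.range // g ≠ 1} => ((g : ψ.range) : G)) he)
    set A : M := ⟨(u : G) * x * (u : G)⁻¹, hconjM u⟩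
    set B : M := ⟨(u' : G) * x * (u' : G)⁻¹, hconjM u'⟩
    have hcomm : ∀ u : U, ∀ v : M, ((N (MulAut.conjNormal (u : G) v) : M) : G) =
        u * (N v : M) * (u : G)⁻¹ := by
      intro u v
      have hut : Commute (u : G) t := (mem_cent_comm.mp (hUt u.2)).symm
      have h1 : ∀ i, φ i (MulAut.conjNormal (u : G) v) = MulAut.conjNormal (u : G) (φ i v) :=
        fun i => Subtype.ext (by
          rw [hφ, MulAut.conjNormal_apply, MulAut.conjNormal_apply, hφ]
          have hc' := (hut.pow_right i).eq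
          calc t ^ i * ((u : G) * v * (u : G)⁻¹) * (t ^ i)⁻¹
              = (t ^ i * u) * v * (t ^ i * u)⁻¹ := by group
            _ = _ := by rw [← hc']; group)
      simp only [N, MonoidHom.finsetProd_apply, h1, ← map_prod, MulAut.conjNormal_apply]
    have hA : ∀ u : U, N ⟨u * x * (u : G)⁻¹, hconjM u⟩ = N ⟨x, hxM⟩ := by
      intro u
      refine Subtype.ext ?_
      rw [show (⟨u * x * (u : G)⁻¹, hconjM u⟩ : M) = MulAut.conjNormal (u : G) ⟨x, hxM⟩ from
        Subtype.ext (by rw [MulAut.conjNormal_apply]), hcomm]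
      by_cases hN : ((N ⟨x, hxM⟩ : M) : G) ∈ center G
      · rw [(commute_center hN).eq, mul_inv_cancel_right]
      · have hu : (u : G) ∈ centralizer ({h0} : Set G) := hinf.le.trans inf_le_left u.2
        simp only [h0, hN, if_false] at hu
        rw [mem_cent.mp hu, mul_inv_cancel_right]
    have hD : N (B⁻¹ * A) = 1 := by
      rw [map_mul, map_inv, show N A = _ from hA u, show N B = _ from hA u', inv_mul_cancel]
    have hDn : (B⁻¹ * A) ^ n = 1 := by
      rw [← hD]
      have : ∀ i ∈ Finset.range n, φ i (B⁻¹ * A) = B⁻¹ * A := fun i _ => Subtype.ext (by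
        rw [hφ, ((h1.pow_right i).symm).eq, mul_inv_cancel_right])
      simp only [N, MonoidHom.finsetProd_apply, Finset.prod_congr rfl this, Finset.prod_const,
        Finset.card_range]
    have hDS : ((B⁻¹ * A : M) : G) ∈ classStab y := by
      have h2 := comm_mem_classStab hxM (u : G)
      have h3 := comm_mem_classStab hxM (u' : G)
      have h4 : ((B⁻¹ * A : M) : G) = x⁻¹ * (((u' : G) * x * (u' : G)⁻¹ * x⁻¹)⁻¹ *
          ((u : G) * x * (u : G)⁻¹ * x⁻¹)) * x⁻¹⁻¹ := by
        show ((u' : G) * x * (u' : G)⁻¹)⁻¹ * ((u : G) * x * (u : G)⁻¹) = _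
        group
      rw [h4]
      exact (classStab_normal y).conj_mem _ (mul_mem (inv_mem h3) h2) x⁻¹
    have hD1 : ((B⁻¹ * A : M) : G) = 1 := by
      refine orderOf_eq_one_iff.mp (Nat.eq_one_of_dvd_coprimes hcop.symm ?_ ?_)
      · exact orderOf_dvd_of_pow_eq_one (by rw [← SubmonoidClass.coe_pow, hDn]; rfl)
      · exact hy ▸ (Subgroup.orderOf_dvd_natCard _ hDS).trans (card_classStab_dvd y)
    have hAB : (A : G) = B := inv_mul_eq_one.mp hD1 |>.symm
    rw [QuotientGroup.eq, mem_subgroupOf, mem_cent_comm, commute_iff_eq, Subgroup.coe_mul,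
      InvMemClass.coe_inv]
    calc x * ((u : G)⁻¹ * u') = (u : G)⁻¹ * ((u : G) * x * (u : G)⁻¹) * u' := by group
      _ = (u : G)⁻¹ * ((u' : G) * x * (u' : G)⁻¹) * u' := by
          rw [show (u : G) * x * (u : G)⁻¹ = (u' : G) * x * (u' : G)⁻¹ from hAB]
      _ = _ := by group
  have horb : W.index < i := by
    have := Fintype.ofFinite ψ.range
    refine lt_of_le_of_lt (Nat.card_le_card_of_injective f hf) ?_
    rw [show i = Nat.card ψ.range from rfl, Nat.card_eq_fintype_card, Nat.card_eq_fintype_card]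
    exact Fintype.card_subtype_lt (x := 1) (by simp)
  -- the intersection of the two centralizers
  set X := centralizer ({x} : Set G) ⊓ centralizer ({t} : Set G)
  set a := Nat.card (X.map (QuotientGroup.mk' (center G)))
  have ha1 : a ∣ m := card_centMap_x hmn hn hcop htop hsecond hx hy ▸
    card_dvd_of_le (map_mono inf_le_left)
  have ha2 : a * i ∣ m * n := by
    rw [← index_center_eq hmn hn hcop htop hsecond hx hy, ← card_centMap_mul t]
    exact Nat.mul_dvd_mul (card_dvd_of_le (map_mono inf_le_right)) hit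
  have ha3 : a * i ∣ m :=
    Nat.Coprime.dvd_of_dvd_mul_right ((hcop.coprime_dvd_left ha1).mul_left
      (hcop.coprime_dvd_left him)) ha2
  have hX : Nat.card X = a * Nat.card (center G) :=
    (card_map_mk_mul (le_inf (center_le_centralizer _) (center_le_centralizer _))).symm
  have hWX : Nat.card W ≤ Nat.card X := by
    rw [← card_map_of_injective U.subtype_injective]
    refine card_le_of_le ?_
    rw [subgroupOf_map_subtype]
    exact le_inf inf_le_left (inf_le_right.trans hUt)
  have hG : Nat.card (center G) * (m * n) = Nat.card U * U.index := by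
    rw [← index_center_eq hmn hn hcop htop hsecond hx hy, card_mul_index, card_mul_index]
  rw [← W.card_mul_index] at hG
  have hWpos : 0 < Nat.card W := Nat.card_pos
  have : Nat.card (center G) * (m * n) < Nat.card (center G) * (m * n) :=
    calc Nat.card (center G) * (m * n) = Nat.card W * W.index * U.index := hG
      _ ≤ Nat.card W * W.index * n := Nat.mul_le_mul_left _ hUn
      _ < Nat.card W * i * n := by
          refine Nat.mul_lt_mul_of_pos_right ?_ (by omega)
          exact Nat.mul_lt_mul_of_pos_left horb hWpos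
      _ ≤ (a * Nat.card (center G)) * i * n := by
          refine Nat.mul_le_mul_right _ (Nat.mul_le_mul_right _ (hX ▸ hWX))
      _ = Nat.card (center G) * ((a * i) * n) := by ring
      _ ≤ _ := Nat.mul_le_mul_left _ (Nat.mul_le_mul_right _ (Nat.le_of_dvd (by omega) ha3))
  exact lt_irrefl _ this

theorem index_cent_eq_of_mem {t : G} (ht : t ∈ centralizer ({y} : Set G)) (htZ : t ∉ center G) :
    (centralizer ({t} : Set G)).index = m := by
  classical
  by_contra hne
  have hle : (centralizer ({t} : Set G)).index ≤ n := hsecond _ (lt_of_le_of_ne (htop _) hne)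
  set M := smallSub y
  have hxM : x ∈ M := subset_closure (isSmall_of_index_x hmn hn hcop htop hsecond hx hy)
  have hconjM : ∀ u : G, u * x * u⁻¹ ∈ M := fun u => (inferInstance : M.Normal).conj_mem _ hxM u
  let ψ : M →* G := commHom M t fun u hu v hv =>
    classStab_commute_smallSub (comm_mem_classStab hv t) hu
  have hit : Nat.card ψ.range ∣ (centralizer ({t} : Set G)).index := by
    have h1 : ψ.ker = (centralizer ({t} : Set G)).subgroupOf M := by
      ext v
      rw [MonoidHom.mem_ker, mem_subgroupOf, mem_cent_comm]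
      exact mul_inv_eq_one.trans mul_inv_eq_iff_eq_mul
    rw [← index_ker ψ, h1]
    exact relIndex_dvd_index_right _ _
  have hker : ∀ v : M, ψ v = 1 → (v : G) ∈ center G := fun v hv =>
    fpf hmn hn hcop htop hsecond hx hy ht htZ v.2
      (mul_inv_eq_iff_eq_mul.mp (mul_inv_eq_one.mp hv)).symm
  have hxne : ∀ u : G, ψ ⟨u * x * u⁻¹, hconjM u⟩ ≠ 1 := fun u h1 => by
    have := hker _ h1
    rw [← index_cent_eq_one_iff, index_cent_conj, hx] at this
    omega
  let g : (ConjClasses.mk x).carrier → {v : ψ.range // v ≠ 1} := fun s =>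
    ⟨⟨ψ ⟨s, by
      obtain ⟨s, hs⟩ := s
      rw [ConjClasses.mem_carrier_iff_mk_eq, ConjClasses.mk_eq_mk_iff_isConj] at hs
      obtain ⟨u, rfl⟩ := isConj_iff.mp hs.symm
      exact hconjM u⟩, ⟨_, rfl⟩⟩, by
      obtain ⟨s, hs⟩ := s
      rw [ConjClasses.mem_carrier_iff_mk_eq, ConjClasses.mk_eq_mk_iff_isConj] at hs
      obtain ⟨u, rfl⟩ := isConj_iff.mp hs.symm
      exact fun h1 => hxne u (congrArg Subtype.val h1)⟩
  have hg : Function.Injective g := by
    rintro ⟨s, hs⟩ ⟨s', hs'⟩ he
    rw [ConjClasses.mem_carrier_iff_mk_eq, ConjClasses.mk_eq_mk_iff_isConj] at hs hs'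
    obtain ⟨u, rfl⟩ := isConj_iff.mp hs.symm
    obtain ⟨u', rfl⟩ := isConj_iff.mp hs'.symm
    have h1 := congrArg (fun v : {v : ψ.range // v ≠ 1} => ((v : ψ.range) : G)) he
    have h2 : ψ ((⟨u' * x * u'⁻¹, hconjM u'⟩ : M)⁻¹ * ⟨u * x * u⁻¹, hconjM u⟩) = 1 := by
      rw [map_mul, map_inv, show ψ ⟨u * x * u⁻¹, hconjM u⟩ = ψ ⟨u' * x * u'⁻¹, hconjM u'⟩ from h1,
        inv_mul_cancel]
    have hdZ : (u' * x * u'⁻¹)⁻¹ * (u * x * u⁻¹) ∈ center G := hker _ h2
    -- write `u'⁻¹ u` as an element of `C(y)` times one of `C(x)`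
    obtain ⟨c, hc, e, he', hce⟩ := exists_mul_of_coprime_cent
      (show (centralizer ({y} : Set G)).index.Coprime (centralizer ({x} : Set G)).index by
        rw [hx, hy]; exact hcop) (u'⁻¹ * u)
    set d := (u' * x * u'⁻¹)⁻¹ * (u * x * u⁻¹) with hd
    have hce' : u = u' * c * e := by rw [mul_assoc, ← hce, mul_inv_cancel_left]
    have hd1 : c * x * c⁻¹ = x * d := by
      have he2 : e * x * e⁻¹ = x := by rw [mem_cent.mp he', mul_inv_cancel_right]
      have h3 : u * x * u⁻¹ = u' * (c * x * c⁻¹) * u'⁻¹ := by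
        rw [hce']
        calc u' * c * e * x * (u' * c * e)⁻¹ = u' * (c * (e * x * e⁻¹) * c⁻¹) * u'⁻¹ := by group
          _ = _ := by rw [he2]
      have h4 : d = u' * (x⁻¹ * (c * x * c⁻¹)) * u'⁻¹ := by rw [hd, h3]; group
      have h5 : x⁻¹ * (c * x * c⁻¹) = d := by
        calc x⁻¹ * (c * x * c⁻¹) = u'⁻¹ * d * u' := by rw [h4]; group
          _ = _ := by rw [(commute_center (g := u'⁻¹) hdZ).eq]; group
      rw [← h5, mul_inv_cancel_left]
    have hpow : ∀ k : ℕ, c ^ k * x * (c ^ k)⁻¹ = x * d ^ k := by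
      intro k
      induction k with
      | zero => simp
      | succ k ih =>
        calc c ^ (k + 1) * x * (c ^ (k + 1))⁻¹ = c * (c ^ k * x * (c ^ k)⁻¹) * c⁻¹ := by
              rw [pow_succ']; group
          _ = c * x * c⁻¹ * (c * d ^ k * c⁻¹) := by rw [ih]; group
          _ = x * d * d ^ k := by
              rw [hd1, (commute_center (g := c) (pow_mem hdZ k)).eq, mul_inv_cancel_right]
          _ = _ := by rw [pow_succ', mul_assoc]
    have hdn : d ^ n = 1 := by
      have h4 := hpow n
      rw [← (commute_center (g := x) (pow_n_mem_center hmn hn hcop htop hsecond hx hy hc)).eq,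
        mul_inv_cancel_right] at h4
      exact mul_eq_left.mp h4.symm
    have hdS : d ∈ classStab y := by
      have h2 := comm_mem_classStab hxM u
      have h3 := comm_mem_classStab hxM u'
      rw [show d = x⁻¹ * ((u' * x * u'⁻¹ * x⁻¹)⁻¹ * (u * x * u⁻¹ * x⁻¹)) * x⁻¹⁻¹ by
        rw [hd]; group]
      exact (classStab_normal y).conj_mem _ (mul_mem (inv_mem h3) h2) x⁻¹
    have hd0 : d = 1 := orderOf_eq_one_iff.mp (Nat.eq_one_of_dvd_coprimes hcop.symm
      (orderOf_dvd_of_pow_eq_one hdn)
      (hy ▸ (Subgroup.orderOf_dvd_natCard _ hdS).trans (card_classStab_dvd y)))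
    exact Subtype.ext (inv_mul_eq_one.mp hd0).symm
  have h1 : n < Nat.card ψ.range := by
    have := Fintype.ofFinite ψ.range
    rw [← hx, ← card_carrier_eq_index]
    refine lt_of_le_of_lt (Nat.card_le_card_of_injective g hg) ?_
    rw [Nat.card_eq_fintype_card, Nat.card_eq_fintype_card]
    exact Fintype.card_subtype_lt (x := 1) (by simp)
  have := Nat.le_of_dvd (cent_pos t) hit
  omega

theorem cent_eq_of_le {t : G} (ht : t ∈ centralizer ({y} : Set G)) (htZ : t ∉ center G)
    (hle : centralizer ({y} : Set G) ≤ centralizer ({t} : Set G)) :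
    centralizer ({y} : Set G) = centralizer ({t} : Set G) :=
  eq_of_le_of_card_ge hle (le_of_eq (Nat.eq_of_mul_eq_mul_right (cent_pos y) (by
    rw [card_cent_mul_index, hy, ← index_cent_eq_of_mem hmn hn hcop htop hsecond hx hy ht htZ,
      card_cent_mul_index])))

theorem smallSub_le_cent : smallSub y ≤ centralizer ({x} : Set G) := fun v hv =>
  mem_cent_comm.mpr (smallSub_comm
    (subset_closure (isSmall_of_index_x hmn hn hcop htop hsecond hx hy)) hv)

theorem cent_y_comm {u v : G} (hu : u ∈ centralizer ({y} : Set G))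
    (hv : v ∈ centralizer ({y} : Set G)) : Commute u v := by
  set B := centralizer ({y} : Set G)
  obtain ⟨y', q, t, hq, hqn, hy', hyord, hle⟩ := exists_good_y hmn hn hcop htop hsecond hx hy
  have hBy : B = centralizer ({y'} : Set G) := eq_of_le_of_card_ge hle
    (le_of_eq (Nat.eq_of_mul_eq_mul_right (cent_pos y) (by
      rw [card_cent_mul_index, hy, ← hy', card_cent_mul_index])))
  have hy'Z : y' ∉ center G := fun h => by
    rw [index_cent_eq_one_iff.mpr h] at hy'; omega
  obtain ⟨r', j, hr', hr'd, hjZ, hjq⟩ := exists_prime_ordZ hy'Z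
  have hr'q : r' = q := (Nat.prime_dvd_prime_iff_eq hr' hq).mp
    (hr'.dvd_of_dvd_pow (hr'd.trans hyord))
  subst hr'q
  set v0 := y' ^ j
  have hv0B : v0 ∈ B := hBy ▸ pow_mem (mem_cent_comm.mpr (Commute.refl y')) j
  have hv0 : B = centralizer ({v0} : Set G) :=
    cent_eq_of_le hmn hn hcop htop hsecond hx hy hv0B hjZ
      (hBy.le.trans (cent_le_cent_pow y' j))
  -- the centre of `B`
  let K : Subgroup G :=
    { carrier := {s | s ∈ B ∧ B ≤ centralizer ({s} : Set G)}
      one_mem' := ⟨one_mem _, fun w _ => mem_cent_comm.mpr (Commute.one_left w)⟩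
      mul_mem' := fun {a b} ha hb => ⟨mul_mem ha.1 hb.1, fun w hw => mem_cent_comm.mpr
        ((mem_cent_comm.mp (ha.2 hw)).mul_left (mem_cent_comm.mp (hb.2 hw)))⟩
      inv_mem' := fun {a} ha => ⟨inv_mem ha.1, fun w hw => mem_cent_comm.mpr
        (mem_cent_comm.mp (ha.2 hw)).inv_left⟩ }
  suffices h : B ≤ K from mem_cent_comm.mp ((h hu).2 hv)
  intro s hs
  by_contra hsK
  have hne : orderOf s ≠ 1 := fun h => hsK (orderOf_eq_one_iff.mp h ▸ one_mem K)
  -- find a prime-power part outside `K`
  obtain ⟨i, r, k, hr, hi, hord⟩ : ∃ i r k : ℕ, r.Prime ∧ s ^ i ∉ K ∧ ordZ (s ^ i) ∣ r ^ k := by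
    by_contra hall
    push Not at hall
    apply hsK
    have key : ∀ N : ℕ, 0 < N → ∀ i : ℕ, ordZ (s ^ i) ∣ N → s ^ i ∈ K := by
      intro N
      induction N using Nat.strong_induction_on with
      | _ N ih =>
        intro hN i hi
        by_cases h1 : N = 1
        · have h2 := ordZ_dvd_iff.mp (h1 ▸ hi)
          rw [pow_one] at h2
          exact ⟨pow_mem hs i, fun w _ => mem_cent_comm.mpr (commute_center h2).symm⟩
        obtain ⟨r, hr, hrN⟩ := Nat.exists_prime_and_dvd h1
        obtain ⟨a, M, hM, hNM⟩ := Nat.exists_eq_pow_mul_and_not_dvd hN.ne' r hr.ne_one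
        have hMpos : 0 < M := Nat.pos_of_ne_zero fun h => hM (h ▸ dvd_zero r)
        have hlt : M < N := by
          rw [hNM]
          refine lt_mul_of_one_lt_left hMpos (Nat.one_lt_pow (fun ha => ?_) hr.one_lt)
          rw [ha, pow_zero, one_mul] at hNM
          exact hM (hNM ▸ hrN)
        have hA : s ^ (i * r ^ a) ∈ K := by
          refine ih M hlt hMpos _ ?_
          rw [ordZ_dvd_iff, ← pow_mul, mul_assoc, ← hNM, pow_mul]
          exact ordZ_dvd_iff.mp hi
        have hB : s ^ (i * M) ∈ K := by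
          by_contra hnot
          refine hall (i * M) r a hr hnot ?_
          rw [ordZ_dvd_iff, ← pow_mul, mul_assoc, mul_comm M, ← hNM, pow_mul]
          exact ordZ_dvd_iff.mp hi
        have hco : (r ^ a).Coprime M := (hr.coprime_iff_not_dvd.mpr hM).pow_left a
        rw [pow_mul] at hA hB
        have h1 : s ^ i = ((s ^ i) ^ (r ^ a)) ^ (Nat.gcdA (r ^ a) M) *
            ((s ^ i) ^ M) ^ (Nat.gcdB (r ^ a) M) := by
          rw [← zpow_natCast (s ^ i) (r ^ a), ← zpow_natCast (s ^ i) M, ← zpow_mul, ← zpow_mul,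
            ← zpow_add, ← Nat.gcd_eq_gcd_ab, hco.gcd_eq_one, Nat.cast_one, zpow_one]
        rw [h1]
        exact mul_mem (zpow_mem hA _) (zpow_mem hB _)
    simpa using key (ordZ s) (orderOf_pos _) 1 (by rw [pow_one])
  have hwB : s ^ i ∈ B := pow_mem hs i
  set w := s ^ i
  have hwZ : w ∉ center G := fun h => hi ⟨hwB, fun g _ => mem_cent_comm.mpr (commute_center h).symm⟩
  apply hi
  refine ⟨hwB, ?_⟩
  by_cases hrq : r = r'
  swap
  · -- other primes
    have hco : (ordZ y').Coprime (ordZ w) := Nat.Coprime.coprime_dvd_left hyord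
      (Nat.Coprime.coprime_dvd_right hord
        (((Nat.coprime_primes hq hr).mpr (Ne.symm hrq)).pow t k))
    have hwy : Commute y' w := mem_cent_comm.mp (hBy ▸ hwB)
    have hinf := cent_mul_eq_inf hwy hco
    have hh : centralizer ({y' * w} : Set G) = centralizer ({y'} : Set G) := by
      refine eq_of_le_of_card_ge (hinf.le.trans inf_le_left) (le_of_eq ?_)
      refine Nat.eq_of_mul_eq_mul_right (cent_pos y') ?_
      have heq : (centralizer ({y' * w} : Set G)).index = (centralizer ({y'} : Set G)).index :=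
        le_antisymm (hy' ▸ htop _)
          (Nat.le_of_dvd (cent_pos _) (index_dvd_of_le (hinf.le.trans inf_le_left)))
      rw [card_cent_mul_index, ← heq, card_cent_mul_index]
    rw [hBy, ← hh]
    exact hinf.le.trans inf_le_right
  subst hrq
  -- the prime `q`: a power `u0` of order `q` modulo the centre has the same centralizer as `y`
  obtain ⟨q', l, hq', hq'd, hlZ, hlq⟩ := exists_prime_ordZ hwZ
  have hq'r : q' = r := (Nat.prime_dvd_prime_iff_eq hq' hr).mp
    (hq'.dvd_of_dvd_pow (hq'd.trans hord))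
  subst hq'r
  set u0 := w ^ l
  have hu0B : u0 ∈ B := pow_mem hwB l
  set π := QuotientGroup.mk' (center G)
  have huv : Commute u0 v0 := (mem_cent_comm.mp (hv0 ▸ hu0B)).symm
  set A := zpowers (π u0) ⊔ zpowers (π v0)
  set V := (smallSub y).map π
  have hVcomm : IsMulCommutative V := ⟨⟨fun a b => Subtype.ext (by
    obtain ⟨a', ha', ha''⟩ := a.2
    obtain ⟨b', hb', hb''⟩ := b.2
    show (a : G ⧸ center G) * b = b * a
    rw [← ha'', ← hb'', ← map_mul, ← map_mul, (smallSub_comm ha' hb').eq])⟩⟩
  have hVne : V ≠ ⊥ := by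
    rw [ne_eq, Subgroup.map_eq_bot_iff, QuotientGroup.ker_mk']
    intro h
    have := index_cent_eq_one_iff.mpr
      (h (subset_closure (isSmall_of_index_x hmn hn hcop htop hsecond hx hy)))
    rw [hx] at this
    omega
  have hVn : V.Normal := Subgroup.Normal.map inferInstance _ (QuotientGroup.mk'_surjective _)
  have hAle : A ≤ B.map π := sup_le (zpowers_le.mpr (mem_map_of_mem π hu0B))
    (zpowers_le.mpr (mem_map_of_mem π hv0B))
  have hfpf : ∀ a ∈ A, a ≠ 1 → V ⊓ centralizer {a} = ⊥ := by
    intro a ha hane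
    obtain ⟨a0, ha0, rfl⟩ := hAle ha
    have ha0Z : a0 ∉ center G := fun h => hane ((QuotientGroup.eq_one_iff a0).mpr h)
    refine (eq_bot_iff_forall _).mpr ?_
    rintro _ ⟨⟨m0, hm0, rfl⟩, hm0c⟩
    refine (QuotientGroup.eq_one_iff m0).mpr
      (fpf hmn hn hcop htop hsecond hx hy ha0 ha0Z hm0 ?_)
    set d := a0 * m0 * a0⁻¹ * m0⁻¹ with hd
    have hdZ : d ∈ center G := by
      rw [← QuotientGroup.eq_one_iff]
      show π d = 1
      rw [hd, map_mul, map_mul, map_mul, map_inv, map_inv, (mem_cent_comm.mp hm0c).eq,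
        mul_inv_cancel_right, mul_inv_cancel]
    have hpow : ∀ k : ℕ, a0 ^ k * m0 * (a0 ^ k)⁻¹ = d ^ k * m0 := by
      intro k
      induction k with
      | zero => simp
      | succ k ih =>
        calc a0 ^ (k + 1) * m0 * (a0 ^ (k + 1))⁻¹
            = a0 * (a0 ^ k * m0 * (a0 ^ k)⁻¹) * a0⁻¹ := by rw [pow_succ']; group
          _ = a0 * d ^ k * m0 * a0⁻¹ := by rw [ih]; group
          _ = d ^ k * (a0 * m0 * a0⁻¹) := by
              rw [(commute_center (g := a0) (pow_mem hdZ k)).eq]; group
          _ = d ^ (k + 1) * m0 := by rw [pow_succ, hd]; group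
    have h4 := hpow n
    rw [← (commute_center (g := m0) (pow_n_mem_center hmn hn hcop htop hsecond hx hy ha0)).eq,
      mul_inv_cancel_right] at h4
    have hd0 : d = 1 := orderOf_eq_one_iff.mp (Nat.eq_one_of_dvd_coprimes hcop.symm
      (orderOf_dvd_of_pow_eq_one (mul_eq_right.mp h4.symm))
      (hy ▸ (Subgroup.orderOf_dvd_natCard _ (comm_mem_classStab hm0 a0)).trans
        (card_classStab_dvd y)))
    exact (mul_inv_eq_iff_eq_mul.mp (mul_inv_eq_one.mp hd0)).symm
  have hAcomm : IsMulCommutative A := by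
    have h1 : Commute (π u0) (π v0) := huv.map π
    rw [← le_centralizer_iff_isMulCommutative]
    refine sup_le ?_ ?_ <;> rw [zpowers_le, mem_centralizer_iff] <;> intro a ha <;>
      refine (?_ : Commute a _).eq
    · have : A ≤ centralizer ({π u0} : Set (G ⧸ center G)) := sup_le
        (zpowers_le.mpr (mem_cent_comm.mpr (Commute.refl _)))
        (zpowers_le.mpr (mem_cent_comm.mpr h1))
      exact (mem_cent_comm.mp (this ha)).symm
    · have : A ≤ centralizer ({π v0} : Set (G ⧸ center G)) := sup_le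
        (zpowers_le.mpr (mem_cent_comm.mpr h1.symm))
        (zpowers_le.mpr (mem_cent_comm.mpr (Commute.refl _)))
      exact (mem_cent_comm.mp (this ha)).symm
  have hcyc : IsCyclic A := H2.isCyclic_of_fpf_subgroup A V
    le_normalizer_of_normal hVne hfpf (Or.inl hAcomm)
  have hoq : ∀ z : G, ordZ z ∣ q' → z ∉ center G → Nat.card (zpowers (π z)) = q' := by
    intro z hz hzZ
    rw [Nat.card_zpowers]
    exact ((Nat.dvd_prime hq').mp hz).resolve_left fun h => hzZ (by
      have := pow_ordZ_mem z
      rwa [show ordZ z = 1 from h, pow_one] at this)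
  have hmem : u0 ∈ zpowers v0 ⊔ center G := by
    have h1 : (zpowers (π u0)).subgroupOf A = (zpowers (π v0)).subgroupOf A :=
      H18.cyclic_subgroup_eq_of_card_eq (by
        rw [Nat.card_congr (subgroupOfEquivOfLe (le_sup_left : zpowers (π u0) ≤ A)).toEquiv,
          Nat.card_congr (subgroupOfEquivOfLe (le_sup_right : zpowers (π v0) ≤ A)).toEquiv,
          hoq u0 hlq hlZ, hoq v0 hjq hjZ])
    have h2 : (⟨π u0, le_sup_left (b := zpowers (π v0)) (mem_zpowers _)⟩ : A) ∈
        (zpowers (π v0)).subgroupOf A := h1 ▸ mem_subgroupOf.mpr (mem_zpowers _)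
    obtain ⟨e, he⟩ := mem_subgroupOf.mp h2
    have h3 : (v0 ^ e)⁻¹ * u0 ∈ center G := by
      rw [← QuotientGroup.eq_one_iff]
      show π _ = 1
      rw [map_mul, map_inv, map_zpow, show π v0 ^ e = π u0 from he, inv_mul_cancel]
    have := mul_mem (mem_sup_left (zpow_mem (mem_zpowers v0) e) : v0 ^ e ∈ zpowers v0 ⊔ center G)
      (mem_sup_right h3)
    rwa [mul_inv_cancel_left] at this
  have hu0 : B ≤ centralizer ({u0} : Set G) := by
    intro g hg
    obtain ⟨a, ha, b, hb, hab⟩ := mem_sup_of_normal_right.mp hmem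
    obtain ⟨e, rfl⟩ := ha
    rw [← hab]
    refine mem_cent_comm.mpr (Commute.mul_left ?_ (commute_center hb).symm)
    exact (mem_cent_comm.mp (hv0 ▸ hg)).zpow_left e
  have hu0eq := cent_eq_of_le hmn hn hcop htop hsecond hx hy hu0B hlZ hu0
  have hwle : centralizer ({w} : Set G) ≤ B := (cent_le_cent_pow w l).trans hu0eq.ge
  exact (eq_of_le_of_card_ge hwle (le_of_eq (Nat.eq_of_mul_eq_mul_right (cent_pos y) (by
    rw [card_cent_mul_index, hy, ← index_cent_eq_of_mem hmn hn hcop htop hsecond hx hy hwB hwZ,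
      card_cent_mul_index])))).ge

theorem cent_x_le : centralizer ({x} : Set G) ≤ smallSub y := by
  intro v hv
  by_cases hvZ : v ∈ center G
  · exact center_le_smallSub y hvZ
  set Cv := (centralizer ({v} : Set G)).map (QuotientGroup.mk' (center G))
  have hvm : ordZ v ∣ m :=
    card_centMap_x hmn hn hcop htop hsecond hx hy ▸ ordZ_dvd_card_map hv
  have hcard : Nat.card Cv * (centralizer ({v} : Set G)).index = m * n :=
    (card_centMap_mul v).trans (index_center_eq hmn hn hcop htop hsecond hx hy)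
  have hself : v ∈ centralizer ({v} : Set G) := mem_cent_comm.mpr (Commute.refl v)
  have hcentral : ∀ t : G, (centralizer ({t} : Set G)).index = m →
      v ∈ centralizer ({t} : Set G) → False := by
    intro t ht hvt
    have h1 := card_centMap_mul t
    rw [ht, index_center_eq hmn hn hcop htop hsecond hx hy, mul_comm m n] at h1
    have h2 : ordZ v ∣ n := Nat.eq_of_mul_eq_mul_right (by omega) h1 ▸ ordZ_dvd_card_map hvt
    apply hvZ
    simpa [Nat.eq_one_of_dvd_coprimes hcop hvm h2] using pow_ordZ_mem v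
  have hco : (Nat.card Cv).Coprime n := by
    refine Nat.coprime_of_dvd fun q hq hqC hqn => ?_
    have := Fact.mk hq
    obtain ⟨⟨τ, hτ⟩, hτq⟩ := exists_prime_orderOf_dvd_card' q hqC
    rw [orderOf_mk] at hτq
    obtain ⟨t0, ht0, rfl⟩ := hτ
    -- a conjugate of `τ` lies in the image of `C(y)`
    set π := QuotientGroup.mk' (center G)
    set By := (centralizer ({y} : Set G)).map π
    have hidx : By.index = m := by
      have h1 := By.card_mul_index
      rw [card_centMap_y hmn hn hcop htop hsecond hx hy,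
        show Nat.card (G ⧸ center G) = (center G).index from rfl,
        index_center_eq hmn hn hcop htop hsecond hx hy, mul_comm m n] at h1
      exact Nat.eq_of_mul_eq_mul_left (by omega) h1
    obtain ⟨P, hP⟩ := exists_sylow_le_of_not_dvd_index (p := q)
      (show ¬ q ∣ By.index by rw [hidx]; exact not_dvd_of_index hn hcop hq hqn)
    obtain ⟨T, hT⟩ := (IsPGroup.of_card (p := q) (G := zpowers (π t0)) (n := 1)
      (by rw [Nat.card_zpowers, hτq, pow_one])).exists_le_sylow
    obtain ⟨g, hg⟩ := MulAction.exists_smul_eq (G ⧸ center G) T P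
    obtain ⟨g, rfl⟩ := QuotientGroup.mk'_surjective (center G) g
    have h1 : π g * π t0 * (π g)⁻¹ ∈ By := by
      refine hP ?_
      rw [← hg, Sylow.coe_subgroup_smul]
      exact mem_map_of_mem (MulAut.conj (π g)).toMonoidHom (hT (mem_zpowers _))
    rw [← map_inv, ← map_mul, ← map_mul] at h1
    obtain ⟨b, hb, hbeq⟩ := h1
    have hbB : g * t0 * g⁻¹ ∈ centralizer ({y} : Set G) := by
      have h2 : b⁻¹ * (g * t0 * g⁻¹) ∈ center G := QuotientGroup.eq.mp hbeq
      have h3 := mul_mem hb (center_le_centralizer ({y} : Set G) h2)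
      rwa [mul_inv_cancel_left] at h3
    have ht0Z : g * t0 * g⁻¹ ∉ center G := fun h => by
      have h2 : t0 ∈ center G := by
        have := (inferInstance : (center G).Normal).conj_mem _ h g⁻¹
        convert this using 1
        group
      rw [show π t0 = 1 from (QuotientGroup.eq_one_iff t0).mpr h2, orderOf_one] at hτq
      exact hq.one_lt.ne hτq
    have hk := index_cent_eq_of_mem hmn hn hcop htop hsecond hx hy hbB ht0Z
    rw [index_cent_conj] at hk
    exact hcentral t0 hk (mem_cent_symm.mp ht0)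
  have hdvd : n ∣ (centralizer ({v} : Set G)).index :=
    hco.symm.dvd_of_dvd_mul_left (hcard ▸ dvd_mul_left n m)
  have hne : (centralizer ({v} : Set G)).index ≠ m := fun h => hcentral v h hself
  have heq : (centralizer ({v} : Set G)).index = n :=
    le_antisymm (hsecond _ (lt_of_le_of_ne (htop _) hne)) (Nat.le_of_dvd (cent_pos v) hdvd)
  exact subset_closure (isSmall_of_index_x hmn hn hcop htop hsecond heq hy)

theorem two_largest_coprime :
    IsMulCommutative (centralizer ({x} : Set G)) ∧ IsMulCommutative (centralizer ({y} : Set G)) ∧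
    Cfsg.IsFrobeniusComplement
      ((centralizer ({y} : Set G)).map (QuotientGroup.mk' (center G))) ∧
    Cfsg.frobeniusKernel ((centralizer ({y} : Set G)).map (QuotientGroup.mk' (center G))) =
      ((centralizer ({x} : Set G)).map (QuotientGroup.mk' (center G)) : Set (G ⧸ center G)) := by
  have hM : centralizer ({x} : Set G) = smallSub y :=
    le_antisymm (cent_x_le hmn hn hcop htop hsecond hx hy)
      (smallSub_le_cent hmn hn hcop htop hsecond hx hy)
  set π := QuotientGroup.mk' (center G)
  have hcx : ∀ a ∈ centralizer ({x} : Set G), ∀ b ∈ centralizer ({x} : Set G), Commute a b :=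
    fun a ha b hb => smallSub_comm (hM ▸ ha) (hM ▸ hb)
  have hKn : ((centralizer ({x} : Set G)).map π).Normal :=
    hM ▸ Subgroup.Normal.map inferInstance _ (QuotientGroup.mk'_surjective _)
  have hcardx := card_centMap_x hmn hn hcop htop hsecond hx hy
  have hcardy := card_centMap_y hmn hn hcop htop hsecond hx hy
  have hc : IsComplement' ((centralizer ({x} : Set G)).map π)
      ((centralizer ({y} : Set G)).map π) := by
    refine isComplement'_of_coprime ?_ (by rw [hcardx, hcardy]; exact hcop)
    rw [hcardx, hcardy]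
    exact (index_center_eq hmn hn hcop htop hsecond hx hy).symm
  have hFr : Cfsg.IsFrobeniusComplement ((centralizer ({y} : Set G)).map π) := by
    refine H2.frobenius_of_fpf hc ?_ ?_ ?_
    · intro h
      rw [h, card_bot] at hcardx
      omega
    · intro h
      rw [h, card_bot] at hcardy
      omega
    rintro _ ⟨a0, ha0, rfl⟩ hane
    have ha0Z : a0 ∉ center G := fun h => hane ((QuotientGroup.eq_one_iff a0).mpr h)
    refine (eq_bot_iff_forall _).mpr ?_
    rintro _ ⟨⟨m0, hm0, rfl⟩, hm0c⟩
    have hm0' : m0 ∈ smallSub y := hM ▸ hm0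
    refine (QuotientGroup.eq_one_iff m0).mpr
      (fpf hmn hn hcop htop hsecond hx hy ha0 ha0Z hm0' ?_)
    set d := a0 * m0 * a0⁻¹ * m0⁻¹ with hd
    have hdZ : d ∈ center G := by
      rw [← QuotientGroup.eq_one_iff]
      show π d = 1
      rw [hd, map_mul, map_mul, map_mul, map_inv, map_inv, (mem_cent_comm.mp hm0c).eq,
        mul_inv_cancel_right, mul_inv_cancel]
    have hd0 : d = 1 := by
      have hds := comm_mem_classStab hm0' a0
      have h1 : (d * m0) ^ n = m0 ^ n * d ^ n := by
        rw [(classStab_commute_smallSub hds hm0').mul_pow,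
          (commute_center (g := m0 ^ n) (pow_mem hdZ n)).eq]
      have hpow : ∀ k : ℕ, a0 ^ k * m0 * (a0 ^ k)⁻¹ = d ^ k * m0 := by
        intro k
        induction k with
        | zero => simp
        | succ k ih =>
          calc a0 ^ (k + 1) * m0 * (a0 ^ (k + 1))⁻¹
              = a0 * (a0 ^ k * m0 * (a0 ^ k)⁻¹) * a0⁻¹ := by rw [pow_succ']; group
            _ = a0 * d ^ k * m0 * a0⁻¹ := by rw [ih]; group
            _ = d ^ k * (a0 * m0 * a0⁻¹) := by
                rw [(commute_center (g := a0) (pow_mem hdZ k)).eq]; group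
            _ = d ^ (k + 1) * m0 := by rw [pow_succ, hd]; group
      have h4 := hpow n
      rw [← (commute_center (g := m0) (pow_n_mem_center hmn hn hcop htop hsecond hx hy ha0)).eq,
        mul_inv_cancel_right] at h4
      exact orderOf_eq_one_iff.mp (Nat.eq_one_of_dvd_coprimes hcop.symm
        (orderOf_dvd_of_pow_eq_one (mul_eq_right.mp h4.symm))
        (hy ▸ (Subgroup.orderOf_dvd_natCard _ hds).trans (card_classStab_dvd y)))
    exact (mul_inv_eq_iff_eq_mul.mp (mul_inv_eq_one.mp hd0)).symm
  refine ⟨⟨⟨fun a b => Subtype.ext (hcx a a.2 b b.2).eq⟩⟩,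
    ⟨⟨fun a b => Subtype.ext (cent_y_comm hmn hn hcop htop hsecond hx hy a.2 b.2).eq⟩⟩, hFr, ?_⟩
  have := hKn
  exact (H2.coe_eq_frobeniusKernel hc hFr).symm

end Main

end H27
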